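import Cfsg.Agent.Lib.Blocks.Star.Props
import Cfsg.Agent.Lib.Blocks.MaxPairs
import Cfsg.Agent.Lib.Blocks.Covering

/-!
# Stable functions on the defect group and the star action on a block
-/

namespace CfsgLib.Blocks

open Cfsg CfsgLib.CharTheory
open scoped ComplexConjugate

set_option linter.unusedVariables false
set_option linter.unusedSimpArgs false
set_option linter.style.haveILetI false
set_option linter.unusedSectionVars false
set_option maxHeartbeats 400000

universe u

variable {p : ℕ} {M : Ideal AlgInt} {G : Type u} [Group G] [Fintype G]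
  {B : Set (IrrCharacter G)} {P : Subgroup G}
  {e : Set (IrrCharacter (Subgroup.centralizer (P : Set G)))}

/-- `g` moves the pair `a` below `(P, e)`. -/
def Carries (p : ℕ) (M : Ideal AlgInt) (P : Subgroup G)
    (e : Set (IrrCharacter (Subgroup.centralizer (P : Set G)))) (g : G) (a : BrauerPairIdx G) :
    Prop :=
  Relation.ReflTransGen (NormalSubpairRel p M) (conjIdx g a) ⟨P, e⟩

/-- A function on `G` whose values on `P` respect the fusion of pairs below `(P, e)`. -/
def IsStableFun (p : ℕ) (M : Ideal AlgInt) (P : Subgroup G)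
    (e : Set (IrrCharacter (Subgroup.centralizer (P : Set G)))) (η : G → ℂ) : Prop :=
  ∀ (g x : G) (a : BrauerPairIdx G), a.1 = Subgroup.zpowers x → Carries p M P e 1 a →
    Carries p M P e g a → η (g * x * g⁻¹) = η x

open Classical in
/-- The weight on pairs attached to a function on `P`. -/
noncomputable def pairW (p : ℕ) (M : Ideal AlgInt) (P : Subgroup G)
    (e : Set (IrrCharacter (Subgroup.centralizer (P : Set G)))) (η : G → ℂ) (a : BrauerPairIdx G)
    (x : G) : ℂ :=
  if h : a.1 = Subgroup.zpowers x ∧ ∃ g, Carries p M P e g a then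
    η (h.2.choose * x * h.2.choose⁻¹) else 0

theorem carries_conj (g t : G) (a : BrauerPairIdx G) :
    Carries p M P e g (conjIdx t a) ↔ Carries p M P e (g * t) a := by
  unfold Carries
  rw [conjIdx_mul]

theorem conjIdx_fst_zpowers {a : BrauerPairIdx G} {x : G} (h : a.1 = Subgroup.zpowers x) (g : G) :
    (conjIdx g a).1 = Subgroup.zpowers (g * x * g⁻¹) := by
  show a.1.map (MulAut.conj g).toMonoidHom = _
  rw [h]
  exact MonoidHom.map_zpowers (MulAut.conj g).toMonoidHom x

theorem IsStableFun.value_eq {η : G → ℂ} (hη : IsStableFun p M P e η) {a : BrauerPairIdx G}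
    {x g g' : G} (h1 : a.1 = Subgroup.zpowers x) (hg : Carries p M P e g a)
    (hg' : Carries p M P e g' a) : η (g' * x * g'⁻¹) = η (g * x * g⁻¹) := by
  have h := hη (g' * g⁻¹) (g * x * g⁻¹) (conjIdx g a) (conjIdx_fst_zpowers h1 g)
    (by rw [carries_conj, one_mul]; exact hg)
    (by rw [carries_conj, inv_mul_cancel_right]; exact hg')
  rw [← h]
  congr 1
  group

theorem pairW_eq {η : G → ℂ} (hη : IsStableFun p M P e η) {a : BrauerPairIdx G} {x g : G}
    (h1 : a.1 = Subgroup.zpowers x) (hg : Carries p M P e g a) :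
    pairW p M P e η a x = η (g * x * g⁻¹) := by
  have h : a.1 = Subgroup.zpowers x ∧ ∃ g, Carries p M P e g a := ⟨h1, g, hg⟩
  rw [pairW, dif_pos h]
  exact hη.value_eq h1 hg h.2.choose_spec

theorem pairW_none {η : G → ℂ} {a : BrauerPairIdx G} {x : G}
    (h : ¬ ∃ g, Carries p M P e g a) : pairW p M P e η a x = 0 := by
  rw [pairW, dif_neg fun h' => h h'.2]

theorem carries_mem {a : BrauerPairIdx G} {x g : G} (h1 : a.1 = Subgroup.zpowers x)
    (hg : Carries p M P e g a) : g * x * g⁻¹ ∈ P := by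
  have h := subpairLE_le (a := conjIdx g a) (b := ⟨P, e⟩) hg
  rw [conjIdx_fst_zpowers h1] at h
  exact h (Subgroup.mem_zpowers _)

/-- The pairs of the block are those that can be moved below `(P, e)`. -/
theorem carries_iff_pairOf (hM : IsPModular p M) (hmax : IsMaximalBrauerPair p M B P e)
    {a : BrauerPairIdx G} :
    (∃ g, Carries p M P e g a) ↔ IsBrauerPairOf p M B a.1 a.2 := by
  constructor
  · rintro ⟨g, hg⟩
    have h1 := (pairOf_subpair_iff hM hg B).2 hmax.1
    have h2 := pairOf_conj hM h1 g⁻¹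
    rwa [conjIdx_mul, inv_mul_cancel, conjIdx_one] at h2
  · intro h
    exact exists_conj_subpair hM (m := ⟨P, e⟩) hmax h

theorem pairW_conjInv {η : G → ℂ} (hη : IsStableFun p M P e η) :
    PairConjInv M (pairW p M P e η) := by
  intro t x a ha
  have h1 := (mem_pairsAt.1 ha).1
  by_cases h : ∃ g, Carries p M P e g a
  · obtain ⟨g, hg⟩ := h
    rw [pairW_eq hη h1 hg, pairW_eq hη (conjIdx_fst_zpowers h1 t)
      (show Carries p M P e (g * t⁻¹) (conjIdx t a) by
        rw [carries_conj, inv_mul_cancel_right]; exact hg)]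
    congr 1
    group
  · rw [pairW_none h, pairW_none fun ⟨g, hg⟩ => h ⟨g * t, (carries_conj g t a).1 hg⟩]

theorem pairW_mul (η η' : G → ℂ) (a : BrauerPairIdx G) (x : G) :
    pairW p M P e η a x * pairW p M P e η' a x = pairW p M P e (η * η') a x := by
  by_cases h : a.1 = Subgroup.zpowers x ∧ ∃ g, Carries p M P e g a
  · simp only [pairW, dif_pos h, Pi.mul_apply]
  · simp only [pairW, dif_neg h, mul_zero]

theorem pairW_star (η : G → ℂ) (a : BrauerPairIdx G) (x : G) :
    conj (pairW p M P e η a x) = pairW p M P e (fun y => conj (η y)) a x := by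
  by_cases h : a.1 = Subgroup.zpowers x ∧ ∃ g, Carries p M P e g a
  · simp only [pairW, dif_pos h]
  · simp only [pairW, dif_neg h, map_zero]

theorem pairW_eq_of_eqOn (hM : IsPModular p M) (hmax : IsMaximalBrauerPair p M B P e)
    {η : G → ℂ} {r : ℂ} (hr : ∀ y ∈ P, η y = r) {a : BrauerPairIdx G} {x : G}
    (h1 : a.1 = Subgroup.zpowers x) (ha : IsBrauerPairOf p M B a.1 a.2) :
    pairW p M P e η a x = r := by
  have h : a.1 = Subgroup.zpowers x ∧ ∃ g, Carries p M P e g a :=
    ⟨h1, (carries_iff_pairOf hM hmax).2 ha⟩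
  rw [pairW, dif_pos h]
  exact hr _ (carries_mem h1 h.2.choose_spec)

theorem pairW_congr {η η' : G → ℂ} (h : ∀ y ∈ P, η y = η' y) (a : BrauerPairIdx G) (x : G) :
    pairW p M P e η a x = pairW p M P e η' a x := by
  by_cases hh : a.1 = Subgroup.zpowers x ∧ ∃ g, Carries p M P e g a
  · simp only [pairW, dif_pos hh]
    exact h _ (carries_mem hh.1 hh.2.choose_spec)
  · simp only [pairW, dif_neg hh]

/-- The star function of a stable generalized character is a generalized character. -/
theorem starW_genChar (hM : IsPModular p M) (hmax : IsMaximalBrauerPair p M B P e) {η : G → ℂ}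
    (hη : IsStableFun p M P e η) (hgen : IsGeneralizedCharacter P fun u : P => η u)
    (χ : IrrCharacter G) :
    IsGeneralizedCharacter G (starFun p M (pairW p M P e η) (χ : G → ℂ)) := by
  refine starFun_genChar hM (pairW_conjInv hη) (fun U hU f hf => ?_) (isCharacter_of_irr χ.2)
  by_cases h : ∃ g, Carries p M P e g ⟨U, f⟩
  · obtain ⟨g, hg⟩ := h
    have hle : U.map (MulAut.conj g).toMonoidHom ≤ P :=
      subpairLE_le (a := conjIdx g (⟨U, f⟩ : BrauerPairIdx G)) (b := ⟨P, e⟩) hg
    let θ : U →* P := ((MulAut.conj g).toMonoidHom.comp U.subtype).codRestrict P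
      fun x => hle ⟨x, x.2, rfl⟩
    have e : (fun x : U => pairW p M P e η
        (subIdx p M ⟨U, f⟩ (Subgroup.zpowers (x : G))) x) = fun x : U => η (θ x) := by
      funext x
      obtain ⟨h1, h2⟩ := subIdx_spec hM (a := (⟨U, f⟩ : BrauerPairIdx G)) hU hf
        (Q := Subgroup.zpowers (x : G)) (Subgroup.zpowers_le.2 x.2)
      exact pairW_eq hη (g := g) rfl ((subpair_conj hM h2 g).trans hg)
    rw [e]
    obtain ⟨a, b, ha, hb, hab⟩ := hgen
    exact ⟨_, _, isCharacter_comp ha θ, isCharacter_comp hb θ,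
      funext fun x => congrFun hab (θ x)⟩
  · have e : (fun x : U => pairW p M P e η
        (subIdx p M ⟨U, f⟩ (Subgroup.zpowers (x : G))) x) = (0 : U → ℂ) := by
      funext x
      obtain ⟨h1, h2⟩ := subIdx_spec hM (a := (⟨U, f⟩ : BrauerPairIdx G)) hU hf
        (Q := Subgroup.zpowers (x : G)) (Subgroup.zpowers_le.2 x.2)
      refine pairW_none fun hc => h ?_
      exact (carries_iff_pairOf hM hmax).2
        ((pairOf_subpair_iff hM h2 B).1 ((carries_iff_pairOf hM hmax).1 hc))
    rw [e]
    haveI := Fintype.ofFinite U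
    exact isGenChar_zero

/-- Values at regular elements. -/
theorem starW_regular (hM : IsPModular p M) (hmax : IsMaximalBrauerPair p M B P e) {η : G → ℂ}
    (hη : IsStableFun p M P e η) {χ : IrrCharacter G} (hχ : χ ∈ B) {g : G}
    (hg : ¬ p ∣ orderOf g) :
    starFun p M (pairW p M P e η) (χ : G → ℂ) g = η 1 * (χ : G → ℂ) g := by
  conv_lhs => rw [← one_mul g]
  rw [starFun_section (r := η 1) hM hmax.1.2.1 hχ ⟨0, by simp⟩
    (mem_regC.2 ⟨Commute.one_left g, hg⟩) (fun a ha hp => ?_), one_mul]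
  obtain ⟨t, ht⟩ := (carries_iff_pairOf hM hmax).2 hp
  rw [pairW_eq hη (mem_pairsAt.1 ha).1 ht, mul_one, mul_inv_cancel]

theorem starW_one (hM : IsPModular p M) (hmax : IsMaximalBrauerPair p M B P e) {η : G → ℂ}
    (hη : IsStableFun p M P e η) {χ : IrrCharacter G} (hχ : χ ∈ B) :
    starFun p M (pairW p M P e η) (χ : G → ℂ) 1 = η 1 * (χ : G → ℂ) 1 :=
  starW_regular hM hmax hη hχ (by simpa using hM.1.not_dvd_one)

/-- Proportional regular values imply equal blocks. -/
theorem mem_of_regular_prop (hM : IsPModular p M) (hB : IsPBlock M B) {χ ψ : IrrCharacter G}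
    (hχ : χ ∈ B) {r : ℂ} (hr : r ≠ 0)
    (h : ∀ g : G, ¬ p ∣ orderOf g → (ψ : G → ℂ) g = r * (χ : G → ℂ) g) : ψ ∈ B := by
  have h1 := h 1 (by simpa using hM.1.not_dvd_one)
  rw [eq_blockOf hM hB hχ]
  refine sameBlock_of_regular hM fun g hg => ?_
  show res hM (centralChar (χ : G → ℂ) g) = res hM (centralChar (ψ : G → ℂ) g)
  simp only [centralChar]
  rw [h g hg, h1, mul_div_assoc, mul_div_assoc, mul_div_mul_left _ _ hr]

/-- Weights of absolute value one preserve the norm. -/
theorem classInner_starW_unit (hM : IsPModular p M) (hmax : IsMaximalBrauerPair p M B P e)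
    {η : G → ℂ} (hη1 : ∀ y ∈ P, η y * conj (η y) = 1) {χ : IrrCharacter G} (hχ : χ ∈ B) :
    classInner (starFun p M (pairW p M P e η) (χ : G → ℂ))
      (starFun p M (pairW p M P e η) (χ : G → ℂ)) = 1 := by
  have hcl : IsClassFunction G (χ : G → ℂ) := irr_isClassFun χ
  have h1 := classInner_irr_self χ.2
  have hone : starFun p M (fun _ _ => (1 : ℂ)) (χ : G → ℂ) = (χ : G → ℂ) :=
    starFun_one hM hmax.1.2.1 hχ fun _ _ _ _ _ => rfl
  rw [← hone] at h1
  rw [classInner_starFun hM hcl hcl] at h1 ⊢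
  refine Eq.trans ?_ h1
  congr 1
  refine Finset.sum_congr rfl fun x hx => Finset.sum_congr rfl fun a ha => ?_
  by_cases hp : IsBrauerPairOf p M B a.1 a.2
  · congr 1
    rw [pairW_star, pairW_mul, map_one, one_mul]
    exact pairW_eq_of_eqOn hM hmax (r := 1) (fun y hy => hη1 y hy) (mem_pairsAt.1 ha).1 hp
  · have h0 : pairT p a x (χ : G → ℂ) (χ : G → ℂ) = 0 := Finset.sum_eq_zero fun c hc => by
      rw [pairVal_off hM hmax.1.2.1 hχ (mem_qElts.1 hx) ha hp hc, zero_mul]
    rw [h0, mul_zero, mul_zero]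

/-- A stable linear character moves irreducible characters of the block to such characters. -/
theorem exists_starLin (hM : IsPModular p M) (hmax : IsMaximalBrauerPair p M B P e)
    (l : P →* ℂˣ) (hl : IsStableFun p M P e (sext P fun u => (l u : ℂ))) {χ : IrrCharacter G}
    (hχ : χ ∈ B) :
    ∃ ψ : IrrCharacter G, (ψ : G → ℂ) =
        starFun p M (pairW p M P e (sext P fun u => (l u : ℂ))) (χ : G → ℂ) ∧
      ψ ∈ B ∧ charDegree (ψ : G → ℂ) = charDegree (χ : G → ℂ) := by
  set η : G → ℂ := sext P fun u => (l u : ℂ) with hηdef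
  have hval : ∀ u : P, η u = (l u : ℂ) := fun u => sext_coe P _ u
  have hη1 : η 1 = 1 := by
    rw [show η 1 = η ((1 : P) : G) from rfl, hval, map_one, Units.val_one]
  have hunit : ∀ y ∈ P, η y * conj (η y) = 1 := by
    intro y hy
    rw [show η y = (l ⟨y, hy⟩ : ℂ) from hval ⟨y, hy⟩, Complex.mul_conj,
      Complex.normSq_eq_norm_sq]
    have hfin : IsOfFinOrder (l ⟨y, hy⟩) := l.isOfFinOrder (isOfFinOrder_of_finite _)
    obtain ⟨n, hn, hn'⟩ := isOfFinOrder_iff_pow_eq_one.1 hfin
    have : ‖((l ⟨y, hy⟩ : ℂˣ) : ℂ)‖ = 1 := Complex.norm_eq_one_of_pow_eq_one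
      (by rw [← Units.val_pow_eq_pow_val, hn', Units.val_one]) hn.ne'
    rw [this, one_pow, Complex.ofReal_one]
  have hgen : IsGeneralizedCharacter P fun u : P => η u := by
    rw [show (fun u : P => η u) = fun u : P => (l u : ℂ) from funext hval]
    haveI := Fintype.ofFinite P
    exact isGenChar_of_char (isCharacter_of_irr (isIrrCharacter_linear l))
  have h1 := starW_one hM hmax hl hχ
  rw [hη1, one_mul] at h1
  have hirr := irr_of_norm_one (starW_genChar hM hmax hl hgen χ)
    (classInner_starW_unit hM hmax hunit hχ) (by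
      rw [h1, ← irr_charDegree_cast χ, Complex.natCast_re]
      exact_mod_cast irr_charDegree_pos χ)
  refine ⟨⟨_, hirr⟩, rfl, mem_of_regular_prop hM hmax.1.2.1 hχ one_ne_zero fun g hg => ?_, ?_⟩
  · show starFun p M (pairW p M P e η) (χ : G → ℂ) g = _
    rw [starW_regular hM hmax hl hχ hg, hη1]
  · show ⌊(starFun p M (pairW p M P e η) (χ : G → ℂ) 1).re⌋₊ = _
    rw [h1]
    rfl

end CfsgLib.Blocks
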