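import Cfsg.Agent.Lib.Blocks.Star.Conv
import Cfsg.Agent.Lib.CharTheory.Basic

/-!
# Relative traces from subgroups of index `p`, and characters on images of idempotents
-/

namespace CfsgLib.Blocks.Star

open Cfsg CfsgLib.CharTheory

set_option linter.unusedVariables false
set_option linter.unusedSectionVars false
set_option linter.unusedSimpArgs false

universe u

variable {G : Type u} [Group G] [Finite G] {p : ℕ} [Fact p.Prime]

/-- A subgroup of index `p`, normal in `U`. -/
structure MaxIn (p : ℕ) (U R : Subgroup G) : Prop where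
  le : R ≤ U
  card : p * Nat.card R = Nat.card U
  conj : ∀ u ∈ U, ∀ r ∈ R, u * r * u⁻¹ ∈ R
  pow : ∀ u ∈ U, u ^ p ∈ R

theorem exists_maxIn {U : Subgroup G} (hU : IsPGroup p U) {V : Subgroup G} (hV : V < U) :
    ∃ R, V ≤ R ∧ MaxIn p U R := by
  haveI : Group.IsNilpotent U := hU.isNilpotent
  rcases eq_top_or_exists_le_coatom (V.subgroupOf U) with h | ⟨K, hK, hVK⟩
  · exact absurd (Subgroup.subgroupOf_eq_top.1 h) hV.not_ge
  · have hKn : K.Normal :=
      Subgroup.NormalizerCondition.normal_of_coatom K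
        (fun H hH => Group.normalizerCondition_of_isNilpotent H hH) hK
    obtain ⟨a, ha⟩ := IsPGroup.iff_card.1 (hU.to_subgroup K)
    obtain ⟨b, hb⟩ := IsPGroup.iff_card.1 hU
    have hab : a < b := by
      have hlt : Nat.card K < Nat.card U := lt_of_le_of_ne K.card_le_card_group fun h =>
        hK.1 (Subgroup.eq_top_of_card_eq K h)
      rw [ha, hb] at hlt
      exact (Nat.pow_lt_pow_iff_right (Fact.out : p.Prime).one_lt).1 hlt
    obtain ⟨K', hK', hKK'⟩ := Sylow.exists_subgroup_card_pow_prime_le p (G := U) (n := a) (m := a + 1)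
      (hb ▸ pow_dvd_pow p hab) K ha (Nat.le_succ a)
    have htop : K' = ⊤ := hK.2 K' (lt_of_le_of_ne hKK' fun h => by
      rw [← h, ha] at hK'
      have := Nat.pow_right_injective (Fact.out : p.Prime).two_le hK'
      omega)
    have hcard : p * Nat.card K = Nat.card U := by
      rw [htop, Subgroup.card_top] at hK'
      rw [hK', ha, pow_succ']
    have hidx : K.index = p := by
      have := K.card_mul_index
      rw [← hcard, mul_comm p] at this
      exact Nat.eq_of_mul_eq_mul_left Nat.card_pos this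
    refine ⟨K.map U.subtype, fun v hv => ⟨⟨v, hV.le hv⟩, hVK hv, rfl⟩,
      Subgroup.map_subtype_le K, ?_, ?_, ?_⟩
    · rw [Subgroup.card_map_of_injective U.subtype_injective, hcard]
    · rintro u hu _ ⟨r, hr, rfl⟩
      exact ⟨⟨u, hu⟩ * r * ⟨u, hu⟩⁻¹, hKn.conj_mem r hr _, rfl⟩
    · intro u hu
      exact ⟨⟨u, hu⟩ ^ p, hidx ▸ K.pow_index_mem _, rfl⟩

theorem MaxIn.exists_unique_coset {U R : Subgroup G} (hR : MaxIn p U R) {u : G} (hu : u ∈ U)
    (huR : u ∉ R) {v : G} (hv : v ∈ U) :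
    ∃ j < p, (u ^ j)⁻¹ * v ∈ R ∧ ∀ j' < p, (u ^ j')⁻¹ * v ∈ R → j' = j := by
  set K := R.subgroupOf U with hKdef
  haveI hn : K.Normal := ⟨fun r hr w => by
    simpa [hKdef, Subgroup.mem_subgroupOf] using hR.conj w w.2 r (Subgroup.mem_subgroupOf.1 hr)⟩
  set q : U ⧸ K := QuotientGroup.mk ⟨u, hu⟩ with hq
  have hqp : q ^ p = 1 := by
    rw [hq, ← QuotientGroup.mk_pow, QuotientGroup.eq_one_iff]
    exact Subgroup.mem_subgroupOf.2 (hR.pow u hu)
  have hord : orderOf q = p := orderOf_eq_prime hqp fun h => huR (by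
    rw [hq, QuotientGroup.eq_one_iff] at h; exact Subgroup.mem_subgroupOf.1 h)
  have hcard : Nat.card (U ⧸ K) = p := by
    have h := K.card_eq_card_quotient_mul_card_subgroup
    rw [Nat.card_congr (Subgroup.subgroupOfEquivOfLe hR.le).toEquiv, ← hR.card] at h
    exact (Nat.eq_of_mul_eq_mul_right Nat.card_pos h).symm
  have hiff : ∀ j : ℕ, (u ^ j)⁻¹ * v ∈ R ↔ q ^ j = QuotientGroup.mk ⟨v, hv⟩ := fun j => by
    rw [hq, ← QuotientGroup.mk_pow, QuotientGroup.eq, Subgroup.mem_subgroupOf]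
    simp
  have htop : Subgroup.zpowers q = ⊤ :=
    Subgroup.eq_top_of_card_eq _ (by rw [Nat.card_zpowers, hord, hcard])
  obtain ⟨j, hj⟩ := Submonoid.mem_powers_iff _ _ |>.1
    (mem_powers_iff_mem_zpowers.2 (htop ▸ Subgroup.mem_top (QuotientGroup.mk ⟨v, hv⟩ : U ⧸ K)))
  refine ⟨j % p, Nat.mod_lt _ (Fact.out : p.Prime).pos, (hiff _).2 ?_, fun j' hj' h => ?_⟩
  · rw [← hj, ← hord, pow_mod_orderOf]
  · have h1 := (hiff j').1 h
    rw [← hj, pow_eq_pow_iff_modEq, hord] at h1
    rwa [Nat.ModEq, Nat.mod_eq_of_lt hj'] at h1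

open Classical in
/-- Functions vanishing on `C(U)` are sums of relative traces from index `p` subgroups. -/
theorem exists_trace_decomp [Fintype G] {U C : Subgroup G} (hU : IsPGroup p U)
    (hC : ∀ c ∈ C, ¬ p ∣ orderOf c) (hUC : ∀ u ∈ U, ∀ c ∈ C, u * c = c * u)
    {α : Type*} [AddCommMonoid α] (f : G → α) (hfU : ∀ u ∈ U, ∀ x, f (u * x * u⁻¹) = f x)
    (hfC : ∀ c ∈ C, ∀ x, f (c * x * c⁻¹) = f x)
    (hsupp : ∀ x ∈ Subgroup.centralizer (U : Set G), f x = 0) :
    ∃ (s : Finset (Subgroup G)) (y z : Subgroup G → G → α),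
      (∀ R ∈ s, MaxIn p U R ∧
        (∀ r ∈ (R : Set G) ∪ C, ∀ x, y R (r * x * r⁻¹) = y R x) ∧
        (∀ r ∈ (U : Set G) ∪ C, ∀ x, z R (r * x * r⁻¹) = z R x) ∧
        ∀ u ∈ U, u ∉ R → ∀ x,
          ∑ j ∈ Finset.range p, y R ((u ^ j)⁻¹ * x * u ^ j) = z R x) ∧
      ∀ x, ∑ R ∈ s, z R x = f x := by
  let rel : G → G → Prop := fun x y => ∃ u ∈ U, ∃ c ∈ C, y = u * c * x * (u * c)⁻¹
  have hrefl : ∀ x, rel x x := fun x => ⟨1, U.one_mem, 1, C.one_mem, by simp⟩
  have hsymm : ∀ {x y}, rel x y → rel y x := by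
    rintro x y ⟨u, hu, c, hc, rfl⟩
    refine ⟨u⁻¹, U.inv_mem hu, c⁻¹, C.inv_mem hc, ?_⟩
    rw [hUC _ (U.inv_mem hu) _ (C.inv_mem hc)]; group
  have htrans : ∀ {x y z}, rel x y → rel y z → rel x z := by
    rintro x y z ⟨u, hu, c, hc, rfl⟩ ⟨u', hu', c', hc', rfl⟩
    refine ⟨u' * u, U.mul_mem hu' hu, c' * c, C.mul_mem hc' hc, ?_⟩
    have : u' * u * (c' * c) = u' * c' * (u * c) := by
      rw [mul_assoc u', ← mul_assoc u c' c, hUC u hu c' hc']; simp only [mul_assoc]
    rw [this]; group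
  let st : Setoid G := ⟨rel, hrefl, hsymm, htrans⟩
  let rp : G → G := fun x => (Quotient.mk st x).out
  have hrp : ∀ x, rel (rp x) x := fun x => Quotient.mk_out (s := st) x
  have hrp' : ∀ {x y}, rel x y → rp x = rp y := fun {x y} h => by
    simp only [rp]; rw [Quotient.sound (s := st) h]
  have hrelU : ∀ u ∈ U, ∀ x, rel x (u * x * u⁻¹) := fun u hu x =>
    ⟨u, hu, 1, C.one_mem, by rw [mul_one]⟩
  have hrelC : ∀ c ∈ C, ∀ x, rel x (c * x * c⁻¹) := fun c hc x =>
    ⟨1, U.one_mem, c, hc, by rw [one_mul]⟩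
  have hfrel : ∀ {x y}, rel x y → f y = f x := by
    rintro x y ⟨u, hu, c, hc, rfl⟩
    rw [show u * c * x * (u * c)⁻¹ = u * (c * x * c⁻¹) * u⁻¹ by group, hfU u hu, hfC c hc]
  let Rs : G → Subgroup G := fun q =>
    if h : U ⊓ Subgroup.centralizer ({q} : Set G) < U then (exists_maxIn (p := p) hU h).choose
    else ⊥
  have hRs : ∀ x, f x ≠ 0 →
      MaxIn p U (Rs (rp x)) ∧ U ⊓ Subgroup.centralizer ({rp x} : Set G) ≤ Rs (rp x) := by
    intro x hx
    have h : U ⊓ Subgroup.centralizer ({rp x} : Set G) < U := by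
      refine lt_of_le_of_ne inf_le_left fun h => hx ?_
      rw [hfrel (hrp x)]
      refine hsupp _ fun u hu => ?_
      exact (Subgroup.mem_centralizer_singleton_iff.1 (inf_eq_left.1 h hu))
    simp only [Rs, dif_pos h]
    exact ⟨(exists_maxIn (p := p) hU h).choose_spec.2, (exists_maxIn (p := p) hU h).choose_spec.1⟩
  let y : Subgroup G → G → α := fun R x =>
    if Rs (rp x) = R ∧ ∃ r ∈ R, ∃ c ∈ C, x = r * c * rp x * (r * c)⁻¹ then f x else 0
  let z : Subgroup G → G → α := fun R x => if Rs (rp x) = R then f x else 0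
  refine ⟨Finset.univ.filter fun R => MaxIn p U R, y, z, fun R hR => ?_, fun x => ?_⟩
  · have hR' := (Finset.mem_filter.1 hR).2
    refine ⟨hR', fun r hr x => ?_, fun r hr x => ?_, fun u hu huR x => ?_⟩
    · have hrel : rel x (r * x * r⁻¹) := by
        rcases hr with hr | hr
        · exact hrelU r (hR'.le hr) x
        · exact hrelC r hr x
      simp only [y]
      rw [← hrp' hrel, hfrel hrel]
      refine if_congr (and_congr_right fun _ => ?_) rfl rfl
      have hdec : ∃ r₀ ∈ R, ∃ c₀ ∈ C, r = r₀ * c₀ := by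
        rcases hr with hr | hr
        · exact ⟨r, hr, 1, C.one_mem, by rw [mul_one]⟩
        · exact ⟨1, R.one_mem, r, hr, by rw [one_mul]⟩
      obtain ⟨r₀, hr₀, c₀, hc₀, rfl⟩ := hdec
      constructor
      · rintro ⟨a, ha, c, hc, h⟩
        refine ⟨r₀⁻¹ * a, R.mul_mem (R.inv_mem hr₀) ha, c₀⁻¹ * c,
          C.mul_mem (C.inv_mem hc₀) hc, ?_⟩
        have e : r₀⁻¹ * a * (c₀⁻¹ * c) = (r₀ * c₀)⁻¹ * (a * c) := by
          rw [mul_inv_rev, mul_assoc, ← mul_assoc a, hUC a (hR'.le ha) _ (C.inv_mem hc₀),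
            mul_assoc c₀⁻¹ a c, ← mul_assoc, hUC _ (U.inv_mem (hR'.le hr₀)) _ (C.inv_mem hc₀)]
        rw [e]
        calc x = (r₀ * c₀)⁻¹ * (r₀ * c₀ * x * (r₀ * c₀)⁻¹) * (r₀ * c₀) := by group
          _ = _ := by rw [h]; group
      · rintro ⟨a, ha, c, hc, h⟩
        refine ⟨r₀ * a, R.mul_mem hr₀ ha, c₀ * c, C.mul_mem hc₀ hc, ?_⟩
        have e : r₀ * a * (c₀ * c) = r₀ * c₀ * (a * c) := by
          rw [mul_assoc, ← mul_assoc a, hUC a (hR'.le ha) _ hc₀]; simp only [mul_assoc]
        rw [e]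
        conv_lhs => rw [h]
        group
    · have hrel : rel x (r * x * r⁻¹) := by
        rcases hr with hr | hr
        · exact hrelU r hr x
        · exact hrelC r hr x
      simp only [z]
      rw [← hrp' hrel, hfrel hrel]
    · have hrel : ∀ j : ℕ, rel x ((u ^ j)⁻¹ * x * u ^ j) := fun j => by
        simpa using hrelU _ (U.inv_mem (U.pow_mem hu j)) x
      simp only [y, z]
      by_cases hRx : Rs (rp x) = R
      swap
      · rw [if_neg hRx]
        exact Finset.sum_eq_zero fun j _ => by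
          rw [← hrp' (hrel j), if_neg fun h => hRx h.1]
      rw [if_pos hRx]
      by_cases hfx : f x = 0
      · rw [hfx]
        exact Finset.sum_eq_zero fun j _ => by rw [hfrel (hrel j), hfx, ite_self]
      obtain ⟨-, hst⟩ := hRs x hfx
      rw [hRx] at hst
      obtain ⟨u₀, hu₀, c₀, hc₀, hx₀⟩ := hrp x
      obtain ⟨j, hjp, hj, huniq⟩ := hR'.exists_unique_coset hu huR hu₀
      rw [Finset.sum_eq_single j]
      · rw [← hrp' (hrel j), if_pos, hfrel (hrel j)]
        refine ⟨hRx, _, hj, c₀, hc₀, ?_⟩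
        conv_lhs => rw [hx₀]
        group
      · intro j' hj' hne
        rw [← hrp' (hrel j'), if_neg]
        rintro ⟨-, r, hr, c, hc, h⟩
        refine hne (huniq j' (Finset.mem_range.1 hj') ?_)
        -- the difference fixes the representative
        set v := r⁻¹ * ((u ^ j')⁻¹ * u₀) with hv
        have hvU : v ∈ U :=
          U.mul_mem (U.inv_mem (hR'.le hr)) (U.mul_mem (U.inv_mem (U.pow_mem hu j')) hu₀)
        set d := c⁻¹ * c₀ with hd
        have hdC : d ∈ C := C.mul_mem (C.inv_mem hc) hc₀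
        have hg : Commute (v * d) (rp x) := by
          have e : v * d = (r * c)⁻¹ * ((u ^ j')⁻¹ * (u₀ * c₀)) := by
            rw [hv, hd, mul_inv_rev, ← hUC _ (U.inv_mem (hR'.le hr)) _ (C.inv_mem hc),
              mul_assoc r⁻¹, ← mul_assoc ((u ^ j')⁻¹ * u₀),
              hUC _ (U.mul_mem (U.inv_mem (U.pow_mem hu j')) hu₀) _ (C.inv_mem hc)]
            simp only [mul_assoc]
          have h' : (u ^ j')⁻¹ * (u₀ * c₀) * rp x * (u₀ * c₀)⁻¹ * u ^ j' =
              r * c * rp x * (r * c)⁻¹ := by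
            rw [← h]
            conv_rhs => rw [hx₀]
            simp only [mul_assoc]
          show v * d * rp x = rp x * (v * d)
          rw [e]
          calc (r * c)⁻¹ * ((u ^ j')⁻¹ * (u₀ * c₀)) * rp x
              = (r * c)⁻¹ * ((u ^ j')⁻¹ * (u₀ * c₀) * rp x * (u₀ * c₀)⁻¹ * u ^ j') *
                  ((u ^ j')⁻¹ * (u₀ * c₀)) := by group
            _ = _ := by rw [h']; group
        obtain ⟨a, ha⟩ := hU ⟨v, hvU⟩
        have ha' : v ^ p ^ a = 1 := congrArg Subtype.val ha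
        have hcop : Nat.Coprime (orderOf d) (p ^ a) :=
          ((Fact.out : p.Prime).coprime_iff_not_dvd.2 (hC d hdC)).symm.pow_right a
        obtain ⟨n, hn0, hn1⟩ := Nat.chineseRemainder hcop 0 1
        have hvR : v ∈ R := by
          refine hst ⟨hvU, Subgroup.mem_centralizer_singleton_iff.2 ?_⟩
          have hn : (v * d) ^ n = v := by
            rw [(show Commute v d from hUC v hvU d hdC).mul_pow,
              orderOf_dvd_iff_pow_eq_one.1 (Nat.modEq_zero_iff_dvd.1 hn0), mul_one]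
            conv_rhs => rw [← pow_one v]
            exact pow_eq_pow_iff_modEq.2 (hn1.of_dvd (orderOf_dvd_of_pow_eq_one ha'))
          have hc' : Commute v (rp x) := hn ▸ hg.pow_left n
          exact hc'.eq
        simpa [hv] using R.mul_mem hr hvR
      · intro h; exact absurd (Finset.mem_range.2 hjp) h
  · simp only [z]
    by_cases hfx : f x = 0
    · rw [hfx]; simp
    · rw [Finset.sum_ite_eq, if_pos (Finset.mem_filter.2 ⟨Finset.mem_univ _, (hRs x hfx).1⟩)]

/-- The trace on the image of an idempotent commuting with a representation is a character. -/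
theorem isCharacter_trace_idem {H : Type*} [Group H] {V : Type*} [AddCommGroup V] [Module ℂ V]
    [FiniteDimensional ℂ V] (ρ : Representation ℂ H V) (E : Module.End ℂ V) (hE : E * E = E)
    (hc : ∀ h, ρ h * E = E * ρ h) :
    IsCharacter H (fun h => LinearMap.trace ℂ V (ρ h * E)) := by
  let σ : Subrepresentation ρ :=
    ⟨LinearMap.range E, fun h v hv => by
      obtain ⟨w, rfl⟩ := hv
      exact ⟨ρ h w, (LinearMap.congr_fun (hc h) w).symm⟩⟩
  have key : ∀ h, σ.toRepresentation.character h = LinearMap.trace ℂ V (ρ h * E) := by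
    intro h
    set ι := (LinearMap.range E).subtype
    set π := E.rangeRestrict
    have h1 : ρ h * E = (ρ h ∘ₗ ι) ∘ₗ π := rfl
    have h2 : σ.toRepresentation h = π ∘ₗ (ρ h ∘ₗ ι) := by
      refine LinearMap.ext fun v => Subtype.ext ?_
      show ρ h (v : V) = E (ρ h (v : V))
      obtain ⟨w, hw⟩ := v.2
      rw [← hw]
      calc ρ h (E w) = E (ρ h w) := LinearMap.congr_fun (hc h) w
        _ = E (E (ρ h w)) := (LinearMap.congr_fun hE (ρ h w)).symm
        _ = E (ρ h (E w)) := by rw [show ρ h (E w) = E (ρ h w) from LinearMap.congr_fun (hc h) w]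
    rw [Representation.character, h2, h1, LinearMap.trace_comp_comm']
  rw [show (fun h => LinearMap.trace ℂ V (ρ h * E)) = σ.toRepresentation.character from
    funext fun h => (key h).symm]
  exact isCharacter_character _

end CfsgLib.Blocks.Star
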