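import Cfsg.Agent.Lib.Blocks.Star.Nilpotent
import Cfsg.Agent.Lib.Blocks.CyclicPairs
import Cfsg.Agent.Lib.Blocks.Induced
import Cfsg.Agent.Lib.Blocks.SmallNilpotent
import Cfsg.Agent.Lib.Blocks.SubsectionCount

/-!
# Watanabe: elements of an abelian defect group fixed by the inertial quotient

For an abelian defect group the numbers `k` and `l` do not change when passing to the centralizer
of an element fixed by the stabilizer of a maximal pair.
-/

namespace CfsgLib.Blocks

open Cfsg CfsgLib.CharTheory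
open scoped ComplexConjugate

set_option linter.unusedVariables false
set_option linter.unusedSimpArgs false
set_option linter.style.haveILetI false
set_option linter.unusedSectionVars false
set_option maxHeartbeats 800000

universe u

variable {p : ℕ} {M : Ideal AlgInt} {G : Type u} [Group G] [Fintype G]
  {B : Set (IrrCharacter G)} {P : Subgroup G}
  {c : Set (IrrCharacter (Subgroup.centralizer (P : Set G)))}

/-- The number of Brauer characters of a pair. -/
noncomputable def idxRank (p : ℕ) (a : BrauerPairIdx G) : ℕ := blockRank p a.2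

/-- The number of Brauer characters of the pair below `(P, c)` at `Q`. -/
noncomputable def subRk (p : ℕ) (M : Ideal AlgInt) (P : Subgroup G)
    (c : Set (IrrCharacter (Subgroup.centralizer (P : Set G)))) (Q : Subgroup G) : ℕ :=
  idxRank p (subIdx p M ⟨P, c⟩ Q)

theorem upIdx_injective {H : Subgroup G} [Fintype H] {a b : BrauerPairIdx H}
    {ha : Subgroup.centralizer ((a.1.map H.subtype : Subgroup G) : Set G) ≤ H}
    {hb : Subgroup.centralizer ((b.1.map H.subtype : Subgroup G) : Set G) ≤ H}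
    (h : upIdx a ha = upIdx b hb) : a = b := by
  have h1 : a.1 = b.1 :=
    Subgroup.map_injective (f := H.subtype) Subtype.coe_injective (congrArg Sigma.fst h)
  have h2 := congrArg valSet h
  rw [valSet_upIdx, valSet_upIdx] at h2
  refine idx_ext h1 (Set.image_injective.2 (fun F F' hF => funext fun y => ?_) h2)
  have := congrFun hF (y : G)
  rwa [sext_coe, sext_coe] at this

theorem pairStab_down {H : Subgroup G} [Fintype H] {x : BrauerPairIdx H}
    {hx : Subgroup.centralizer ((x.1.map H.subtype : Subgroup G) : Set G) ≤ H}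
    (h : upIdx x hx = ⟨P, c⟩) {t : H} (ht : (t : G) ∈ pairStab P c) : t ∈ pairStab x.1 x.2 := by
  have hmap : x.1.map H.subtype = P := le_map_subtype_of_eq h
  have hmap' : ((conjIdx t x).1.map H.subtype : Subgroup G) = P := by
    show (x.1.map (MulAut.conj t).toMonoidHom).map H.subtype = P
    rw [map_conj_subtype, hmap]
    exact map_conj_normalizer ((mem_pairStab _).1 ht).1
  have hC' : Subgroup.centralizer (((conjIdx t x).1.map H.subtype : Subgroup G) : Set G) ≤ H := by
    rw [hmap', ← hmap]; exact hx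
  have e : upIdx (conjIdx t x) hC' = upIdx x hx := by
    rw [upIdx_conj x hx t hC', h]
    exact ht
  show conjIdx t x = x
  exact upIdx_injective e

/-- The pair of a local block carrying `(P, c)`. -/
theorem exists_down (hM : IsPModular p M) (hmax : IsMaximalBrauerPair p M B P c)
    (hab : ∀ x ∈ P, ∀ y ∈ P, x * y = y * x) {Q : Subgroup G} (hQ : Q ≤ P)
    [Fintype (Subgroup.centralizer (Q : Set G))] :
    ∃ (x : BrauerPairIdx (Subgroup.centralizer (Q : Set G)))
      (hx : Subgroup.centralizer ((x.1.map (Subgroup.centralizer (Q : Set G)).subtype :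
        Subgroup G) : Set G) ≤ Subgroup.centralizer (Q : Set G)),
      upIdx x hx = ⟨P, c⟩ ∧
        IsMaximalBrauerPair p M (subIdx p M ⟨P, c⟩ Q).2 x.1 x.2 ∧
        ∀ a ∈ x.1, ∀ b ∈ x.1, a * b = b * a := by
  classical
  have hP : IsPGroup p P := hmax.1.1.1
  have hPC : P ≤ Subgroup.centralizer (Q : Set G) := fun y hy q hq => hab q (hQ hq) y hy
  obtain ⟨x, hx, hup, hxb⟩ :=
    exists_upIdx (H := Subgroup.centralizer (Q : Set G)) hPC (centralizer_anti hQ) hmax.1.1.2
  have hmap : x.1.map (Subgroup.centralizer (Q : Set G)).subtype = P := le_map_subtype_of_eq hup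
  have hRp : IsPGroup p x.1 :=
    hP.of_equiv ((Subgroup.equivMapOfInjective x.1 _ Subtype.coe_injective).trans
      (MulEquiv.subgroupCongr hmap)).symm
  obtain ⟨f', hf'⟩ := exists_block_of_pair hM hRp hxb
  have hstep := normalSubpair_of_pairOf hM hQ hP hPC hf'.2.1 hmax.1.1.2 hup hf'
  have e : (⟨Q, (subIdx p M ⟨P, c⟩ Q).2⟩ : BrauerPairIdx G) = ⟨Q, f'⟩ :=
    subIdx_unique hM (a := (⟨P, c⟩ : BrauerPairIdx G)) (b := ⟨Q, f'⟩) hP hmax.1.1.2
      (Relation.ReflTransGen.single hstep)
  refine ⟨x, hx, hup, ?_, fun a ha b hb => Subtype.ext (hab (a : G) ?_ (b : G) ?_)⟩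
  · rw [show (subIdx p M ⟨P, c⟩ Q).2 = f' from eq_of_heq (Sigma.mk.inj_iff.1 e).2]
    exact maximal_down hM hup hmax hf'
  · rw [← hmap]; exact ⟨a, ha, rfl⟩
  · rw [← hmap]; exact ⟨b, hb, rfl⟩

theorem subgroupOf_le_down {H : Subgroup G} [Fintype H] {x : BrauerPairIdx H}
    {hx : Subgroup.centralizer ((x.1.map H.subtype : Subgroup G) : Set G) ≤ H}
    (h : upIdx x hx = ⟨P, c⟩) {R : Subgroup G} (hR : R ≤ P) : R.subgroupOf H ≤ x.1 := by
  intro r hr
  have h1 : (r : G) ∈ x.1.map H.subtype := by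
    rw [le_map_subtype_of_eq h]; exact hR (Subgroup.mem_subgroupOf.1 hr)
  obtain ⟨y, hy, hyr⟩ := h1
  rwa [← Subtype.ext hyr]

/-- Pairs of a local subgroup above its defining subgroup agree with the pairs of `G`. -/
theorem subRk_down (hM : IsPModular p M) (hmax : IsMaximalBrauerPair p M B P c)
    (hab : ∀ x ∈ P, ∀ y ∈ P, x * y = y * x) {Q R : Subgroup G} (hQR : Q ≤ R) (hR : R ≤ P)
    [Fintype (Subgroup.centralizer (Q : Set G))]
    {x : BrauerPairIdx (Subgroup.centralizer (Q : Set G))}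
    {hx : Subgroup.centralizer ((x.1.map (Subgroup.centralizer (Q : Set G)).subtype :
      Subgroup G) : Set G) ≤ Subgroup.centralizer (Q : Set G)}
    (hup : upIdx x hx = ⟨P, c⟩) {F : Set (IrrCharacter (Subgroup.centralizer (Q : Set G)))}
    (hxmax : IsMaximalBrauerPair p M F x.1 x.2) :
    subRk p M x.1 x.2 (R.subgroupOf (Subgroup.centralizer (Q : Set G))) = subRk p M P c R := by
  classical
  obtain ⟨h1, h2⟩ := subIdx_spec hM (a := x) hxmax.1.1.1 hxmax.1.1.2 (subgroupOf_le_down hup hR)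
  set a := subIdx p M x (R.subgroupOf (Subgroup.centralizer (Q : Set G))) with ha'
  have hmapR : (a.1.map (Subgroup.centralizer (Q : Set G)).subtype : Subgroup G) = R :=
    Subgroup.map_subgroupOf_eq_of_le fun r hr q hq => hab q (hR (hQR hq)) r (hR hr)
  have ha : Subgroup.centralizer ((a.1.map (Subgroup.centralizer (Q : Set G)).subtype : Subgroup G) : Set G) ≤ (Subgroup.centralizer (Q : Set G)) := by
    rw [hmapR]; exact centralizer_anti hQR
  obtain ⟨hb, hle⟩ := subpair_up (Q := Q) le_rfl h2 (by rw [hmapR]; exact hQR) ha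
  have hle' : Relation.ReflTransGen (NormalSubpairRel p M) (upIdx a ha) ⟨P, c⟩ := by
    rw [← hup]; exact hle
  have e := subIdx_unique hM (a := (⟨P, c⟩ : BrauerPairIdx G)) hmax.1.1.1 hmax.1.1.2 hle'
  rw [show (upIdx a ha).1 = R from hmapR] at e
  show idxRank p a = idxRank p (subIdx p M ⟨P, c⟩ R)
  rw [e]
  exact (blockRank_image (upE a.1 ha) a.2).symm

/-- The statement proved by induction on the group order. -/
def MainRank (p : ℕ) (M : Ideal AlgInt) (G : Type u) [Group G] [Fintype G] : Prop :=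
  ∀ (B : Set (IrrCharacter G)) (P : Subgroup G)
    (c : Set (IrrCharacter (Subgroup.centralizer (P : Set G)))),
    IsMaximalBrauerPair p M B P c → (∀ x ∈ P, ∀ y ∈ P, x * y = y * x) →
      ∀ R : Subgroup G, R ≤ P → (∀ t ∈ pairStab P c, ∀ r ∈ R, t * r * t⁻¹ = r) →
        subRk p M P c R = blockRank p B

theorem subRk_eq_of_fixed (hM : IsPModular p M) (hmax : IsMaximalBrauerPair p M B P c)
    (hab : ∀ x ∈ P, ∀ y ∈ P, x * y = y * x) {Q R : Subgroup G} (hQR : Q ≤ R) (hR : R ≤ P)
    (hfix : ∀ t ∈ pairStab P c, t ∈ Subgroup.centralizer (Q : Set G) →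
      ∀ r ∈ R, t * r * t⁻¹ = r)
    (hmain : ∀ [Fintype (Subgroup.centralizer (Q : Set G))],
      MainRank p M (Subgroup.centralizer (Q : Set G))) :
    subRk p M P c R = subRk p M P c Q := by
  classical
  haveI := Fintype.ofFinite (Subgroup.centralizer (Q : Set G))
  obtain ⟨x, hx, hup, hxmax, hxab⟩ := exists_down hM hmax hab (hQR.trans hR)
  rw [← subRk_down hM hmax hab hQR hR hup hxmax]
  exact hmain _ _ _ hxmax hxab _ (subgroupOf_le_down hup hR) fun t ht r hr => Subtype.ext
    (hfix _ (pairStab_upIdx hup ht) t.2 _ (Subgroup.mem_subgroupOf.1 hr))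

theorem subRk_central (hM : IsPModular p M) (hmax : IsMaximalBrauerPair p M B P c)
    {Q : Subgroup G} (hQ : Q ≤ P) (htop : Subgroup.centralizer (Q : Set G) = ⊤) :
    subRk p M P c Q = blockRank p B := by
  classical
  haveI := Fintype.ofFinite (Subgroup.centralizer (Q : Set G))
  have hP : IsPGroup p P := hmax.1.1.1
  have hQp : IsPGroup p Q := hP.to_le hQ
  have hC : IsCentr (1 : G) (Subgroup.centralizer (Q : Set G)) := fun g =>
    ⟨fun _ => Commute.one_right g, fun _ => htop ▸ Subgroup.mem_top g⟩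
  rw [← rankSum_central hM hC ⟨0, by simp⟩ (Subgroup.one_mem _) hmax.1.2.1, rankSum]
  obtain ⟨h1, h2⟩ := subIdx_spec hM (a := (⟨P, c⟩ : BrauerPairIdx G)) hP hmax.1.1.2 hQ
  have hset : {b : Set (IrrCharacter (Subgroup.centralizer (Q : Set G))) | IsInducedBlock M (Subgroup.centralizer (Q : Set G)) b B} =
      {(subIdx p M ⟨P, c⟩ Q).2} := by
    ext b
    simp only [Set.mem_setOf_eq, Set.mem_singleton_iff]
    constructor
    · intro hb
      obtain ⟨g, hg⟩ := exists_conj_subpair hM (a := ⟨Q, b⟩) (m := ⟨P, c⟩) hmax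
        ((induced_centralizer_iff hM hQp).1 hb)
      have hgH : g ∈ (Subgroup.centralizer (Q : Set G)) := htop ▸ Subgroup.mem_top g
      rw [show conjIdx g (⟨Q, b⟩ : BrauerPairIdx G) = ⟨Q, b⟩ from cent_le_pairStab Q b hgH] at hg
      have e : (⟨Q, (subIdx p M ⟨P, c⟩ Q).2⟩ : BrauerPairIdx G) = ⟨Q, b⟩ :=
        subIdx_unique hM (a := (⟨P, c⟩ : BrauerPairIdx G)) (b := ⟨Q, b⟩) hP hmax.1.1.2 hg
      exact (eq_of_heq (Sigma.mk.inj_iff.1 e).2).symm
    · rintro rfl
      exact (induced_centralizer_iff hM hQp).2 ((pairOf_subpair_iff hM h2 B).2 hmax.1)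
  rw [hset]
  exact (finsum_mem_singleton (f := fun b => blockRank p b)).symm

/-! ### pairs of a block with abelian defect group -/

theorem ext_abelian (hM : IsPModular p M) (hmax : IsMaximalBrauerPair p M B P c)
    (hab : ∀ x ∈ P, ∀ y ∈ P, x * y = y * x) {u g : G} (hu : u ∈ P)
    (hg : Carries p M P c g (bEl p M P c u)) :
    ∃ t ∈ pairStab P c, g * u * g⁻¹ = t * u * t⁻¹ := by
  have hF := blockFusion_isBlockFusion hM hmax
  obtain ⟨h1, h2⟩ := subIdx_spec hM (a := (⟨P, c⟩ : BrauerPairIdx G)) hmax.1.1.1 hmax.1.1.2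
    (Q := Subgroup.zpowers u) (Subgroup.zpowers_le.2 hu)
  have hφ : conjHom (Subgroup.zpowers u) g ∈ (blockFusion hM hmax).Hom (Subgroup.zpowers u) :=
    (hF.2 _ _).2 ⟨Subgroup.zpowers_le.2 hu, g, fun _ => rfl, subpairLE_le hg, _, h2, hg⟩
  obtain ⟨t, ht, htu⟩ := exists_extend_abelian hM hF hab hφ
  exact ⟨t, ht, htu ⟨u, Subgroup.mem_zpowers u⟩⟩

theorem carries_stab (hM : IsPModular p M) {a : BrauerPairIdx G} {g t : G}
    (ht : t ∈ pairStab P c) (hg : Carries p M P c g a) : Carries p M P c (t * g) a := by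
  unfold Carries at hg ⊢
  have h1 := subpair_conj hM hg t
  rw [show conjIdx t (⟨P, c⟩ : BrauerPairIdx G) = ⟨P, c⟩ from ht, conjIdx_mul] at h1
  exact h1

theorem card_witSet_gen (hM : IsPModular p M) (hmax : IsMaximalBrauerPair p M B P c)
    (K : Subgroup G)
    (hK : ∀ v ∈ K, ∀ (a : BrauerPairIdx G) (g : G), Carries p M P c g a →
      Carries p M P c (v * g) a)
    (hext : ∀ u g, u ∈ P → Carries p M P c g (bEl p M P c u) →
      ∃ v ∈ K, g * u * g⁻¹ = v * u * v⁻¹) {u : G} (hu : u ∈ P) :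
    (witSet p M P c (bEl p M P c u)).card * Nat.card (K ⊓ Subgroup.centralizer
        ((Subgroup.zpowers u : Subgroup G) : Set G) : Subgroup G) =
      Nat.card K * Nat.card (Subgroup.centralizer ((Subgroup.zpowers u : Subgroup G) : Set G)) := by
  classical
  set C := Subgroup.centralizer ((Subgroup.zpowers u : Subgroup G) : Set G) with hC
  set S : Finset (G × G) := Finset.univ.filter (fun z => z.1 ∈ K ∧ z.2 ∈ C) with hS
  have hScard : S.card = Nat.card K * Nat.card C := by
    rw [← Nat.card_prod, ← Nat.card_eq_finsetCard S]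
    exact Nat.card_congr
      { toFun := fun z => (⟨z.1.1, (Finset.mem_filter.1 z.2).2.1⟩,
          ⟨z.1.2, (Finset.mem_filter.1 z.2).2.2⟩)
        invFun := fun z => ⟨((z.1 : G), (z.2 : G)),
          Finset.mem_filter.2 ⟨Finset.mem_univ _, z.1.2, z.2.2⟩⟩
        left_inv := fun z => rfl
        right_inv := fun z => rfl }
  have hb := bEl_spec hM hmax hu
  have hmaps : ∀ z ∈ S, z.1 * z.2 ∈ witSet p M P c (bEl p M P c u) := by
    intro z hz
    obtain ⟨hz1, hz2⟩ := (Finset.mem_filter.1 hz).2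
    rw [mem_witSet]
    have := hK _ hz1 _ _ (carries_mul_cent (c := z.2) hz2 hb.2.1)
    rwa [one_mul] at this
  rw [← hScard, Finset.card_eq_sum_card_fiberwise hmaps,
    Finset.sum_const_nat (m := Nat.card (K ⊓ C : Subgroup G)) fun g hg => ?_]
  obtain ⟨v, hv, hvu⟩ := hext u g hu (mem_witSet.1 hg)
  have hc : v⁻¹ * g ∈ C := by
    refine (isCentr_zpowers u _).2 ?_
    show v⁻¹ * g * u = u * (v⁻¹ * g)
    calc v⁻¹ * g * u = v⁻¹ * (g * u * g⁻¹) * g := by group
      _ = v⁻¹ * (v * u * v⁻¹) * g := by rw [hvu]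
      _ = u * (v⁻¹ * g) := by group
  rw [← Nat.card_eq_finsetCard]
  symm
  refine Nat.card_congr
    { toFun := fun z => ⟨(v * z.1, (z.1 : G)⁻¹ * (v⁻¹ * g)), ?_⟩
      invFun := fun z => ⟨v⁻¹ * z.1.1, ?_⟩
      left_inv := fun z => Subtype.ext (by simp)
      right_inv := fun z => Subtype.ext ?_ }
  · refine Finset.mem_filter.2 ⟨Finset.mem_filter.2 ⟨Finset.mem_univ _, ?_, ?_⟩, by simp⟩
    · exact K.mul_mem hv z.2.1
    · exact C.mul_mem (C.inv_mem z.2.2) hc
  · obtain ⟨hz, hzg⟩ := Finset.mem_filter.1 z.2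
    obtain ⟨hz1, hz2⟩ := (Finset.mem_filter.1 hz).2
    refine ⟨K.mul_mem (K.inv_mem hv) hz1, ?_⟩
    have hg' : z.1.1 * z.1.2 = g := hzg
    rw [show v⁻¹ * z.1.1 = v⁻¹ * g * z.1.2⁻¹ from
      calc v⁻¹ * z.1.1 = v⁻¹ * (z.1.1 * z.1.2) * z.1.2⁻¹ := by group
        _ = v⁻¹ * g * z.1.2⁻¹ := by rw [hg']]
    exact C.mul_mem hc (C.inv_mem hz2)
  · obtain ⟨hz, hzg⟩ := Finset.mem_filter.1 z.2
    refine Prod.ext (by simp) ?_
    show (v⁻¹ * z.1.1)⁻¹ * (v⁻¹ * g) = z.1.2
    have hg' : z.1.1 * z.1.2 = g := hzg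
    calc (v⁻¹ * z.1.1)⁻¹ * (v⁻¹ * g) = z.1.1⁻¹ * g := by group
      _ = z.1.1⁻¹ * (z.1.1 * z.1.2) := by rw [hg']
      _ = z.1.2 := inv_mul_cancel_left _ _

theorem sum_witSet_abelian (hM : IsPModular p M) (hmax : IsMaximalBrauerPair p M B P c)
    (hab : ∀ x ∈ P, ∀ y ∈ P, x * y = y * x) {a : BrauerPairIdx G} {x : G}
    (h1 : a.1 = Subgroup.zpowers x) (ha : IsBrauerPairOf p M B a.1 a.2) :
    ∑ g ∈ witSet p M P c a, wtEl (pairStab P c) (g * x * g⁻¹) = 1 := by
  classical
  obtain ⟨g₀, hg₀⟩ := (carries_iff_pairOf hM hmax).2 ha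
  have hu : g₀ * x * g₀⁻¹ ∈ P := carries_mem h1 hg₀
  have hb := bEl_unique hM hmax h1 hg₀
  set u := g₀ * x * g₀⁻¹ with hudef
  have hiff : ∀ g, g ∈ witSet p M P c a ↔ g * g₀⁻¹ ∈ witSet p M P c (bEl p M P c u) := by
    intro g
    rw [mem_witSet, mem_witSet, hb, carries_conj, inv_mul_cancel_right]
  have hcard : (witSet p M P c a).card = (witSet p M P c (bEl p M P c u)).card := by
    refine Finset.card_bij' (fun g _ => g * g₀⁻¹) (fun g _ => g * g₀) (fun g hg => (hiff g).1 hg)
      (fun g hg => ?_) (fun g _ => inv_mul_cancel_right g g₀) (fun g _ => mul_inv_cancel_right g g₀)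
    rw [hiff, mul_inv_cancel_right]
    exact hg
  rw [Finset.sum_congr rfl fun g hg =>
    show wtEl (pairStab P c) (g * x * g⁻¹) = wtEl (pairStab P c) u by
      obtain ⟨v, hv, hvu⟩ := ext_abelian hM hmax hab hu (mem_witSet.1 ((hiff g).1 hg))
      rw [show g * x * g⁻¹ = v * u * v⁻¹ by rw [← hvu, hudef]; group]
      unfold wtEl
      rw [card_inf_cent_conj hv, card_cent_conj],
    Finset.sum_const, nsmul_eq_mul, hcard, wtEl, ← mul_assoc, ← Nat.cast_mul,
    card_witSet_gen hM hmax (pairStab P c) (fun v hv a g => carries_stab hM hv)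
      (fun u g hu hg => ext_abelian hM hmax hab hu hg) hu, Nat.cast_mul,
    mul_inv_cancel₀ (mul_ne_zero (Nat.cast_ne_zero.2 Nat.card_pos.ne')
      (Nat.cast_ne_zero.2 Nat.card_pos.ne'))]

/-! ### the trace of a star operator -/

/-- `|C_T(u)| · l(b_u)`. -/
noncomputable def sRk (p : ℕ) (M : Ideal AlgInt) (P : Subgroup G)
    (c : Set (IrrCharacter (Subgroup.centralizer (P : Set G)))) (u : G) : ℕ :=
  Nat.card (pairStab P c ⊓ Subgroup.centralizer
    ((Subgroup.zpowers u : Subgroup G) : Set G) : Subgroup G) * subRk p M P c (Subgroup.zpowers u)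

theorem trace_starW [Fintype P] (hM : IsPModular p M) (hmax : IsMaximalBrauerPair p M B P c)
    (hab : ∀ x ∈ P, ∀ y ∈ P, x * y = y * x) {η : G → ℂ} (hη : IsStableFun p M P c η) :
    ∑ χ ∈ bset B, classInner (starFun p M (pairW p M P c η) (χ : G → ℂ)) (χ : G → ℂ) =
      (Nat.card (pairStab P c) : ℂ)⁻¹ * ∑ u : P, η u * (sRk p M P c u : ℂ) := by
  classical
  have hB := hmax.1.2.1
  have hterm : ∀ χ ∈ bset B,
      classInner (starFun p M (pairW p M P c η) (χ : G → ℂ)) (χ : G → ℂ) =
      (Nat.card G : ℂ)⁻¹ * ∑ x ∈ qElts G p, ∑ a ∈ pairsAt M (Subgroup.zpowers x),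
        pairW p M P c η a x * pairT p a x (χ : G → ℂ) (χ : G → ℂ) := by
    intro χ hχ
    conv_lhs => arg 2; rw [← starFun_one (W := fun _ _ => (1 : ℂ)) hM hB (mem_bset.1 hχ)
      (fun _ _ _ _ _ => rfl)]
    rw [classInner_starFun hM (irr_isClassFun χ) (irr_isClassFun χ)]
    simp only [map_one, mul_one]
  rw [Finset.sum_congr rfl hterm, ← Finset.mul_sum, Finset.sum_comm,
    Finset.sum_congr rfl fun x _ => Finset.sum_comm,
    sum_block_pairs hM hmax (wtEl (pairStab P c))
      (fun a x h1 ha => sum_witSet_abelian hM hmax hab h1 ha)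
      (fun x a => ∑ χ ∈ bset B,
        pairW p M P c η a x * pairT p a x (χ : G → ℂ) (χ : G → ℂ))
      (fun t x a ha => Finset.sum_congr rfl fun χ _ => by
        rw [pairW_conjInv hη t x a ha, pairT_conj (irr_isClassFun χ) (irr_isClassFun χ)])
      (fun x a ha hx hp => Finset.sum_eq_zero fun χ hχ => by
        rw [show pairT p a x (χ : G → ℂ) (χ : G → ℂ) = 0 from Finset.sum_eq_zero fun y hy => by
          rw [pairVal_off hM hB (mem_bset.1 hχ) hx ha hp hy, zero_mul], mul_zero]),
    ← mul_assoc, inv_mul_cancel₀ (Nat.cast_ne_zero.2 Nat.card_pos.ne'), one_mul, Finset.mul_sum]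
  refine Finset.sum_congr rfl fun v _ => ?_
  rw [← Finset.mul_sum, pairW_bEl hM hmax hη v.2]
  haveI : Fact p.Prime := ⟨hM.1⟩
  haveI := Fintype.ofFinite
    (Subgroup.centralizer ((Subgroup.zpowers (v : G) : Subgroup G) : Set G))
  obtain ⟨hm, -, hpair⟩ := bEl_spec hM hmax v.2
  have hC := isCentr_zpowers (v : G)
  obtain ⟨k, hk⟩ := IsPGroup.iff_orderOf.1 hmax.1.1.1 v
  rw [← Subgroup.orderOf_coe] at hk
  have hrk : subRk p M P c (Subgroup.zpowers (v : G)) = idxRank p (bEl p M P c (v : G)) := rfl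
  rw [sRk, Nat.cast_mul, hrk]
  generalize bEl p M P c (v : G) = a at hm hpair ⊢
  obtain ⟨R, f⟩ := a
  obtain rfl : R = Subgroup.zpowers (v : G) := (mem_pairsAt.1 hm).1
  have hd := sum_secPair_diag hM hC ⟨k, hk⟩
    ((induced_centralizer_iff hM (isPGroup_zpowers hM.1 ⟨k, hk⟩)).2 hpair)
  rw [← Finset.sum_congr rfl fun χ _ => pairT_eq hC (irr_isClassFun χ) (irr_isClassFun χ) f,
    ← Finset.mul_sum, mul_assoc] at hd
  have h2 := mul_left_cancel₀ (pow_ne_zero _ (Nat.cast_ne_zero.2 hM.1.ne_zero)) hd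
  rw [inv_mul_eq_iff_eq_mul₀ (Nat.cast_ne_zero.2 Nat.card_pos.ne')] at h2
  rw [h2, idxRank, wtEl, mul_inv]
  field_simp

theorem card_bset' (B : Set (IrrCharacter G)) : Nat.card B = (bset B).card := by
  classical
  rw [Nat.card_eq_fintype_card]
  exact Fintype.card_of_finset' (bset B) fun χ => mem_bset

/-- Brauer's count of `k(B)` along the defect group. -/
theorem sum_sRk [Fintype P] (hM : IsPModular p M) (hmax : IsMaximalBrauerPair p M B P c)
    (hab : ∀ x ∈ P, ∀ y ∈ P, x * y = y * x) :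
    Nat.card (pairStab P c) * Nat.card B = ∑ u : P, sRk p M P c u := by
  have hs : IsStableFun p M P c (fun _ => (1 : ℂ)) := fun _ _ _ _ _ _ => rfl
  have h := trace_starW hM hmax hab hs
  have e : ∀ χ ∈ bset B,
      classInner (starFun p M (pairW p M P c fun _ => (1 : ℂ)) (χ : G → ℂ)) (χ : G → ℂ) = 1 := by
    intro χ hχ
    rw [starFun_one hM hmax.1.2.1 (mem_bset.1 hχ) fun x a ha _ hp =>
      pairW_eq_of_eqOn hM hmax (fun _ _ => rfl) (mem_pairsAt.1 ha).1 hp]
    exact classInner_irr_self χ.2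
  replace h := (Finset.sum_congr rfl e).symm.trans h
  simp only [Finset.sum_const, nsmul_eq_mul, mul_one, one_mul] at h
  rw [eq_inv_mul_iff_mul_eq₀ (Nat.cast_ne_zero.2 Nat.card_pos.ne')] at h
  rw [card_bset']
  exact_mod_cast h

/-! ### the moved part of the defect group -/

/-- The subgroup generated by the `x⁻¹ · t x t⁻¹`. -/
def moveN (P : Subgroup G) (c : Set (IrrCharacter (Subgroup.centralizer (P : Set G)))) :
    Subgroup P :=
  Subgroup.closure {y | ∃ t ∈ pairStab P c, ∃ x : P, (y : G) = (x : G)⁻¹ * (t * x * t⁻¹)}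

theorem moveN_commutators (hab : ∀ x ∈ P, ∀ y ∈ P, x * y = y * x) (x y : P) :
    x * y * x⁻¹ * y⁻¹ ∈ moveN P c := by
  have h : x * y = y * x := Subtype.ext (hab _ x.2 _ y.2)
  rw [h, mul_inv_cancel_right, mul_inv_cancel]
  exact (moveN P c).one_mem

theorem eq_one_of_moveN_fixed (hM : IsPModular p M) (hmax : IsMaximalBrauerPair p M B P c)
    (hab : ∀ x ∈ P, ∀ y ∈ P, x * y = y * x) [Fintype P] {y : P} (hy : y ∈ moveN P c)
    (hfix : ∀ t ∈ pairStab P c, t * (y : G) * t⁻¹ = y) : y = 1 := by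
  classical
  letI : CommGroup P :=
    { (inferInstance : Group P) with mul_comm := fun a b => Subtype.ext (hab _ a.2 _ b.2) }
  set A := autInducedBy (pairStab P c) P with hA
  haveI : Fintype A := Fintype.ofFinite A
  let τ : P →* P := MonoidHom.mk' (fun x => ∏ α : A, (α : MulAut P) x) fun x x' => by
    simp only [map_mul, Finset.prod_mul_distrib]
  have hgen : moveN P c ≤ τ.ker := by
    rw [moveN, Subgroup.closure_le]
    rintro z ⟨t, ht, x, hz⟩
    obtain ⟨htN, -⟩ := (mem_pairStab t).1 ht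
    set β : MulAut P := autHom P (le_refl (Subgroup.normalizer (P : Set G))) ⟨t, htN⟩ with hβ
    have hβA : β ∈ A := mem_autInducedBy_iff.2 ⟨t, ht, htN, fun x => rfl⟩
    have hz' : z = x⁻¹ * β x := Subtype.ext hz
    show τ z = 1
    rw [hz', map_mul, map_inv, inv_mul_eq_one]
    show ∏ α : A, (α : MulAut P) x = ∏ α : A, (α : MulAut P) (β x)
    exact (Fintype.prod_equiv (Equiv.mulRight (⟨β, hβA⟩ : A)) _ _ fun α => rfl).symm
  have h1 : τ y = 1 := hgen hy
  have hall : ∀ α : A, (α : MulAut P) y = y := fun α => by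
    obtain ⟨g, hg, -, hga⟩ := mem_autInducedBy_iff.1 α.2
    exact Subtype.ext ((hga y).trans (hfix g hg))
  have h2 : y ^ Nat.card A = 1 := by
    rw [← h1, Nat.card_eq_fintype_card]
    show _ = ∏ α : A, (α : MulAut P) y
    rw [Finset.prod_congr rfl fun α _ => hall α, Finset.prod_const, Finset.card_univ]
  haveI : Fact p.Prime := ⟨hM.1⟩
  obtain ⟨k, hk⟩ := IsPGroup.iff_orderOf.1 hmax.1.1.1 y
  refine orderOf_eq_one_iff.1 (Nat.eq_one_of_dvd_coprimes
    ((hM.1.coprime_iff_not_dvd.2 (inertial_coprime hM hmax hab)).pow_left k) hk.dvd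
    (orderOf_dvd_of_pow_eq_one h2))

theorem stable_moveN (hM : IsPModular p M) (hmax : IsMaximalBrauerPair p M B P c)
    (hab : ∀ x ∈ P, ∀ y ∈ P, x * y = y * x) {l : P →* ℂˣ} (hl : l ∈ linKer (moveN P c)) :
    IsStableFun p M P c (sext P fun u => (l u : ℂ)) := by
  intro g x a h1 ha hg
  have hx : x ∈ P := by
    have := carries_mem h1 ha
    rwa [one_mul, inv_one, mul_one] at this
  have hgx : g * x * g⁻¹ ∈ P := carries_mem h1 hg
  have hb : bEl p M P c x = a := by
    have := bEl_unique hM hmax h1 ha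
    rwa [one_mul, inv_one, mul_one, conjIdx_one] at this
  rw [← hb] at hg
  obtain ⟨t, ht, htx⟩ := ext_abelian hM hmax hab hx hg
  have hmem : (⟨x, hx⟩ : P)⁻¹ * ⟨g * x * g⁻¹, hgx⟩ ∈ moveN P c :=
    Subgroup.subset_closure ⟨t, ht, ⟨x, hx⟩, by
      show x⁻¹ * (g * x * g⁻¹) = x⁻¹ * (t * x * t⁻¹)
      rw [htx]⟩
  have h2 := hl _ hmem
  rw [map_mul, map_inv, inv_mul_eq_one] at h2
  exact (sext_coe P (fun u => (l u : ℂ)) ⟨g * x * g⁻¹, hgx⟩).trans
    ((congrArg Units.val h2.symm).trans (sext_coe P (fun u => (l u : ℂ)) ⟨x, hx⟩).symm)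

theorem sum_lin_sRk (hM : IsPModular p M) (hmax : IsMaximalBrauerPair p M B P c)
    (hab : ∀ x ∈ P, ∀ y ∈ P, x * y = y * x) [Fintype P] {l : P →* ℂˣ}
    (hl : l ∈ linKer (moveN P c)) (hne : l ≠ 1) :
    ∑ u : P, (l u : ℂ) * (sRk p M P c u : ℂ) = 0 := by
  classical
  have hst := stable_moveN hM hmax hab hl
  have h := trace_starW hM hmax hab hst
  obtain ⟨χ₀, hχ₀, h0⟩ := exists_height_zero hM hmax.1.2.1
  obtain ⟨v, hv⟩ : ∃ v, l v ≠ 1 := by
    by_contra hc
    push Not at hc
    exact hne (MonoidHom.ext hc)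
  rw [Finset.sum_eq_zero fun χ hχ => ?_] at h
  · have h' := (mul_eq_zero.1 h.symm).resolve_left
      (inv_ne_zero (Nat.cast_ne_zero.2 Nat.card_pos.ne'))
    simpa only [sext_coe] using h'
  · obtain ⟨ψ, hψ, -, -⟩ := exists_starLin hM hmax l hst (mem_bset.1 hχ)
    rw [← hψ]
    refine classInner_irr_ne ψ.2 χ.2 fun he => hv ?_
    have hne' := pairT_ne_of_secPair hM hmax v.2 hχ₀ (mem_bset.1 hχ) h0
      (Or.inr (blockDefect_bEl_central hM hmax v.2 fun y hy => hab y hy v v.2))
    have h1 := eq_one_of_starFun_eq hM hmax hst v.2 (hψ.symm.trans he) hne'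
    rw [sext_coe] at h1
    exact Units.ext h1

open Classical in
/-- The sums over the cosets of the moved part are equal. -/
theorem coset_sum_eq (hM : IsPModular p M) (hmax : IsMaximalBrauerPair p M B P c)
    (hab : ∀ x ∈ P, ∀ y ∈ P, x * y = y * x) [Fintype P] (z : P) :
    ∑ y ∈ Finset.univ.filter (· ∈ moveN P c), sRk p M P c ((z * y : P) : G) =
      ∑ y ∈ Finset.univ.filter (· ∈ moveN P c), sRk p M P c ((y : P) : G) := by
  have hcard := card_linKer (N := moveN P c) (moveN_commutators hab)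
  haveI : Finite (linKer (moveN P c)) :=
    Nat.finite_of_card_ne_zero (by rw [hcard]; exact Subgroup.index_ne_zero_of_finite)
  haveI : Fintype (linKer (moveN P c)) := Fintype.ofFinite _
  have horth : ∀ w : P, ∑ l : linKer (moveN P c), ((l.1 w : ℂˣ) : ℂ) =
      if w ∈ moveN P c then (Fintype.card (linKer (moveN P c)) : ℂ) else 0 := by
    intro w
    split_ifs with hw
    · rw [Finset.sum_congr rfl fun l _ => show ((l.1 w : ℂˣ) : ℂ) = 1 by
        rw [l.2 w hw, Units.val_one]]
      simp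
    · haveI := normal_of_commutators (moveN_commutators (c := c) hab)
      haveI := Fintype.ofFinite (moveN P c)
      obtain ⟨l₀, hl₀, hl₀w⟩ := exists_linear_ne_one (moveN_commutators hab) hw
      have hS : ∑ l : linKer (moveN P c), ((l₀ w : ℂˣ) : ℂ) * ((l.1 w : ℂˣ) : ℂ) =
          ∑ l : linKer (moveN P c), ((l.1 w : ℂˣ) : ℂ) :=
        Fintype.sum_equiv (Equiv.mulLeft (⟨l₀, hl₀⟩ : linKer (moveN P c))) _ _ fun l => by
          simp [MonoidHom.mul_apply]
      rw [← Finset.mul_sum] at hS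
      by_contra hne
      exact hl₀w (Units.ext ((mul_eq_right₀ hne).1 hS))
  have key : ∀ z : P, (∑ y ∈ Finset.univ.filter (· ∈ moveN P c),
      (sRk p M P c ((z * y : P) : G) : ℂ)) * (Fintype.card (linKer (moveN P c)) : ℂ) =
      ∑ u : P, (sRk p M P c u : ℂ) := by
    intro z
    have e : ∀ l : linKer (moveN P c),
        ∑ u : P, ((l.1 (z⁻¹ * u) : ℂˣ) : ℂ) * (sRk p M P c u : ℂ) =
          if l = 1 then ∑ u : P, (sRk p M P c u : ℂ) else 0 := by
      intro l
      split_ifs with h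
      · subst h; simp
      · simp only [map_mul, Units.val_mul, mul_assoc, ← Finset.mul_sum]
        rw [sum_lin_sRk hM hmax hab l.2 (fun h' => h (Subtype.ext h')), mul_zero]
    have h1 : ∑ l : linKer (moveN P c),
        ∑ u : P, ((l.1 (z⁻¹ * u) : ℂˣ) : ℂ) * (sRk p M P c u : ℂ) =
          ∑ u : P, (sRk p M P c u : ℂ) := by
      rw [Finset.sum_congr rfl fun l _ => e l, Finset.sum_ite_eq' Finset.univ]
      simp
    rw [← h1, Finset.sum_comm]
    simp only [← Finset.sum_mul, horth, ite_mul, zero_mul]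
    rw [← Finset.sum_filter, Finset.sum_mul]
    refine Finset.sum_bij' (fun y _ => z * y) (fun u _ => z⁻¹ * u) (fun y hy => ?_) (fun u hu => ?_)
      (fun y _ => inv_mul_cancel_left z y) (fun u _ => mul_inv_cancel_left z u)
      fun y _ => mul_comm _ _
    · simpa using hy
    · simpa using hu
  have h2 := (key z).trans (key 1).symm
  simp only [one_mul] at h2
  exact_mod_cast mul_right_cancel₀ (Nat.cast_ne_zero.2 Fintype.card_ne_zero) h2

theorem mainRank_aux : ∀ (n : ℕ) {G : Type u} [Group G] [Fintype G],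
    Nat.card G ≤ n → IsPModular p M → MainRank p M G := by
  intro n
  induction n using Nat.strong_induction_on with
  | _ n ih =>
    intro G _ _ hn hM B P c hmax hab R hR hfix
    classical
    haveI := Fintype.ofFinite P
    have hsub : ∀ Q : Subgroup G, Subgroup.centralizer (Q : Set G) ≠ ⊤ →
        ∀ [Fintype (Subgroup.centralizer (Q : Set G))],
          MainRank p M (Subgroup.centralizer (Q : Set G)) := by
      intro Q hQ _
      have hlt : Nat.card (Subgroup.centralizer (Q : Set G)) < Nat.card G :=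
        lt_of_le_of_ne (Subgroup.card_le_card_group _) fun h =>
          hQ (Subgroup.eq_top_of_card_eq _ h)
      exact ih _ (lt_of_lt_of_le hlt hn) le_rfl hM
    have htop : ∀ Q : Subgroup G, (∀ q ∈ Q, q ∈ Subgroup.center G) →
        Subgroup.centralizer (Q : Set G) = ⊤ := fun Q h =>
      eq_top_iff.2 fun g _ q hq => (Subgroup.mem_center_iff.1 (h q hq) g).symm
    have hne : ∀ {w : G}, w ∉ Subgroup.center G →
        Subgroup.centralizer ((Subgroup.zpowers w : Subgroup G) : Set G) ≠ ⊤ := by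
      intro w hw h
      exact hw (Subgroup.mem_center_iff.2 fun g =>
        ((isCentr_zpowers w g).1 (h ▸ Subgroup.mem_top g)).eq)
    by_cases hc : ∀ r ∈ R, r ∈ Subgroup.center G
    · exact subRk_central hM hmax hR (htop R hc)
    push Not at hc
    obtain ⟨z, hzR, hz⟩ := hc
    have hzP : z ∈ P := hR hzR
    have hzfix : ∀ t ∈ pairStab P c, t * z * t⁻¹ = z := fun t ht => hfix t ht z hzR
    rw [subRk_eq_of_fixed hM hmax hab (Subgroup.zpowers_le.2 hzR) hR
      (fun t ht _ => hfix t ht) (hsub _ (hne hz))]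
    have h := coset_sum_eq hM hmax hab ⟨z, hzP⟩
    set S := Finset.univ.filter (· ∈ moveN P c) with hS
    have h1S : (1 : P) ∈ S := Finset.mem_filter.2 ⟨Finset.mem_univ _, (moveN P c).one_mem⟩
    rw [← Finset.add_sum_erase S _ h1S, ← Finset.add_sum_erase S _ h1S, mul_one] at h
    have hrest : ∀ y ∈ S.erase 1, sRk p M P c (((⟨z, hzP⟩ : P) * y : P) : G) =
        sRk p M P c (y : G) := by
      intro y hy
      obtain ⟨hy1, hyS⟩ := Finset.mem_erase.1 hy
      have hyN : y ∈ moveN P c := (Finset.mem_filter.1 hyS).2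
      have hnfix : ¬ ∀ t ∈ pairStab P c, t * (y : G) * t⁻¹ = y := fun hf =>
        hy1 (eq_one_of_moveN_fixed hM hmax hab hyN hf)
      have hcent_fix : ∀ w : G, w ∈ Subgroup.center G → ∀ t : G, t * w * t⁻¹ = w := fun w hw t => by
        rw [Subgroup.mem_center_iff.1 hw t, mul_inv_cancel_right]
      have hconj : ∀ t ∈ pairStab P c, t * (z * (y : G)) * t⁻¹ = z * (t * y * t⁻¹) := fun t ht => by
        conv_rhs => rw [← hzfix t ht]
        group
      have hyc : (y : G) ∉ Subgroup.center G := fun hw => hnfix fun t _ => hcent_fix _ hw t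
      have hzyc : z * (y : G) ∉ Subgroup.center G := fun hw => hnfix fun t ht => by
        have h3 := hcent_fix _ hw t
        rw [hconj t ht] at h3
        exact mul_left_cancel h3
      have hR2 : Subgroup.zpowers z ⊔ Subgroup.zpowers (y : G) ≤ P :=
        sup_le (Subgroup.zpowers_le.2 hzP) (Subgroup.zpowers_le.2 y.2)
      have hfix2 : ∀ t ∈ pairStab P c, t * (y : G) * t⁻¹ = y →
          ∀ r ∈ Subgroup.zpowers z ⊔ Subgroup.zpowers (y : G), t * r * t⁻¹ = r := by
        intro t ht hty r hr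
        have hle : Subgroup.zpowers z ⊔ Subgroup.zpowers (y : G) ≤
            Subgroup.centralizer ({t} : Set G) := by
          refine sup_le (Subgroup.zpowers_le.2 ?_) (Subgroup.zpowers_le.2 ?_) <;>
            rw [Subgroup.mem_centralizer_singleton_iff]
          · exact (mul_inv_eq_iff_eq_mul.1 (hzfix t ht)).symm
          · exact (mul_inv_eq_iff_eq_mul.1 hty).symm
        have h4 := Subgroup.mem_centralizer_singleton_iff.1 (hle hr)
        rw [← h4, mul_inv_cancel_right]
      have e1 : subRk p M P c (Subgroup.zpowers z ⊔ Subgroup.zpowers (y : G)) =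
          subRk p M P c (Subgroup.zpowers (y : G)) :=
        subRk_eq_of_fixed hM hmax hab le_sup_right hR2 (fun t ht htc => hfix2 t ht
          (mul_inv_eq_iff_eq_mul.2 ((isCentr_zpowers (y : G) t).1 htc).eq)) (hsub _ (hne hyc))
      have e2 : subRk p M P c (Subgroup.zpowers z ⊔ Subgroup.zpowers (y : G)) =
          subRk p M P c (Subgroup.zpowers (z * (y : G))) := by
        refine subRk_eq_of_fixed hM hmax hab ?_ hR2 (fun t ht htc => hfix2 t ht ?_)
          (hsub _ (hne hzyc))
        · exact Subgroup.zpowers_le.2 (Subgroup.mul_mem_sup (Subgroup.mem_zpowers z)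
            (Subgroup.mem_zpowers _))
        · have h3 := mul_inv_eq_iff_eq_mul.2 ((isCentr_zpowers (z * (y : G)) t).1 htc).eq
          rw [hconj t ht] at h3
          exact mul_left_cancel h3
      have e3 : pairStab P c ⊓ Subgroup.centralizer
            ((Subgroup.zpowers (z * (y : G)) : Subgroup G) : Set G) =
          pairStab P c ⊓ Subgroup.centralizer
            ((Subgroup.zpowers (y : G) : Subgroup G) : Set G) := by
        ext t
        simp only [Subgroup.mem_inf, and_congr_right_iff]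
        intro ht
        rw [(isCentr_zpowers (z * (y : G))) t, (isCentr_zpowers (y : G)) t]
        have hzt : Commute t z := mul_inv_eq_iff_eq_mul.1 (hzfix t ht)
        constructor
        · intro h3
          simpa using hzt.inv_right.mul_right h3
        · exact hzt.mul_right
      show sRk p M P c (z * (y : G)) = sRk p M P c (y : G)
      unfold sRk
      rw [e3, ← e2, e1]
    rw [Finset.sum_congr rfl hrest] at h
    have h5 := Nat.add_right_cancel h
    have hT : ∀ w : G, (∀ t ∈ pairStab P c, t * w * t⁻¹ = w) →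
        pairStab P c ⊓ Subgroup.centralizer ((Subgroup.zpowers w : Subgroup G) : Set G) =
          pairStab P c := fun w hw =>
      inf_eq_left.2 fun t ht => (isCentr_zpowers w t).2 (mul_inv_eq_iff_eq_mul.1 (hw t ht))
    change sRk p M P c z = sRk p M P c (1 : G) at h5
    rw [sRk, sRk, hT z hzfix, hT 1 (fun t _ => by simp)] at h5
    rw [Nat.eq_of_mul_eq_mul_left Nat.card_pos h5]
    exact subRk_central hM hmax (Subgroup.zpowers_le.2 P.one_mem) (htop _ fun q hq => by
      rw [Subgroup.zpowers_one_eq_bot, Subgroup.mem_bot] at hq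
      rw [hq]
      exact Subgroup.one_mem _)

theorem mainRank (hM : IsPModular p M) : MainRank p M G := mainRank_aux _ le_rfl hM

theorem subRk_eq (hM : IsPModular p M) (hmax : IsMaximalBrauerPair p M B P c)
    (hab : ∀ x ∈ P, ∀ y ∈ P, x * y = y * x) {Q R : Subgroup G} (hQR : Q ≤ R) (hR : R ≤ P)
    (hfix : ∀ t ∈ pairStab P c, t ∈ Subgroup.centralizer (Q : Set G) →
      ∀ r ∈ R, t * r * t⁻¹ = r) : subRk p M P c R = subRk p M P c Q :=
  subRk_eq_of_fixed hM hmax hab hQR hR hfix (mainRank hM)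

/-- Watanabe's theorem on fixed elements. -/
theorem watanabe_fixed (hM : IsPModular p M) (hmax : IsMaximalBrauerPair p M B P c)
    (hab : ∀ x ∈ P, ∀ y ∈ P, x * y = y * x) {z : G} (hz : z ∈ P)
    (hzfix : ∀ t ∈ pairStab P c, t * z * t⁻¹ = z) :
    blockRank p B = blockRank p (subIdx p M ⟨P, c⟩ (Subgroup.zpowers z)).2 ∧
      Nat.card B = Nat.card (subIdx p M ⟨P, c⟩ (Subgroup.zpowers z)).2 := by
  classical
  set Q := Subgroup.zpowers z with hQ
  have hQP : Q ≤ P := Subgroup.zpowers_le.2 hz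
  have hQfix : ∀ t ∈ pairStab P c, ∀ q ∈ Q, t * q * t⁻¹ = q := by
    intro t ht q hq
    obtain ⟨i, rfl⟩ := Subgroup.mem_zpowers_iff.1 hq
    rw [← conj_zpow, hzfix t ht]
  refine ⟨(mainRank hM B P c hmax hab Q hQP hQfix).symm, ?_⟩
  haveI := Fintype.ofFinite (Subgroup.centralizer (Q : Set G))
  obtain ⟨x, hx, hup, hxmax, hxab⟩ := exists_down hM hmax hab hQP
  haveI := Fintype.ofFinite P
  haveI := Fintype.ofFinite x.1
  have hmap : x.1.map (Subgroup.centralizer (Q : Set G)).subtype = P := le_map_subtype_of_eq hup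
  have hTH : ∀ t ∈ pairStab P c, t ∈ (Subgroup.centralizer (Q : Set G)) := fun t ht q hq =>
    (mul_inv_eq_iff_eq_mul.1 (hQfix t ht q hq)).symm
  have hPH : P ≤ (Subgroup.centralizer (Q : Set G)) := fun v hv q hq => hab q (hQP hq) v hv
  have hcardT : Nat.card (pairStab x.1 x.2) = Nat.card (pairStab P c) :=
    Nat.card_congr
      { toFun := fun t => ⟨(t.1 : G), pairStab_upIdx hup t.2⟩
        invFun := fun t => ⟨⟨t.1, hTH _ t.2⟩, pairStab_down hup t.2⟩
        left_inv := fun t => rfl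
        right_inv := fun t => rfl }
  have hcardI : ∀ v : x.1,
      Nat.card (pairStab x.1 x.2 ⊓ Subgroup.centralizer
        ((Subgroup.zpowers (v : (Subgroup.centralizer (Q : Set G))) : Subgroup (Subgroup.centralizer (Q : Set G))) : Set (Subgroup.centralizer (Q : Set G))) : Subgroup (Subgroup.centralizer (Q : Set G))) =
      Nat.card (pairStab P c ⊓ Subgroup.centralizer
        ((Subgroup.zpowers ((v : (Subgroup.centralizer (Q : Set G))) : G) : Subgroup G) : Set G) : Subgroup G) := fun v =>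
    Nat.card_congr
      { toFun := fun t => ⟨(t.1 : G), pairStab_upIdx hup t.2.1, (isCentr_zpowers _ _).2
          (congrArg Subtype.val ((isCentr_zpowers (v : (Subgroup.centralizer (Q : Set G))) t.1).1 t.2.2).eq)⟩
        invFun := fun t => ⟨⟨t.1, hTH _ t.2.1⟩, pairStab_down hup t.2.1,
          (isCentr_zpowers (v : (Subgroup.centralizer (Q : Set G))) _).2 (Subtype.ext ((isCentr_zpowers _ _).1 t.2.2).eq)⟩
        left_inv := fun t => rfl
        right_inv := fun t => rfl }
  have hval : ∀ v : x.1, sRk p M x.1 x.2 (v : (Subgroup.centralizer (Q : Set G))) = sRk p M P c ((v : (Subgroup.centralizer (Q : Set G))) : G) := by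
    intro v
    have hvP : ((v : (Subgroup.centralizer (Q : Set G))) : G) ∈ P := by rw [← hmap]; exact ⟨(v : (Subgroup.centralizer (Q : Set G))), v.2, rfl⟩
    unfold sRk
    rw [hcardI v]
    congr 1
    set R := Q ⊔ Subgroup.zpowers ((v : (Subgroup.centralizer (Q : Set G))) : G) with hR
    have hRP : R ≤ P := sup_le hQP (Subgroup.zpowers_le.2 hvP)
    have hfixR : ∀ t ∈ pairStab P c, t * ((v : (Subgroup.centralizer (Q : Set G))) : G) * t⁻¹ = ((v : (Subgroup.centralizer (Q : Set G))) : G) →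
        ∀ r ∈ R, t * r * t⁻¹ = r := by
      intro t ht htv r hr
      have hle : R ≤ Subgroup.centralizer ({t} : Set G) := by
        refine sup_le (fun q hq => ?_) (Subgroup.zpowers_le.2 ?_) <;>
          rw [Subgroup.mem_centralizer_singleton_iff]
        · exact (mul_inv_eq_iff_eq_mul.1 (hQfix t ht q hq)).symm
        · exact (mul_inv_eq_iff_eq_mul.1 htv).symm
      have h4 := Subgroup.mem_centralizer_singleton_iff.1 (hle hr)
      rw [← h4, mul_inv_cancel_right]
    rw [← subRk_eq hM hmax hab (le_sup_right : Subgroup.zpowers ((v : (Subgroup.centralizer (Q : Set G))) : G) ≤ R) hRP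
      (fun t ht htc => hfixR t ht
        (mul_inv_eq_iff_eq_mul.2 ((isCentr_zpowers _ t).1 htc).eq)),
      ← subRk_down hM hmax hab (le_sup_left : Q ≤ R) hRP hup hxmax]
    refine (subRk_eq hM hxmax hxab ?_ (subgroupOf_le_down hup hRP) ?_).symm
    · exact Subgroup.zpowers_le.2 (Subgroup.mem_subgroupOf.2
        (Subgroup.mem_sup_right (Subgroup.mem_zpowers _)))
    · intro t ht htc r hr
      refine Subtype.ext (hfixR (t : G) (pairStab_upIdx hup ht) ?_ (r : G)
        (Subgroup.mem_subgroupOf.1 hr))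
      exact congrArg Subtype.val (mul_inv_eq_iff_eq_mul.2 ((isCentr_zpowers (v : (Subgroup.centralizer (Q : Set G))) t).1 htc).eq)
  refine Nat.eq_of_mul_eq_mul_left (Nat.card_pos (α := pairStab P c)) ?_
  rw [sum_sRk hM hmax hab]
  refine Eq.trans ?_ ((congrArg (· * _) hcardT.symm).trans
    ((sum_sRk hM hxmax hxab).trans (Finset.sum_congr rfl fun v _ => hval v))).symm
  symm
  refine Finset.sum_bij' (fun (v : x.1) _ => (⟨((v : (Subgroup.centralizer (Q : Set G))) : G), ?_⟩ : P))
    (fun (v : P) _ => (⟨⟨(v : G), hPH v.2⟩, ?_⟩ : x.1)) (fun _ _ => Finset.mem_univ _)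
    (fun _ _ => Finset.mem_univ _) (fun _ _ => rfl) (fun _ _ => rfl) fun _ _ => rfl
  · rw [← hmap]; exact ⟨(v : (Subgroup.centralizer (Q : Set G))), v.2, rfl⟩
  · exact subgroupOf_le_down hup le_rfl (Subgroup.mem_subgroupOf.2 v.2)

/-- Watanabe's theorem, stated for the block induced in the centralizer of the element. -/
theorem watanabe_fixed_induced (hM : IsPModular p M) (hmax : IsMaximalBrauerPair p M B P c)
    (hab : ∀ x ∈ P, ∀ y ∈ P, x * y = y * x) {z : G} (hz : z ∈ P)
    (hzfix : ∀ t ∈ pairStab P c, t * z * t⁻¹ = z) {H : Subgroup G}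
    (hH : H = Subgroup.centralizer ({z} : Set G)) {f : Set (IrrCharacter H)}
    (hf : IsInducedBlockIn M H (Subgroup.centralizer (P : Set G)) c f) :
    blockRank p B = blockRank p f ∧ Nat.card B = Nat.card f := by
  classical
  rw [← centralizer_zpowers_eq] at hH
  subst hH
  haveI := Fintype.ofFinite (Subgroup.centralizer ((Subgroup.zpowers z : Subgroup G) : Set G))
  have hQP : Subgroup.zpowers z ≤ P := Subgroup.zpowers_le.2 hz
  have hP : IsPGroup p P := hmax.1.1.1
  have hPC : P ≤ Subgroup.centralizer ((Subgroup.zpowers z : Subgroup G) : Set G) :=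
    fun x hx q hq => hab q (hQP hq) x hx
  obtain ⟨a, ha, hup, hpair⟩ := pairOf_of_inducedIn hM hP hPC (centralizer_anti hQP) hf
  have hstep := normalSubpair_of_pairOf hM hQP hP hPC hf.2.1 hmax.1.1.2 hup hpair
  have e : (⟨Subgroup.zpowers z, (subIdx p M ⟨P, c⟩ (Subgroup.zpowers z)).2⟩ : BrauerPairIdx G) =
      ⟨Subgroup.zpowers z, f⟩ :=
    subIdx_unique hM (a := (⟨P, c⟩ : BrauerPairIdx G)) (b := ⟨Subgroup.zpowers z, f⟩) hP
      hmax.1.1.2 (Relation.ReflTransGen.single hstep)
  rw [← eq_of_heq (Sigma.mk.inj_iff.1 e).2]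
  exact watanabe_fixed hM hmax hab hz hzfix

end CfsgLib.Blocks
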