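import Cfsg.Agent.Lib.Blocks.Star.Gen
import Cfsg.Agent.Lib.Blocks.BlockFusion
import Cfsg.Agent.Lib.Blocks.BlockAlgebra
import Cfsg.Agent.Lib.CharTheory.Integral

/-!
# The star construction for functions on Brauer pairs
-/

namespace CfsgLib.Blocks

open Cfsg CfsgLib.CharTheory MonoidAlgebra

set_option linter.unusedVariables false
set_option linter.unusedSimpArgs false
set_option linter.style.haveILetI false
set_option linter.unusedSectionVars false
set_option maxHeartbeats 800000

universe u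

variable {p : ℕ} {M : Ideal AlgInt} {G : Type u} [Group G] [Fintype G]

/-! ### the local ring -/

theorem mem_loc_of_integral (hM : IsPModular p M) {z : ℂ} (h : IsIntegral (loc hM) z) :
    z ∈ loc hM := by
  classical
  obtain ⟨q, hq, hq0⟩ := h
  have hc : ∀ i, ∃ a b : AlgInt, b ∉ M ∧ ((q.coeff i : loc hM) : ℂ) * b = a := fun i =>
    memLocalRing_iff.1 (q.coeff i).2
  choose a b hb hab using hc
  set n := q.natDegree
  set d : AlgInt := ∏ i ∈ Finset.range (n + 1), b i with hd
  have hdM : d ∉ M := fun h => by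
    obtain ⟨i, -, hi⟩ := ((isPrimeOf hM).prod_mem_iff).1 h
    exact hb i hi
  set q' : Polynomial ℂ := q.map (loc hM).subtype with hq'
  have hq'm : q'.Monic := hq.map _
  have hroot : Polynomial.aeval z q' = 0 := by
    rw [hq', Polynomial.aeval_def, Polynomial.eval₂_map]
    exact hq0
  have hdeg : q'.natDegree = n := hq.natDegree_map _
  set Q := q'.scaleRoots (d : ℂ) with hQ
  have hQroot : Polynomial.aeval ((d : ℂ) * z) Q = 0 := by
    rw [hQ]
    have := Polynomial.scaleRoots_aeval_eq_zero (r := (d : ℂ)) hroot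
    simpa using this
  have hQcoef : ∀ i, IsIntegral ℤ (Q.coeff i) := by
    intro i
    rw [hQ, Polynomial.coeff_scaleRoots, hdeg]
    rcases lt_trichotomy i n with hi | hi | hi
    · have : (d : ℂ) = (b i : ℂ) * ((∏ j ∈ (Finset.range (n + 1)).erase i, b j : AlgInt) : ℂ) := by
        rw [hd, ← Finset.mul_prod_erase _ _ (Finset.mem_range.2 (by omega) : i ∈ Finset.range (n + 1))]
        push_cast; ring
      obtain ⟨m, hm⟩ : ∃ m, n - i = m + 1 := ⟨n - i - 1, by omega⟩
      rw [hq', Polynomial.coeff_map, hm, pow_succ', ← mul_assoc]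
      conv => arg 2; arg 1; rw [this, ← mul_assoc, show (loc hM).subtype (q.coeff i) * (b i : ℂ) = a i from hab i]
      exact ((a i).2.mul (Subtype.prop _)).mul (d.2.pow m)
    · subst hi
      rw [Nat.sub_self, pow_zero, mul_one]
      have h1 := hq'm.coeff_natDegree
      rw [hdeg] at h1
      rw [h1]; exact isIntegral_one
    · rw [Polynomial.coeff_eq_zero_of_natDegree_lt (by rw [hdeg]; exact hi), zero_mul]
      exact isIntegral_zero
  have hQm : Q.Monic := Polynomial.monic_scaleRoots_iff _ |>.2 hq'm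
  have hlift : Q ∈ Polynomial.lifts (algebraMap AlgInt ℂ) :=
    (Polynomial.lifts_iff_coeff_lifts Q).2 fun i => ⟨⟨Q.coeff i, hQcoef i⟩, rfl⟩
  obtain ⟨Q₀, hQ₀, -, hQ₀m⟩ := Polynomial.lifts_and_degree_eq_and_monic hlift hQm
  have hint : IsIntegral AlgInt ((d : ℂ) * z) :=
    ⟨Q₀, hQ₀m, by rw [← Polynomial.eval_map, hQ₀, ← Polynomial.coe_aeval_eq_eval]; exact hQroot⟩
  haveI : Algebra.IsIntegral ℤ AlgInt := integralClosure.AlgebraIsIntegral
  exact mem_loc.2 (memLocalRing_iff.2
    ⟨⟨(d : ℂ) * z, isIntegral_trans _ hint⟩, d, hdM, mul_comm z (d : ℂ)⟩)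

theorem split_loc (hM : IsPModular p M) (q : Polynomial (loc hM)) (hq : q.Monic) :
    ∃ s : Multiset (loc hM), q = (s.map fun a => Polynomial.X - Polynomial.C a).prod := by
  classical
  set q' := q.map (loc hM).subtype with hq'
  have hs := (IsAlgClosed.splits q').eq_prod_roots_of_monic (hq.map _)
  have hmem : ∀ r ∈ q'.roots, r ∈ loc hM := fun r hr =>
    mem_loc_of_integral hM ⟨q, hq, by
      have := Polynomial.isRoot_of_mem_roots hr
      rw [Polynomial.IsRoot, hq', Polynomial.eval_map] at this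
      exact this⟩
  refine ⟨q'.roots.attach.map fun r => ⟨r.1, hmem r.1 r.2⟩, ?_⟩
  apply Polynomial.map_injective (loc hM).subtype Subtype.val_injective
  rw [Polynomial.map_multiset_prod, Multiset.map_map, Multiset.map_map]
  show q' = _
  conv_lhs => rw [hs, ← Multiset.attach_map_val q'.roots, Multiset.map_map]
  congr 1
  refine Multiset.map_congr rfl fun r _ => ?_
  simp [Polynomial.map_sub]

theorem res_surj (hM : IsPModular p M) : Function.Surjective (resHom hM) := fun y => by
  obtain ⟨a, rfl⟩ := Ideal.Quotient.mk_surjective y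
  exact ⟨⟨(a : ℂ), memRing_coe hM a⟩, res_coe hM a⟩

theorem isUnit_loc (hM : IsPModular p M) (a : loc hM) (ha : resHom hM a ≠ 0) : IsUnit a := by
  have hnot : ¬ MemLocalIdeal M (a : ℂ) := fun h => ha ((res_eq_zero_iff hM a.2).2 h)
  have h0 : (a : ℂ) ≠ 0 := fun h => hnot (h ▸ memIdeal_zero hM)
  exact isUnit_iff_exists_inv.2 ⟨⟨(a : ℂ)⁻¹, memRing_inv hM a.2 hnot⟩,
    Subtype.ext (mul_inv_cancel₀ h0)⟩

/-- The field structure on the residue ring. -/
noncomputable abbrev kField (hM : IsPModular p M) : Field (AlgInt ⧸ M) :=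
  haveI := hM.2.1
  Ideal.Quotient.field M

/-- The residue map of the local ring. -/
noncomputable def locRed (hM : IsPModular p M) :
    letI := kField hM
    Star.LocRed (loc hM) (AlgInt ⧸ M) :=
  letI := kField hM
  { r := resHom hM
    surj := res_surj hM
    unit := isUnit_loc hM
    split := split_loc hM }

theorem loc_sep (hM : IsPModular p M) (z : loc hM)
    (hz : ∀ n : ℕ, (p : loc hM) ^ n ∣ z) : z = 0 := by
  classical
  haveI := res_charP hM
  obtain ⟨a, b, hb, hab⟩ := memLocalRing_iff.1 z.2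
  have ha : IsIntegral ℤ (a : ℂ) := a.2
  set P := minpoly ℤ (a : ℂ)
  by_contra hne
  have ha0 : (a : ℂ) ≠ 0 := by
    rw [← hab]
    exact mul_ne_zero (fun h => hne (Subtype.ext h)) (coe_ne_zero hb)
  have hc0 : P.coeff 0 ≠ 0 := by
    intro h
    have hX : Polynomial.X ∣ P := Polynomial.X_dvd_iff.2 h
    have hPX : P = Polynomial.X := (Polynomial.eq_of_monic_of_associated Polynomial.monic_X
      (minpoly.monic ha) (Polynomial.irreducible_X.associated_of_dvd (minpoly.irreducible ha) hX)).symm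
    have h1 : Polynomial.aeval (a : ℂ) P = 0 := minpoly.aeval ℤ (a : ℂ)
    rw [hPX, Polynomial.aeval_X] at h1
    exact ha0 h1
  obtain ⟨v, c', hc', hv⟩ :=
    Nat.exists_eq_pow_mul_and_not_dvd (n := (P.coeff 0).natAbs) (by simpa using hc0) p hM.1.ne_one
  -- the constant term is divisible by every power
  set w : ℂ := -((Polynomial.aeval (a : ℂ) P.divX) * (b : ℂ)) with hw
  have hwm : MemLocalRing M w := memRing_of_isIntegral hM
    (((IsIntegral.of_mem_of_fg (Algebra.adjoin ℤ {(a : ℂ)}) ha.fg_adjoin_singleton _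
      (Polynomial.aeval_mem_adjoin_singleton _ _)).mul b.2).neg)
  have hc : (P.coeff 0 : ℂ) = (z : ℂ) * w := by
    have h1 : Polynomial.aeval (a : ℂ) P = 0 := minpoly.aeval ℤ (a : ℂ)
    rw [← Polynomial.X_mul_divX_add P, map_add, map_mul, Polynomial.aeval_X, Polynomial.aeval_C,
      eq_intCast (algebraMap ℤ ℂ), add_comm, add_eq_zero_iff_eq_neg] at h1
    rw [h1, hw, ← hab]; ring
  obtain ⟨t, ht⟩ := hz (v + 1)
  have ht' : (z : ℂ) = (p : ℂ) ^ (v + 1) * (t : ℂ) := by
    rw [ht]; push_cast; ring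
  have hkey : ∃ s : ℂ, (s = 1 ∨ s = -1) ∧ (c' : ℂ) = (p : ℂ) * (s * ((t : ℂ) * w)) := by
    have hp0 : (p : ℂ) ^ v ≠ 0 := pow_ne_zero _ (Nat.cast_ne_zero.2 hM.1.ne_zero)
    rcases Int.natAbs_eq (P.coeff 0) with e | e
    · refine ⟨1, Or.inl rfl, mul_left_cancel₀ hp0 ?_⟩
      rw [e, hv, ht'] at hc
      push_cast at hc
      rw [hc]; ring
    · refine ⟨-1, Or.inr rfl, mul_left_cancel₀ hp0 ?_⟩
      rw [e, hv, ht'] at hc
      push_cast at hc
      linear_combination -hc
  obtain ⟨s, hs, hc''⟩ := hkey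
  have hsm : MemLocalRing M (s * ((t : ℂ) * w)) := by
    refine (loc hM).mul_mem ?_ ((loc hM).mul_mem t.2 hwm)
    rcases hs with rfl | rfl
    · exact (loc hM).one_mem
    · exact (loc hM).neg_mem (loc hM).one_mem
  apply hc'
  rw [← CharP.cast_eq_zero_iff (AlgInt ⧸ M) p, ← res_natCast hM, hc'',
    res_mul hM (memRing_natCast hM _) hsm, natCast_p_mem hM, zero_mul]

/-! ### idempotents of Brauer pairs -/

open Classical in
/-- A function with local values as an element of the group algebra. -/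
noncomputable def toO (hM : IsPModular p M) (f : G → ℂ) : MonoidAlgebra (loc hM) G :=
  Star.ofFn fun g => if h : MemLocalRing M (f g) then ⟨f g, h⟩ else 0

/-- The complex coefficient function. -/
noncomputable def toC {hM : IsPModular p M} (x : MonoidAlgebra (loc hM) G) : G → ℂ :=
  fun g => ((x.coeff g : loc hM) : ℂ)

theorem toC_toO (hM : IsPModular p M) {f : G → ℂ} (hf : ∀ g, MemLocalRing M (f g)) :
    toC (toO hM f) = f := by
  funext g
  simp [toC, toO, Star.coeff_ofFn, dif_pos (hf g)]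

theorem toC_inj {hM : IsPModular p M} {x y : MonoidAlgebra (loc hM) G} (h : toC x = toC y) :
    x = y := Star.ext_coeff fun g => Subtype.ext (congrFun h g)

theorem toC_mul {hM : IsPModular p M} (x y : MonoidAlgebra (loc hM) G) :
    toC (x * y) = conv (toC x) (toC y) := by
  funext g
  simp only [toC, conv]
  rw [Star.coeff_mul_sum]
  push_cast
  rfl

theorem toC_sub {hM : IsPModular p M} (x y : MonoidAlgebra (loc hM) G) :
    toC (x - y) = fun g => toC x g - toC y g := rfl

/-- The idempotent of a pair. -/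
noncomputable def pairE (hM : IsPModular p M) (a : BrauerPairIdx G) : MonoidAlgebra (loc hM) G :=
  toO hM (subgroupBlockCoeff (Subgroup.centralizer (a.1 : Set G)) a.2)

theorem memRing_pairCoeff (hM : IsPModular p M) {a : BrauerPairIdx G} (ha : IsPBlock M a.2)
    (g : G) : MemLocalRing M (subgroupBlockCoeff (Subgroup.centralizer (a.1 : Set G)) a.2 g) := by
  haveI := Fintype.ofFinite (Subgroup.centralizer (a.1 : Set G))
  rw [subgroupBlockCoeff_eq]
  exact sext_mem hM _ (memRing_blockCoeff hM ha) g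

theorem toC_pairE (hM : IsPModular p M) {a : BrauerPairIdx G} (ha : IsPBlock M a.2) :
    toC (pairE hM a) = subgroupBlockCoeff (Subgroup.centralizer (a.1 : Set G)) a.2 :=
  toC_toO hM (memRing_pairCoeff hM ha)

open Classical in
/-- The pairs at a given subgroup. -/
noncomputable def pairsAt (M : Ideal AlgInt) (Q : Subgroup G) : Finset (BrauerPairIdx G) :=
  (Set.toFinite {a : BrauerPairIdx G | a.1 = Q ∧ IsPBlock M a.2}).toFinset

theorem mem_pairsAt {Q : Subgroup G} {a : BrauerPairIdx G} :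
    a ∈ pairsAt M Q ↔ a.1 = Q ∧ IsPBlock M a.2 := by
  simp [pairsAt]

open Classical in
/-- The pair below a given one at a smaller subgroup. -/
noncomputable def subIdx (p : ℕ) (M : Ideal AlgInt) (a : BrauerPairIdx G) (Q : Subgroup G) :
    BrauerPairIdx G :=
  ⟨Q, if h : ∃ f : Set (IrrCharacter (Subgroup.centralizer (Q : Set G))),
      IsPBlock M f ∧ SubpairLE p M Q f a.1 a.2 then h.choose else ∅⟩

theorem subIdx_spec (hM : IsPModular p M) {a : BrauerPairIdx G} (ha : IsPGroup p a.1)
    (hb : IsPBlock M a.2) {Q : Subgroup G} (hQ : Q ≤ a.1) :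
    IsPBlock M (subIdx p M a Q).2 ∧
      Relation.ReflTransGen (NormalSubpairRel p M) (subIdx p M a Q) a := by
  obtain ⟨f, hf, -⟩ := existsUnique_subpair hM ha hb Q hQ
  have h : ∃ f : Set (IrrCharacter (Subgroup.centralizer (Q : Set G))),
      IsPBlock M f ∧ SubpairLE p M Q f a.1 a.2 := ⟨f, hf⟩
  simp only [subIdx, dif_pos h]
  exact h.choose_spec

theorem subIdx_unique (hM : IsPModular p M) {a b : BrauerPairIdx G} (ha : IsPGroup p a.1)
    (hb : IsPBlock M a.2) (hle : Relation.ReflTransGen (NormalSubpairRel p M) b a) :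
    subIdx p M a b.1 = b := by
  obtain ⟨Q, f⟩ := b
  obtain ⟨P, e⟩ := a
  have hs := subIdx_spec hM (a := ⟨P, e⟩) ha hb (subpairLE_le hle)
  exact congrArg (Sigma.mk Q)
    (subpair_unique hM ha hb hs.1 (subpairLE_left_block hb hle) hs.2 hle)

theorem pairE_supp (hM : IsPModular p M) {a : BrauerPairIdx G} (ha : IsPBlock M a.2) {g : G}
    (hg : g ∉ Subgroup.centralizer (a.1 : Set G)) : (pairE hM a).coeff g = 0 := by
  have := congrFun (toC_pairE hM ha) g
  rw [subgroupBlockCoeff_eq, sext_off _ _ hg] at this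
  exact Subtype.ext this

theorem pairE_inv (hM : IsPModular p M) {a : BrauerPairIdx G} (ha : IsPBlock M a.2) {t : G}
    (ht : t ∈ Subgroup.centralizer (a.1 : Set G)) : Star.cj t (pairE hM a) = pairE hM a := by
  haveI := Fintype.ofFinite (Subgroup.centralizer (a.1 : Set G))
  refine toC_inj (funext fun g => ?_)
  have e : toC (Star.cj t (pairE hM a)) g = toC (pairE hM a) (t⁻¹ * g * t) := by
    simp [toC, Star.coeff_cj]
  rw [e, toC_pairE hM ha, subgroupBlockCoeff_eq]
  have h := sext_conj_mem (Subgroup.centralizer (a.1 : Set G)) (blockCoeff_isClassFunction a.2)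
    ((Subgroup.centralizer (a.1 : Set G)).inv_mem ht) g
  simpa using h

theorem pairE_idem (hM : IsPModular p M) {a : BrauerPairIdx G} (ha : IsPBlock M a.2) :
    pairE hM a * pairE hM a = pairE hM a := by
  haveI := Fintype.ofFinite (Subgroup.centralizer (a.1 : Set G))
  refine toC_inj ?_
  rw [toC_mul, toC_pairE hM ha, subgroupBlockCoeff_eq, sext_conv, conv_blockCoeff]

theorem pairE_orth (hM : IsPModular p M) {a b : BrauerPairIdx G} (ha : IsPBlock M a.2)
    (hb : IsPBlock M b.2) (h1 : a.1 = b.1) (hne : a ≠ b) : pairE hM a * pairE hM b = 0 := by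
  obtain ⟨Q, f⟩ := a
  obtain ⟨Q', f'⟩ := b
  change Q = Q' at h1
  subst h1
  haveI := Fintype.ofFinite (Subgroup.centralizer (Q : Set G))
  refine toC_inj ?_
  rw [toC_mul, toC_pairE hM ha, toC_pairE hM hb, subgroupBlockCoeff_eq, subgroupBlockCoeff_eq,
    sext_conv, conv_blockCoeff_eq_zero (block_disjoint hM ha hb fun h => hne (congrArg (Sigma.mk Q) h))]
  funext g
  simp [toC, sext]

theorem pairE_sum (hM : IsPModular p M) (Q : Subgroup G) :
    ∑ a ∈ pairsAt M Q, pairE hM a = 1 := by
  classical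
  haveI := Fintype.ofFinite (Subgroup.centralizer (Q : Set G))
  set K := Subgroup.centralizer (Q : Set G) with hK
  set bl : Finset (Set (IrrCharacter K)) :=
    Finset.univ.filter fun f => IsPBlock M f with hbl
  have hpairs : pairsAt M Q = bl.map ⟨fun f => (⟨Q, f⟩ : BrauerPairIdx G),
      fun f f' h => eq_of_heq (Sigma.mk.inj_iff.1 h).2⟩ := by
    ext ⟨Q', f⟩
    simp only [mem_pairsAt, Finset.mem_map, Function.Embedding.coeFn_mk, hbl, Finset.mem_filter,
      Finset.mem_univ, true_and]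
    constructor
    · rintro ⟨h1, h2⟩
      change Q' = Q at h1
      subst h1
      exact ⟨f, h2, rfl⟩
    · rintro ⟨f', hf', he⟩
      obtain ⟨rfl, he2⟩ := Sigma.mk.inj_iff.1 he
      exact ⟨rfl, eq_of_heq he2 ▸ hf'⟩
  rw [hpairs, Finset.sum_map]
  refine toC_inj (funext fun g => ?_)
  have e : toC (∑ f ∈ bl, pairE hM (⟨Q, f⟩ : BrauerPairIdx G)) g =
      ∑ f ∈ bl, sext K (blockCoeff f) g := by
    simp only [toC]
    rw [coeff_sum, Finsupp.finsetSum_apply]
    push_cast
    exact Finset.sum_congr rfl fun f hf =>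
      congrFun (toC_pairE hM (a := ⟨Q, f⟩) (Finset.mem_filter.1 hf).2) g
  refine (Eq.trans (by rfl) e).trans ?_
  have hone : ∑ f ∈ bl, ind f = (1 : IrrCharacter K → ℂ) := by
    funext ψ
    rw [Finset.sum_apply, Finset.sum_eq_single (blockOf M (ψ : K → ℂ))]
    · exact ind_of_mem (mem_blockOf_self hM ψ)
    · intro f hf hne
      exact ind_of_notMem fun h => hne (eq_blockOf hM (Finset.mem_filter.1 hf).2 h)
    · exact fun h => absurd (Finset.mem_filter.2 ⟨Finset.mem_univ _, blockOf_isPBlock ψ⟩) h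
  have hc := congrArg cf hone
  rw [cf_sum, cf_one] at hc
  by_cases hg : g ∈ K
  · have hs : ∀ f : Set (IrrCharacter K), sext K (blockCoeff f) g = blockCoeff f ⟨g, hg⟩ :=
      fun f => sext_coe K (blockCoeff f) ⟨g, hg⟩
    simp only [hs]
    have := congrFun hc ⟨g, hg⟩
    simp only [Finset.sum_apply, cf_ind] at this
    rw [this]
    simp [toC, one_def, Finsupp.single_apply, Subtype.ext_iff, eq_comm]
    split_ifs <;> simp_all
  · rw [Finset.sum_eq_zero fun f _ => sext_off K _ hg]
    have : g ≠ 1 := fun h => hg (h ▸ K.one_mem)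
    simp [toC, one_def, Finsupp.single_apply, Ne.symm this]

theorem pairE_conj (hM : IsPModular p M) {a : BrauerPairIdx G} (ha : IsPBlock M a.2) (t : G) :
    pairE hM (conjIdx t a) = Star.cj t (pairE hM a) := by
  refine toC_inj (funext fun g => ?_)
  have e : toC (Star.cj t (pairE hM a)) g = toC (pairE hM a) (t⁻¹ * g * t) := by
    simp [toC, Star.coeff_cj]
  rw [e, toC_pairE hM ha, toC_pairE hM (isPBlock_conjBlock ha t)]
  exact sext_conjBlock t a.2 g

theorem pairE_step (hM : IsPModular p M) {Q S : Subgroup G}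
    {f : Set (IrrCharacter (Subgroup.centralizer (Q : Set G)))}
    {g : Set (IrrCharacter (Subgroup.centralizer (S : Set G)))}
    (h : IsNormalSubpair p M Q f S g) :
    letI := kField hM
    Star.red (locRed hM) (pairE hM ⟨S, g⟩) *
        Star.br S (Star.red (locRed hM) (pairE hM ⟨Q, f⟩)) =
      Star.red (locRed hM) (pairE hM ⟨S, g⟩) := by
  letI := kField hM
  haveI : Fact p.Prime := ⟨hM.1⟩
  haveI : CharP (AlgInt ⧸ M) p := res_charP hM
  haveI := Fintype.ofFinite (Subgroup.centralizer (S : Set G))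
  haveI := Fintype.ofFinite (Subgroup.centralizer (Q : Set G))
  obtain ⟨⟨hQp, hf⟩, ⟨hSp, hg⟩, hQS, hSN, hst, -⟩ := id h
  set E := pairE hM ⟨S, g⟩ with hE
  set F := pairE hM ⟨Q, f⟩ with hF
  have nS : Nice M S (toC E) := by
    rw [hE, toC_pairE hM hg, subgroupBlockCoeff_eq]
    exact nice_sext_centralizer hM (blockCoeff_isClassFunction g) (memRing_blockCoeff hM hg)
  have nQ : Nice M S (toC F) := by
    rw [hF, toC_pairE hM hf]
    exact nice_subgroupBlockCoeff hM (centralizer_anti hQS) hf hst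
  have hEF : E * F = F * E :=
    Star.commute_of_supp (S := (Subgroup.centralizer (Q : Set G) : Set G))
      (fun x hx => pairE_supp hM hg fun hx' => hx (Subgroup.centralizer_le hQS hx'))
      (fun x hx => pairE_inv hM hf hx)
  set β := E - E * F with hβ
  have hββ : β * β = β := by
    have h1 := pairE_idem hM (a := ⟨S, g⟩) hg
    have h2 := pairE_idem hM (a := ⟨Q, f⟩) hf
    rw [← hE] at h1
    rw [← hF] at h2
    rw [hβ, sub_mul, mul_sub, mul_sub, h1, ← mul_assoc, h1,
      show E * F * E = E * F by rw [mul_assoc, ← hEF, ← mul_assoc, h1],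
      show E * F * (E * F) = E * F by
        rw [mul_assoc, ← mul_assoc F, ← hEF, mul_assoc E F F, h2, ← mul_assoc, h1]]
    abel
  have hn : Nice M S (toC β) := by
    rw [hβ, toC_sub, toC_mul]; exact nS.sub hM (nS.conv hM nQ)
  have h0 : ∀ ξ, lam hM S (toC β) ξ = 0 := by
    intro ξ
    rw [hβ, toC_sub, toC_mul, lam_sub hM nS (nS.conv hM nQ), lam_conv hM hSp nS nQ]
    by_cases hξ : ξ ∈ g
    · rw [hF, toC_pairE hM (a := ⟨Q, f⟩) hf, normalSubpair_lam hM h hξ, mul_one, sub_self]
    · rw [hE, toC_pairE hM (a := ⟨S, g⟩) hg, subgroupBlockCoeff_eq, lam_sext_centralizer hM, ind_of_notMem hξ,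
        res_zero, zero_mul, sub_zero]
  have hbr : Star.br S (Star.red (locRed hM) β) = 0 := by
    refine Star.ext_coeff fun c => ?_
    by_cases hc : c ∈ Subgroup.centralizer (S : Set G)
    · rw [Star.coeff_br_mem S _ hc, Star.coeff_red]
      exact res_eq_zero_of_lam_zero hM hSp hn (by rw [← toC_mul, hββ]) h0 hc
    · rw [Star.coeff_br_notMem S _ hc]; rfl
  have hfixn : ∀ z : MonoidAlgebra (loc hM) G, Nice M S (toC z) →
      Star.red (locRed hM) z ∈ Star.fixA (AlgInt ⧸ M) (S : Set G) := fun z hz =>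
    Star.red_fix _ (Star.mem_fixA.2 fun s hs => toC_inj (funext fun x => by
      show ((Star.cj s z).coeff x : ℂ) = toC z x
      rw [Star.coeff_cj]
      show toC z (s⁻¹ * x * s) = toC z x
      rw [← hz.inv s hs (s⁻¹ * x * s)]
      congr 1; group))
  rw [hβ, map_sub, map_mul, Star.br_sub,
    Star.br_mul hSp (hfixn E nS) (hfixn F nQ), sub_eq_zero] at hbr
  have hbE : Star.br S (Star.red (locRed hM) E) = Star.red (locRed hM) E :=
    Star.br_eq_self fun x hx => by rw [Star.coeff_red, hE, pairE_supp hM hg hx, map_zero]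
  rw [hbE] at hbr
  exact hbr.symm

theorem conjMap_eq_self {Q : Subgroup G} {t : G} (ht : t ∈ Subgroup.normalizer (Q : Set G)) :
    Q.map (MulAut.conj t).toMonoidHom = Q := by
  ext z
  rw [conjMap_mem_iff, Subgroup.mem_normalizer_iff.1 ht (t⁻¹ * z * t)]
  simp [mul_assoc]

/-- The pair data of a finite group. -/
noncomputable def pairData (hM : IsPModular p M) :
    letI := kField hM
    Star.PairData (locRed hM) p G (BrauerPairIdx G) :=
  letI := kField hM
  { pr := pairsAt M
    e := pairE hM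
    supp := fun Q a ha g hg => pairE_supp hM (mem_pairsAt.1 ha).2 (by rwa [(mem_pairsAt.1 ha).1])
    inv := fun Q a ha g hg => pairE_inv hM (mem_pairsAt.1 ha).2 (by rwa [(mem_pairsAt.1 ha).1])
    idem := fun Q a ha => pairE_idem hM (mem_pairsAt.1 ha).2
    orth := fun Q a ha b hb hne => pairE_orth hM (mem_pairsAt.1 ha).2 (mem_pairsAt.1 hb).2
      ((mem_pairsAt.1 ha).1.trans (mem_pairsAt.1 hb).1.symm) hne
    sum_one := pairE_sum hM
    conj := conjIdx
    conj_inv := fun t a => by rw [conjIdx_mul, inv_mul_cancel, conjIdx_one]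
    conj_mem := fun t Q a ha => mem_pairsAt.2
      ⟨by rw [← (mem_pairsAt.1 ha).1]; rfl, isPBlock_conjBlock (mem_pairsAt.1 ha).2 t⟩
    conj_e := fun t Q a ha => pairE_conj hM (mem_pairsAt.1 ha).2 t
    below := fun _ a Q => subIdx p M a Q
    below_mem := fun U hU f hf Q hQ => by
      obtain ⟨h1, h2⟩ := mem_pairsAt.1 hf
      exact mem_pairsAt.2 ⟨rfl, (subIdx_spec hM (by rwa [h1]) h2 (by rwa [h1])).1⟩
    below_self := fun U hU f hf => by
      obtain ⟨h1, h2⟩ := mem_pairsAt.1 hf
      subst h1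
      exact subIdx_unique hM hU h2 Relation.ReflTransGen.refl
    below_stab := fun U hU f hf Q hQ t ht htN => by
      obtain ⟨U', e⟩ := f
      obtain ⟨h1, h2⟩ := mem_pairsAt.1 hf
      change U' = U at h1
      subst h1
      obtain ⟨h3, h4⟩ := subIdx_spec hM (a := (⟨U', e⟩ : BrauerPairIdx G)) hU h2 hQ
      have h5 := subIdx_unique hM (a := (⟨U', e⟩ : BrauerPairIdx G)) hU h2
        (subpair_conj_mem hM h4 ht)
      rw [show (conjIdx t (subIdx p M (⟨U', e⟩ : BrauerPairIdx G) Q)).1 = Q from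
        conjMap_eq_self htN] at h5
      exact h5.symm
    below_step := fun U hU f hf Q S hQS hSU hSN => by
      obtain ⟨U', e⟩ := f
      obtain ⟨h1, h2⟩ := mem_pairsAt.1 hf
      change U' = U at h1
      subst h1
      obtain ⟨h3, h4⟩ := subIdx_spec hM (a := (⟨U', e⟩ : BrauerPairIdx G)) hU h2 (hQS.trans hSU)
      obtain ⟨g, hg, hstep, hgle⟩ := normal_step_of_le hM hU h3 h2 h4 hQS hSU hSN
      have h5 := subIdx_unique hM (a := (⟨U', e⟩ : BrauerPairIdx G)) (b := ⟨S, g⟩) hU h2 hgle
      rw [h5]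
      exact pairE_step hM hstep }

/-! ### the construction -/

/-- The `p`-part of an element. -/
noncomputable def pPartEl (p : ℕ) (g : G) : G :=
  open Classical in if h : ∃ x, IsPPart p g x then h.choose else 1

theorem pPartEl_eq (hp : p.Prime) {x y : G} (hc : Commute x y) (hx : ∃ k, orderOf x = p ^ k)
    (hy : ¬ p ∣ orderOf y) : pPartEl p (x * y) = x := by
  have h : ∃ z, IsPPart p (x * y) z := ⟨x, y, rfl, hc, hx, hy⟩
  rw [pPartEl, dif_pos h]
  obtain ⟨w, hw, hcw, hz, hwr⟩ := h.choose_spec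
  exact (pPart_unique hp hcw hc hz hx hwr hy hw).1

/-- The star construction: a function on pairs acting on a function on `G`. -/
noncomputable def starFun (p : ℕ) (M : Ideal AlgInt) (W : BrauerPairIdx G → G → ℂ) (F : G → ℂ) :
    G → ℂ := fun g =>
  ∑ a ∈ pairsAt M (Subgroup.zpowers (pPartEl p g)), W a (pPartEl p g) *
    ∑ h : G, subgroupBlockCoeff (Subgroup.centralizer (a.1 : Set G)) a.2 h * F (g * h)

/-- `W` is compatible with conjugation. -/
def PairConjInv (M : Ideal AlgInt) (W : BrauerPairIdx G → G → ℂ) : Prop :=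
  ∀ t x a, a ∈ pairsAt M (Subgroup.zpowers x) → W (conjIdx t a) (t * x * t⁻¹) = W a x

theorem starFun_classFun (hM : IsPModular p M) {W : BrauerPairIdx G → G → ℂ}
    (hW : PairConjInv M W) {F : G → ℂ} (hF : IsClassFunction G F) :
    IsClassFunction G (starFun p M W F) := by
  classical
  intro g t
  obtain ⟨x, y, hxy, hc, hx, hy, -, -⟩ := exists_pPart hM.1 g
  subst hxy
  have e : t * (x * y) * t⁻¹ = (t * x * t⁻¹) * (t * y * t⁻¹) := by group
  have h2 : pPartEl p (t * (x * y) * t⁻¹) = t * x * t⁻¹ := by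
    rw [e]
    refine pPartEl_eq hM.1 ?_ (by rwa [conj_orderOf]) (by rwa [conj_orderOf])
    show t * x * t⁻¹ * (t * y * t⁻¹) = t * y * t⁻¹ * (t * x * t⁻¹)
    calc t * x * t⁻¹ * (t * y * t⁻¹) = t * (x * y) * t⁻¹ := by group
      _ = t * (y * x) * t⁻¹ := by rw [hc.eq]
      _ = _ := by group
  have h1 : pPartEl p (x * y) = x := pPartEl_eq hM.1 hc hx hy
  unfold starFun
  rw [h1, h2]
  have hz : Subgroup.zpowers (t * x * t⁻¹) =
      (Subgroup.zpowers x).map (MulAut.conj t).toMonoidHom :=
    (MonoidHom.map_zpowers (MulAut.conj t).toMonoidHom x).symm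
  symm
  refine Finset.sum_bij (fun a _ => conjIdx t a) (fun a ha => ?_) (fun a _ b _ h => ?_)
    (fun b hb => ?_) fun a ha => ?_
  · obtain ⟨ha1, ha2⟩ := mem_pairsAt.1 ha
    exact mem_pairsAt.2 ⟨by rw [hz, ← ha1]; rfl, isPBlock_conjBlock ha2 t⟩
  · have := congrArg (conjIdx t⁻¹) h
    rwa [conjIdx_mul, conjIdx_mul, inv_mul_cancel, conjIdx_one, conjIdx_one] at this
  · obtain ⟨hb1, hb2⟩ := mem_pairsAt.1 hb
    refine ⟨conjIdx t⁻¹ b, mem_pairsAt.2 ⟨?_, isPBlock_conjBlock hb2 t⁻¹⟩, by
      rw [conjIdx_mul, mul_inv_cancel, conjIdx_one]⟩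
    show b.1.map (MulAut.conj t⁻¹).toMonoidHom = _
    rw [hb1, hz, conjMap_mul, inv_mul_cancel, conjMap_one]
  · rw [hW t x a ha]
    congr 1
    refine Fintype.sum_equiv (MulAut.conj t).toEquiv _ _ fun h => ?_
    show _ = subgroupBlockCoeff _ (conjBlock a.1 t a.2) (t * h * t⁻¹) *
      F (t * (x * y) * t⁻¹ * (t * h * t⁻¹))
    rw [sext_conjBlock, show t * (x * y) * t⁻¹ * (t * h * t⁻¹) = t * (x * y * h) * t⁻¹ by group,
      hF]
    congr 2
    group

/-- **The theorem of Broué and Puig.** -/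
theorem starFun_genChar (hM : IsPModular p M) {W : BrauerPairIdx G → G → ℂ}
    (hW : PairConjInv M W)
    (hgen : ∀ U : Subgroup G, IsPGroup p U →
      ∀ f : Set (IrrCharacter (Subgroup.centralizer (U : Set G))), IsPBlock M f →
        IsGeneralizedCharacter U
          fun x : U => W (subIdx p M ⟨U, f⟩ (Subgroup.zpowers (x : G))) x)
    {F : G → ℂ} (hF : IsCharacter G F) : IsGeneralizedCharacter G (starFun p M W F) := by
  classical
  letI := kField hM
  haveI : Fact p.Prime := ⟨hM.1⟩
  haveI : CharP (AlgInt ⧸ M) p := res_charP hM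
  haveI : IsAlgClosed (AlgInt ⧸ M) := res_isAlgClosed hM
  have hFm : ∀ g, MemLocalRing M (F g) := fun g => by
    obtain ⟨n, ρ, rfl⟩ := hF
    exact memRing_of_isIntegral hM (isIntegral_character ρ g)
  let S : Star.Setup (locRed hM) p G (BrauerPairIdx G) :=
    { PD := pairData hM
      ι := (loc hM).subtype
      χ := fun g => ⟨F g, hFm g⟩
      cls := fun g h => Subtype.ext (isClassFunction_char hF g h)
      sep := loc_sep hM
      char := hF
      W := W
      wconj := hW
      wgen := fun U hU f hf => by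
        obtain ⟨U', e⟩ := f
        obtain ⟨h1, h2⟩ := mem_pairsAt.1 hf
        change U' = U at h1
        subst h1
        exact hgen U' hU e h2 }
  refine S.gen_global (starFun_classFun hM hW (isClassFunction_char hF)) fun x c hl => ?_
  unfold starFun
  rw [pPartEl_eq hM.1 hl.comm hl.pel hl.reg]
  refine Finset.sum_congr rfl fun a ha => ?_
  congr 1
  obtain ⟨-, ha2⟩ := mem_pairsAt.1 ha
  show _ = ((Star.tau (fun g => (⟨F g, hFm g⟩ : loc hM))
    (single (x * c) 1 * pairE hM a) : loc hM) : ℂ)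
  show _ = ((∑ g, (single (x * c) (1 : loc hM) * pairE hM a).coeff g * ⟨F g, hFm g⟩ : loc hM) : ℂ)
  push_cast
  refine Fintype.sum_equiv (Equiv.mulLeft (x * c)) _ _ fun h => ?_
  rw [Equiv.coe_mulLeft, coeff_single_mul_apply, one_mul, inv_mul_cancel_left]
  congr 1
  exact (congrFun (toC_pairE hM ha2) h).symm

end CfsgLib.Blocks
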