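import Cfsg.Agent.Lib.Blocks.Star.Lift
import Cfsg.Agent.Lib.Blocks.PermTrace

/-!
# The group algebra over the local domain: fixed points, Brauer maps, twisted traces
-/

namespace CfsgLib.Blocks.Star

open MonoidAlgebra

set_option linter.unusedVariables false
set_option linter.unusedSectionVars false
set_option linter.unusedSimpArgs false

universe u

variable {G : Type u} [Group G]

section AnyRing

variable {R : Type*} [CommRing R]

/-- Conjugation of a group algebra element. -/
noncomputable def cj (t : G) (x : MonoidAlgebra R G) : MonoidAlgebra R G :=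
  single t 1 * x * single t⁻¹ 1

theorem single_mul_single_one (s t : G) :
    (single s (1 : R) * single t 1 : MonoidAlgebra R G) = single (s * t) 1 := by
  rw [single_mul_single, mul_one]

theorem single_inv_mul (t : G) : (single t⁻¹ (1 : R) * single t 1 : MonoidAlgebra R G) = 1 := by
  rw [single_mul_single_one, inv_mul_cancel]; rfl

theorem single_mul_inv (t : G) : (single t (1 : R) * single t⁻¹ 1 : MonoidAlgebra R G) = 1 := by
  rw [single_mul_single_one, mul_inv_cancel]; rfl

theorem coeff_cj (t g : G) (x : MonoidAlgebra R G) :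
    (cj t x).coeff g = x.coeff (t⁻¹ * g * t) := by
  rw [cj, coeff_mul_single_apply, coeff_single_mul_apply, inv_inv, one_mul, mul_one, mul_assoc]

theorem cj_mul (t : G) (x y : MonoidAlgebra R G) : cj t (x * y) = cj t x * cj t y := by
  symm
  calc cj t x * cj t y = single t 1 * x * (single t⁻¹ (1 : R) * single t 1) * y * single t⁻¹ 1 := by
        simp only [cj, mul_assoc]
    _ = cj t (x * y) := by rw [single_inv_mul, mul_one, cj]; simp only [mul_assoc]

theorem cj_add (t : G) (x y : MonoidAlgebra R G) : cj t (x + y) = cj t x + cj t y := by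
  simp only [cj, mul_add, add_mul]

theorem cj_sub (t : G) (x y : MonoidAlgebra R G) : cj t (x - y) = cj t x - cj t y := by
  simp only [cj, mul_sub, sub_mul]

theorem cj_zero (t : G) : cj t (0 : MonoidAlgebra R G) = 0 := by simp [cj]

theorem cj_sum (t : G) {ι : Type*} (s : Finset ι) (f : ι → MonoidAlgebra R G) :
    cj t (∑ i ∈ s, f i) = ∑ i ∈ s, cj t (f i) := by
  simp only [cj, Finset.mul_sum, Finset.sum_mul]

theorem cj_one (t : G) : cj t (1 : MonoidAlgebra R G) = 1 := by
  rw [cj, mul_one, single_mul_inv]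

theorem cj_cj (s t : G) (x : MonoidAlgebra R G) : cj s (cj t x) = cj (s * t) x := by
  simp only [cj, mul_inv_rev, ← single_mul_single_one, mul_assoc]

theorem cj_one_elem (x : MonoidAlgebra R G) : cj 1 x = x := by
  rw [cj, inv_one, ← one_def, one_mul, mul_one]

theorem cj_inv_cj (t : G) (x : MonoidAlgebra R G) : cj t⁻¹ (cj t x) = x := by
  rw [cj_cj, inv_mul_cancel, cj_one_elem]

theorem cj_single (t s : G) (a : R) : cj t (single s a) = single (t * s * t⁻¹) a := by
  simp [cj, single_mul_single]

theorem cj_eq_iff (t : G) (x : MonoidAlgebra R G) :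
    cj t x = x ↔ single t 1 * x = x * single t 1 := by
  constructor
  · intro h
    calc single t 1 * x = cj t x * single t 1 := by rw [cj, mul_assoc, single_inv_mul, mul_one]
      _ = x * single t 1 := by rw [h]
  · intro h
    rw [cj, h, mul_assoc, single_mul_inv, mul_one]

/-- The fixed points of conjugation by the elements of `S`. -/
noncomputable def fixA (R : Type*) [CommRing R] (S : Set G) : Subalgebra R (MonoidAlgebra R G) :=
  Subalgebra.centralizer R ((fun g : G => single g (1 : R)) '' S)

theorem mem_fixA {S : Set G} {x : MonoidAlgebra R G} : x ∈ fixA R S ↔ ∀ s ∈ S, cj s x = x := by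
  rw [fixA, Subalgebra.mem_centralizer_iff, Set.forall_mem_image]
  exact forall₂_congr fun s _ => (cj_eq_iff s x).symm

theorem fixA_mono {S T : Set G} (h : S ⊆ T) {x : MonoidAlgebra R G} (hx : x ∈ fixA R T) :
    x ∈ fixA R S := mem_fixA.2 fun s hs => mem_fixA.1 hx s (h hs)

theorem fix_zpowers {x : MonoidAlgebra R G} {t : G} (h : cj t x = x) {s : G}
    (hs : s ∈ Subgroup.zpowers t) : cj s x = x := by
  rw [cj_eq_iff] at h ⊢
  rw [Subgroup.zpowers_eq_closure] at hs
  induction hs using Subgroup.closure_induction with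
  | mem y hy => rw [Set.mem_singleton_iff.1 hy]; exact h
  | one => rw [← one_def, one_mul, mul_one]
  | mul a b _ _ ha hb =>
    rw [← single_mul_single_one, mul_assoc, hb, ← mul_assoc, ha, mul_assoc]
  | inv a _ ha =>
    calc single a⁻¹ 1 * x = single a⁻¹ 1 * (x * single a 1) * single a⁻¹ 1 := by
          rw [mul_assoc (single a⁻¹ 1), mul_assoc x, single_mul_inv, mul_one]
      _ = x * single a⁻¹ 1 := by rw [← ha, ← mul_assoc, single_inv_mul, one_mul]

variable [Fintype G]

/-- The element with prescribed coefficients. -/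
noncomputable def ofFn (f : G → R) : MonoidAlgebra R G :=
  .ofCoeff (Finsupp.equivFunOnFinite.symm f)

theorem coeff_ofFn (f : G → R) (g : G) : (ofFn f).coeff g = f g := rfl

theorem ext_coeff {x y : MonoidAlgebra R G} (h : ∀ g, x.coeff g = y.coeff g) : x = y :=
  coeff_inj.1 (Finsupp.ext h)

theorem coeff_mul_sum (x y : MonoidAlgebra R G) (g : G) :
    (x * y).coeff g = ∑ h, x.coeff h * y.coeff (h⁻¹ * g) := by
  rw [coeff_mul_apply_left, Finsupp.sum_fintype _ _ (fun h => zero_mul _)]

open Classical in
/-- Truncation to the centraliser of `Q`. -/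
noncomputable def br (Q : Subgroup G) (y : MonoidAlgebra R G) : MonoidAlgebra R G :=
  ofFn fun g => if g ∈ Subgroup.centralizer (Q : Set G) then y.coeff g else 0

theorem coeff_br_mem (Q : Subgroup G) (y : MonoidAlgebra R G) {g : G}
    (h : g ∈ Subgroup.centralizer (Q : Set G)) : (br Q y).coeff g = y.coeff g := by
  classical rw [br, coeff_ofFn, if_pos h]

theorem coeff_br_notMem (Q : Subgroup G) (y : MonoidAlgebra R G) {g : G}
    (h : g ∉ Subgroup.centralizer (Q : Set G)) : (br Q y).coeff g = 0 := by
  classical rw [br, coeff_ofFn, if_neg h]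

theorem br_eq_self {Q : Subgroup G} {y : MonoidAlgebra R G}
    (h : ∀ g, g ∉ Subgroup.centralizer (Q : Set G) → y.coeff g = 0) : br Q y = y := by
  refine ext_coeff fun g => ?_
  by_cases hg : g ∈ Subgroup.centralizer (Q : Set G)
  · rw [coeff_br_mem Q y hg]
  · rw [coeff_br_notMem Q y hg, h g hg]

theorem br_bot (y : MonoidAlgebra R G) : br (⊥ : Subgroup G) y = y :=
  br_eq_self fun g hg => absurd (Subgroup.mem_centralizer_iff.2 fun h hh => by
    rw [Subgroup.mem_bot.1 hh, one_mul, mul_one]) hg

theorem br_add (Q : Subgroup G) (x y : MonoidAlgebra R G) : br Q (x + y) = br Q x + br Q y := by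
  classical
  refine ext_coeff fun g => ?_
  simp only [br, coeff_ofFn, coeff_add, Finsupp.add_apply]
  split_ifs <;> simp

theorem br_zero (Q : Subgroup G) : br Q (0 : MonoidAlgebra R G) = 0 :=
  br_eq_self fun g _ => rfl

theorem br_sub (Q : Subgroup G) (x y : MonoidAlgebra R G) : br Q (x - y) = br Q x - br Q y := by
  rw [eq_sub_iff_add_eq, ← br_add, sub_add_cancel]

theorem br_one (Q : Subgroup G) : br Q (1 : MonoidAlgebra R G) = 1 := by
  refine br_eq_self fun g hg => ?_
  rw [one_def, coeff_single, Finsupp.single_eq_of_ne]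
  exact fun h => hg (h ▸ (Subgroup.centralizer (Q : Set G)).one_mem)

theorem br_br {Q S : Subgroup G} (h : Q ≤ S) (y : MonoidAlgebra R G) :
    br S (br Q y) = br S y := by
  refine ext_coeff fun g => ?_
  by_cases hg : g ∈ Subgroup.centralizer (S : Set G)
  · rw [coeff_br_mem S _ hg, coeff_br_mem S _ hg, coeff_br_mem Q _ (Subgroup.centralizer_le h hg)]
  · rw [coeff_br_notMem S _ hg, coeff_br_notMem S _ hg]

theorem br_cj {Q : Subgroup G} {t : G} (ht : t ∈ Subgroup.normalizer (Q : Set G))
    (y : MonoidAlgebra R G) : br Q (cj t y) = cj t (br Q y) := by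
  have hC : ∀ g, (t⁻¹ * g * t ∈ Subgroup.centralizer (Q : Set G) ↔
      g ∈ Subgroup.centralizer (Q : Set G)) := by
    intro g
    have hiff : ∀ q, q ∈ Q ↔ t * q * t⁻¹ ∈ Q := fun q => Subgroup.mem_normalizer_iff.1 ht q
    constructor
    · intro h q hq
      have hq' : t⁻¹ * q * t ∈ Q := by rw [hiff]; simpa [mul_assoc] using hq
      calc q * g = t * ((t⁻¹ * q * t) * (t⁻¹ * g * t)) * t⁻¹ := by group
        _ = t * ((t⁻¹ * g * t) * (t⁻¹ * q * t)) * t⁻¹ := by rw [h _ hq']
        _ = g * q := by group
    · intro h q hq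
      calc q * (t⁻¹ * g * t) = t⁻¹ * ((t * q * t⁻¹) * g) * t := by group
        _ = t⁻¹ * (g * (t * q * t⁻¹)) * t := by rw [h _ ((hiff q).1 hq)]
        _ = t⁻¹ * g * t * q := by group
  refine ext_coeff fun g => ?_
  rw [coeff_cj]
  by_cases hg : g ∈ Subgroup.centralizer (Q : Set G)
  · rw [coeff_br_mem Q _ hg, coeff_br_mem Q _ ((hC g).2 hg), coeff_cj]
  · rw [coeff_br_notMem Q _ hg, coeff_br_notMem Q _ (mt (hC g).1 hg)]

/-- The trace form attached to a class function. -/
noncomputable def tau (χ : G → R) : MonoidAlgebra R G →ₗ[R] R where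
  toFun x := ∑ g, x.coeff g * χ g
  map_add' x y := by simp [add_mul, Finset.sum_add_distrib]
  map_smul' c x := by simp [Finset.mul_sum, mul_assoc]

theorem tau_single (χ : G → R) (g : G) (a : R) : tau χ (single g a) = a * χ g := by
  show ∑ h, (single g a).coeff h * χ h = _
  rw [Finset.sum_eq_single g]
  · rw [coeff_single, Finsupp.single_eq_same]
  · intro h _ hne
    rw [coeff_single, Finsupp.single_eq_of_ne hne, zero_mul]
  · simp

theorem tau_mul_comm {χ : G → R} (hχ : ∀ g h, χ (h * g * h⁻¹) = χ g) (x y : MonoidAlgebra R G) :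
    tau χ (x * y) = tau χ (y * x) := by
  induction x using MonoidAlgebra.induction_linear with
  | zero => simp
  | add a b ha hb => rw [add_mul, mul_add, map_add, map_add, ha, hb]
  | single g a =>
    induction y using MonoidAlgebra.induction_linear with
    | zero => simp
    | add c d hc hd => rw [add_mul, mul_add, map_add, map_add, hc, hd]
    | single h b =>
      rw [single_mul_single, single_mul_single, tau_single, tau_single, mul_comm a b,
        ← hχ (h * g) g]
      group

theorem tau_cj {χ : G → R} (hχ : ∀ g h, χ (h * g * h⁻¹) = χ g) (t : G) (x : MonoidAlgebra R G) :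
    tau χ (cj t x) = tau χ x := by
  rw [cj, tau_mul_comm hχ, ← mul_assoc, single_inv_mul, one_mul]

instance finite_monoidAlgebra : Module.Finite R (MonoidAlgebra R G) :=
  Module.Finite.equiv (MonoidAlgebra.coeffLinearEquiv R).symm

end AnyRing

section Residue

variable {O k : Type*} [CommRing O] [IsDomain O] [Field k] (D : LocRed O k) [Fintype G]

/-- Reduction of the group algebra. -/
noncomputable def red : MonoidAlgebra O G →+* MonoidAlgebra k G := mapRingHom G D.r

theorem coeff_red (x : MonoidAlgebra O G) (g : G) : (red D x).coeff g = D.r (x.coeff g) :=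
  coeff_mapRingHom _ _ _

theorem red_single (g : G) (a : O) : red D (single g a) = single g (D.r a) := map_single _ _ _

theorem red_cj (t : G) (x : MonoidAlgebra O G) : red D (cj t x) = cj t (red D x) := by
  simp [cj, red_single]

theorem red_smul (a : O) (x : MonoidAlgebra O G) : red D (a • x) = D.r a • red D x := by
  refine ext_coeff fun g => ?_
  simp [coeff_red, smul_eq_mul]

theorem red_algebraMap {a : O} (h : D.r a = 0) :
    red D (algebraMap O (MonoidAlgebra O G) a) = 0 := by
  rw [Algebra.algebraMap_eq_smul_one, red_smul, h, zero_smul]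

open Classical in
/-- A section of the residue map that respects zero. -/
noncomputable def sec0 (a : k) : O := if a = 0 then 0 else (D.surj a).choose

theorem r_sec0 (a : k) : D.r (sec0 D a) = a := by
  unfold sec0
  split_ifs with h
  · rw [h, map_zero]
  · exact (D.surj a).choose_spec

theorem sec0_zero : sec0 D 0 = 0 := if_pos rfl

/-- Coefficientwise lift. -/
noncomputable def lift0 (y : MonoidAlgebra k G) : MonoidAlgebra O G :=
  ofFn fun g => sec0 D (y.coeff g)

theorem red_lift0 (y : MonoidAlgebra k G) : red D (lift0 D y) = y :=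
  ext_coeff fun g => by rw [coeff_red, lift0, coeff_ofFn, r_sec0]

theorem cj_lift0 (t : G) (y : MonoidAlgebra k G) : cj t (lift0 D y) = lift0 D (cj t y) :=
  ext_coeff fun g => by rw [coeff_cj, lift0, lift0, coeff_ofFn, coeff_ofFn, coeff_cj]

theorem red_fix {S : Set G} {x : MonoidAlgebra O G} (h : x ∈ fixA O S) : red D x ∈ fixA k S :=
  mem_fixA.2 fun s hs => by rw [← red_cj, mem_fixA.1 h s hs]

theorem lift0_fix {S : Set G} {y : MonoidAlgebra k G} (h : y ∈ fixA k S) :
    lift0 D y ∈ fixA O S :=
  mem_fixA.2 fun s hs => by rw [cj_lift0, mem_fixA.1 h s hs]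

/-- `y = c y` with `c` of residue zero forces `y = 0`. -/
theorem eq_zero_of_mul_self {c y : MonoidAlgebra O G} (hc : red D c = 0) (h : c * y = y) :
    y = 0 := by
  classical
  set E : Matrix G G O := Matrix.of fun a b => c.coeff (a * b⁻¹) with hE
  have hEy : E.mulVec (fun g => y.coeff g) = fun g => y.coeff g := by
    funext a
    conv_rhs => rw [← h, coeff_mul_sum]
    simp only [Matrix.mulVec, dotProduct, hE, Matrix.of_apply]
    refine Fintype.sum_equiv ((Equiv.inv G).trans (Equiv.mulLeft a)) _ _ fun b => ?_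
    simp [mul_assoc]
  have h0 : E.map D.r = 0 := by
    ext a b
    have := congrArg (fun z => z.coeff (a * b⁻¹)) hc
    simpa [hE, coeff_red] using this
  have hdet : (1 - E).det ≠ 0 := by
    intro hd
    have := congrArg D.r hd
    rw [RingHom.map_det, map_zero, map_sub, map_one, RingHom.mapMatrix_apply, h0, sub_zero,
      Matrix.det_one] at this
    exact one_ne_zero this
  have h1 : (1 - E).mulVec (fun g => y.coeff g) = 0 := by
    rw [Matrix.sub_mulVec, Matrix.one_mulVec, hEy, sub_self]
  have := Matrix.eq_zero_of_mulVec_eq_zero hdet h1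
  exact ext_coeff fun g => congrFun this g

theorem idem_eq_zero {e : MonoidAlgebra O G} (he : e * e = e) (h : red D e = 0) : e = 0 :=
  eq_zero_of_mul_self D h he

theorem isIntegral_fix {S : Set G} (x : fixA O S) : IsIntegral O x :=
  (isIntegral_algHom_iff (fixA O S).val Subtype.val_injective).1 (IsIntegral.of_finite O _)

variable {p : ℕ} [Fact p.Prime] [CharP k p]

theorem sum_fixedPts {P : Type*} [Group P] (hP : IsPGroup p P) {ι : Type*} [Fintype ι]
    [MulAction P ι] [DecidablePred (· ∈ MulAction.fixedPoints P ι)]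
    (f : ι → k) (hf : ∀ (g : P) i, f (g • i) = f i) :
    ∑ i, f i = ∑ i ∈ Finset.univ.filter (· ∈ MulAction.fixedPoints P ι), f i := by
  classical
  rw [← Finset.sum_fiberwise_of_maps_to (s := Finset.univ) (t := Finset.univ.image f)
      (g := f) (fun i hi => Finset.mem_image_of_mem f hi) f,
    ← Finset.sum_fiberwise_of_maps_to (s := Finset.univ.filter (· ∈ MulAction.fixedPoints P ι))
      (t := Finset.univ.image f) (g := f)
      (fun i hi => Finset.mem_image_of_mem f (Finset.mem_univ i)) f]
  refine Finset.sum_congr rfl fun a _ => ?_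
  let Q : SubMulAction P ι :=
    { carrier := {i | f i = a}, smul_mem' := fun g i hi => by simpa [hf] using hi }
  rw [Finset.sum_congr rfl fun i hi => (Finset.mem_filter.1 hi).2,
    Finset.sum_congr rfl fun i hi => (Finset.mem_filter.1 hi).2,
    Finset.sum_const, Finset.sum_const, nsmul_eq_mul, nsmul_eq_mul]
  congr 1
  rw [CharP.natCast_eq_natCast k p]
  have h := hP.card_modEq_card_fixedPoints Q
  have e1 : Nat.card Q = (Finset.univ.filter fun i => f i = a).card := by
    rw [show Nat.card Q = Nat.card {i // f i = a} from rfl, Nat.card_eq_fintype_card,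
      Fintype.card_subtype]
  have e2 : Nat.card (MulAction.fixedPoints P Q) =
      ((Finset.univ.filter (· ∈ MulAction.fixedPoints P ι)).filter fun i => f i = a).card := by
    rw [Finset.filter_filter, ← Fintype.card_subtype, ← Nat.card_eq_fintype_card]
    exact Nat.card_congr
      { toFun := fun x => ⟨x.1.1, fun g => congrArg Subtype.val (x.2 g), x.1.2⟩
        invFun := fun x => ⟨⟨x.1, x.2.2⟩, fun g => Subtype.ext (x.2.1 g)⟩
        left_inv := fun x => rfl
        right_inv := fun x => rfl }
  rw [e1, e2] at h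
  exact h

/-- The Brauer map is multiplicative on `Q`-fixed elements. -/
theorem br_mul {Q : Subgroup G} (hQ : IsPGroup p Q) {x y : MonoidAlgebra k G}
    (hx : x ∈ fixA k (Q : Set G)) (hy : y ∈ fixA k (Q : Set G)) :
    br Q (x * y) = br Q x * br Q y := by
  classical
  refine ext_coeff fun g => ?_
  by_cases hg : g ∈ Subgroup.centralizer (Q : Set G)
  · rw [coeff_br_mem Q _ hg, coeff_mul_sum, coeff_mul_sum]
    letI : MulAction Q G := MulAction.compHom G ((MulAut.conj : G →* MulAut G).comp Q.subtype)
    have hsm : ∀ (r : Q) (h : G), r • h = (r : G) * h * (r : G)⁻¹ := fun r h => rfl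
    have hfix : ∀ h : G, h ∈ MulAction.fixedPoints Q G ↔
        h ∈ Subgroup.centralizer (Q : Set G) := by
      intro h
      rw [MulAction.mem_fixedPoints]
      exact ⟨fun hh r hr => mul_inv_eq_iff_eq_mul.1 ((hsm ⟨r, hr⟩ h).symm.trans (hh ⟨r, hr⟩)),
        fun hh r => by rw [hsm, hh r r.2, mul_inv_cancel_right]⟩
    rw [sum_fixedPts hQ, Finset.sum_filter]
    · refine Finset.sum_congr rfl fun h _ => ?_
      by_cases hh : h ∈ Subgroup.centralizer (Q : Set G)
      · rw [if_pos ((hfix h).2 hh), coeff_br_mem Q _ hh, coeff_br_mem Q _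
          ((Subgroup.centralizer _).mul_mem ((Subgroup.centralizer _).inv_mem hh) hg)]
      · rw [if_neg (mt (hfix h).1 hh), coeff_br_notMem Q _ hh, zero_mul]
    · intro r h
      rw [hsm]
      have ex : ∀ z, x.coeff ((r : G) * z * (r : G)⁻¹) = x.coeff z := fun z => by
        conv_lhs => rw [← mem_fixA.1 hx r r.2, coeff_cj]
        group
      have ey : ∀ z, y.coeff ((r : G) * z * (r : G)⁻¹) = y.coeff z := fun z => by
        conv_lhs => rw [← mem_fixA.1 hy r r.2, coeff_cj]
        group
      rw [ex, ← ey (h⁻¹ * g)]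
      congr 2
      have hc : (r : G) * g = g * (r : G) := hg r r.2
      calc ((r : G) * h * (r : G)⁻¹)⁻¹ * g = (r : G) * h⁻¹ * ((r : G)⁻¹ * g) := by group
        _ = (r : G) * h⁻¹ * (g * (r : G)⁻¹) := by
            rw [(show Commute (r : G) g from hc).inv_left.eq]
        _ = (r : G) * (h⁻¹ * g) * (r : G)⁻¹ := by group
  · rw [coeff_br_notMem Q _ hg, coeff_mul_sum]
    refine (Finset.sum_eq_zero fun h _ => ?_).symm
    by_cases hh : h ∈ Subgroup.centralizer (Q : Set G)
    · rw [coeff_br_notMem Q y (fun h' => hg (by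
        have hm := (Subgroup.centralizer (Q : Set G)).mul_mem hh h'
        rwa [mul_inv_cancel_left] at hm)), mul_zero]
    · rw [coeff_br_notMem Q _ hh, zero_mul]

/-- The Brauer map on a fixed subalgebra, after reduction. -/
noncomputable def brHom {Q : Subgroup G} (hQ : IsPGroup p Q) {S : Set G} (hS : (Q : Set G) ⊆ S) :
    fixA O S →+* MonoidAlgebra k G where
  toFun x := br Q (red D (x : MonoidAlgebra O G))
  map_one' := by rw [OneMemClass.coe_one, map_one, br_one]
  map_zero' := by rw [ZeroMemClass.coe_zero, map_zero, br_zero]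
  map_add' x y := by rw [Subalgebra.coe_add, map_add, br_add]
  map_mul' x y := by
    rw [Subalgebra.coe_mul, map_mul,
      br_mul hQ (fixA_mono hS (red_fix D x.2)) (fixA_mono hS (red_fix D y.2))]

theorem brHom_apply {Q : Subgroup G} (hQ : IsPGroup p Q) {S : Set G} (hS : (Q : Set G) ⊆ S)
    (x : fixA O S) : brHom D hQ hS x = br Q (red D (x : MonoidAlgebra O G)) := rfl

theorem brHom_algebraMap {Q : Subgroup G} (hQ : IsPGroup p Q) {S : Set G}
    (hS : (Q : Set G) ⊆ S) {a : O} (ha : D.r a = 0) :
    brHom D hQ hS (algebraMap O (fixA O S) a) = 0 := by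
  rw [brHom_apply, Subalgebra.coe_algebraMap, red_algebraMap D ha, br_zero]

/-- Reduction restricted to a fixed subalgebra. -/
noncomputable def redFix (S : Set G) : fixA O S →+* fixA k S where
  toFun x := ⟨red D x, red_fix D x.2⟩
  map_one' := Subtype.ext (map_one _)
  map_zero' := Subtype.ext (map_zero _)
  map_add' x y := Subtype.ext (map_add _ _ _)
  map_mul' x y := Subtype.ext (map_mul _ _ _)

theorem redFix_surjective (S : Set G) :
    Function.Surjective (redFix D (G := G) S : fixA O S → fixA k S) := by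
  intro y
  refine ⟨⟨lift0 D (y : MonoidAlgebra k G), lift0_fix D y.2⟩, ?_⟩
  apply Subtype.ext
  exact red_lift0 D (y : MonoidAlgebra k G)

end Residue

section Twisted

variable {R : Type*} [CommRing R] {A : Type*} [Ring A] [Algebra R A]

theorem prod_expand {ι : Type*} [Fintype ι] (a : ι → A) (N : ℕ) :
    (∑ t, a t) ^ N = ∑ f : Fin N → ι, (List.ofFn fun j => a (f j)).prod := by
  induction N with
  | zero => simp
  | succ N ih =>
    rw [pow_succ', Finset.sum_mul,
      ← (Fin.consEquiv fun _ : Fin (N + 1) => ι).sum_comp, Fintype.sum_prod_type]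
    refine Finset.sum_congr rfl fun t _ => ?_
    rw [ih, Finset.mul_sum]
    refine Finset.sum_congr rfl fun f _ => ?_
    simp [List.ofFn_succ, Fin.consEquiv]

/-- A twisted trace of an idempotent that is a relative trace from an index `p` subgroup. -/
theorem twisted_zero {p : ℕ} [Fact p.Prime] (hsep : ∀ z : R, (∀ n : ℕ, (p : R) ^ n ∣ z) → z = 0)
    (τ : A →ₗ[R] R) (hτ : ∀ a b, τ (a * b) = τ (b * a)) (S : Aˣ) (Y i : A) (hi : i * i = i)
    (hY : (S : A) ^ p * Y = Y * (S : A) ^ p)
    (hsum : i = ∑ t ∈ Finset.range p, (S : A) ^ t * Y * ((S⁻¹ : Aˣ) : A) ^ t) :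
    τ ((S : A) * i) = 0 := by
  classical
  haveI : NeZero p := ⟨(Fact.out : p.Prime).ne_zero⟩
  set an : ℕ → A := fun t => (S : A) ^ t * Y * ((S⁻¹ : Aˣ) : A) ^ t with han
  have hper : Function.Periodic an p := fun t => by
    have hpp : (S : A) ^ p * ((S⁻¹ : Aˣ) : A) ^ p = 1 := by
      rw [← Units.val_pow_eq_pow_val S p, ← Units.val_pow_eq_pow_val S⁻¹ p, inv_pow, Units.mul_inv]
    simp only [han]
    calc (S : A) ^ (t + p) * Y * ((S⁻¹ : Aˣ) : A) ^ (t + p)
        = (S : A) ^ t * ((S : A) ^ p * Y) * (((S⁻¹ : Aˣ) : A) ^ p * ((S⁻¹ : Aˣ) : A) ^ t) := by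
          rw [pow_add, ← pow_add ((S⁻¹ : Aˣ) : A) p t, add_comm p t, mul_assoc ((S : A) ^ t)]
      _ = (S : A) ^ t * Y * ((S : A) ^ p * ((S⁻¹ : Aˣ) : A) ^ p) * ((S⁻¹ : Aˣ) : A) ^ t := by
          rw [hY]; simp only [mul_assoc]
      _ = _ := by rw [hpp, mul_one]
  set a : ZMod p → A := fun t => an t.val with ha
  have hsucc : ∀ t : ZMod p, a (t + 1) = (S : A) * a t * ((S⁻¹ : Aˣ) : A) := by
    intro t
    simp only [ha]
    rw [ZMod.val_add, ← hper.map_mod_nat, Nat.mod_mod, hper.map_mod_nat, ZMod.val_one]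
    simp only [han]
    rw [pow_succ' (S : A), pow_succ ((S⁻¹ : Aˣ) : A)]
    simp only [mul_assoc]
  have hsum' : i = ∑ t : ZMod p, a t := by
    rw [hsum, Finset.sum_range]
    refine Fintype.sum_equiv (show Fin p ≃ ZMod p from ⟨fun j => ((j : ℕ) : ZMod p),
      fun t => ⟨t.val, t.val_lt⟩, fun j => Fin.ext (ZMod.val_natCast_of_lt j.2),
      fun t => ZMod.natCast_zmod_val t⟩) _ _ fun j => ?_
    show an (j : ℕ) = a ((j : ℕ) : ZMod p)
    simp only [ha, ZMod.val_natCast_of_lt j.2]
  refine hsep _ fun n => ?_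
  refine dvd_trans (pow_dvd_pow _ (Nat.le_succ n)) ?_
  obtain ⟨m, hm⟩ : ∃ m, p ^ n = m + 1 :=
    ⟨p ^ n - 1, by have := Nat.one_le_pow n p (Fact.out : p.Prime).pos; omega⟩
  have hid : i ^ (m + 1) = i := by
    clear hm
    induction m with
    | zero => rw [pow_one]
    | succ m ih => rw [pow_succ, ih, hi]
  set F : (Fin (m + 1) → ZMod p) → R := fun f =>
    τ ((S : A) * (List.ofFn fun j => a (f j)).prod) with hF
  have hexp : τ ((S : A) * i) = ∑ f, F f := by
    rw [← hid, hsum', prod_expand, Finset.mul_sum, map_sum]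
  let σ : Equiv.Perm (Fin (m + 1) → ZMod p) :=
    { toFun := fun f => Fin.snoc (Fin.tail f) (f 0 + 1)
      invFun := fun f => Fin.cons (f (Fin.last m) - 1) (Fin.init f)
      left_inv := fun f => by simp [Fin.init_snoc, Fin.cons_self_tail]
      right_inv := fun f => by simp [Fin.snoc_init_self] }
  have hσapp : ∀ f, σ f = Fin.snoc (Fin.tail f) (f 0 + 1) := fun f => rfl
  have hFσ : ∀ f, F (σ f) = F f := by
    intro f
    simp only [hF]
    rw [List.ofFn_succ', List.concat_eq_append, List.prod_append, List.prod_singleton]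
    simp only [hσapp, Fin.snoc_castSucc, Fin.snoc_last, hsucc]
    rw [List.ofFn_succ (n := m) (f := fun j => a (f j)), List.prod_cons]
    set Q := (List.ofFn fun j : Fin m => a (Fin.tail f j)).prod with hQ
    have key : ∀ c : A, τ ((S : A) * (Q * ((S : A) * c * ((S⁻¹ : Aˣ) : A)))) =
        τ ((S : A) * (c * Q)) := fun c => by
      rw [show (S : A) * (Q * ((S : A) * c * ((S⁻¹ : Aˣ) : A))) =
          (S : A) * (Q * ((S : A) * c)) * ((S⁻¹ : Aˣ) : A) by simp only [mul_assoc], hτ,
        ← mul_assoc, Units.inv_mul, one_mul, hτ, mul_assoc]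
    exact key _
  -- the orbits have full length
  let T : (Fin (m + 1) → ZMod p) → ℕ → ZMod p := fun f j =>
    f (Fin.ofNat (m + 1) j) + ((j / (m + 1) : ℕ) : ZMod p)
  have hT : ∀ f j, T (σ f) j = T f (j + 1) := by
    intro f j
    simp only [T, hσapp]
    rcases Nat.lt_or_ge (j % (m + 1)) m with h | h
    · have e1 : Fin.ofNat (m + 1) j = Fin.castSucc ⟨j % (m + 1), h⟩ := Fin.ext (by simp)
      have e2 : (j + 1) % (m + 1) = j % (m + 1) + 1 := by
        conv_lhs => rw [← Nat.div_add_mod j (m + 1), add_assoc, Nat.mul_add_mod,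
          Nat.mod_eq_of_lt (show j % (m + 1) + 1 < m + 1 by omega)]
      have e3 : (j + 1) / (m + 1) = j / (m + 1) := by
        have h1 := Nat.div_add_mod j (m + 1)
        have h2 := Nat.div_add_mod (j + 1) (m + 1)
        rw [e2] at h2
        have : (m + 1) * ((j + 1) / (m + 1)) = (m + 1) * (j / (m + 1)) := by omega
        exact Nat.eq_of_mul_eq_mul_left (Nat.succ_pos m) this
      rw [e1, Fin.snoc_castSucc, e3]
      congr 1
      exact congrArg f (Fin.ext (by simp [e2]))
    · have hlt := Nat.mod_lt j (Nat.succ_pos m)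
      have hm' : j % (m + 1) = m := Nat.le_antisymm (Nat.lt_succ_iff.1 hlt) h
      have e1 : Fin.ofNat (m + 1) j = Fin.last m := Fin.ext (by simp [hm'])
      have h1 := Nat.div_add_mod j (m + 1)
      have e4 : j + 1 = (m + 1) * (j / (m + 1) + 1) := by rw [mul_add, mul_one]; omega
      have e2 : Fin.ofNat (m + 1) (j + 1) = 0 := Fin.ext (by simp [e4])
      have e3 : (j + 1) / (m + 1) = j / (m + 1) + 1 := by
        rw [e4, Nat.mul_div_cancel_left _ (Nat.succ_pos m)]
      rw [e1, Fin.snoc_last, e2, e3]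
      push_cast; ring
  have hTk : ∀ (l : ℕ) f j, T ((σ ^ l) f) j = T f (j + l) := by
    intro l
    induction l with
    | zero => intro f j; rfl
    | succ l ih => intro f j; rw [pow_succ, Equiv.Perm.mul_apply, ih, hT, add_assoc]
  have hpow : ∀ (c : ℕ) f, (σ ^ ((m + 1) * c)) f = fun i => f i + (c : ZMod p) := by
    intro c f
    funext i
    have h := hTk ((m + 1) * c) f (i : ℕ)
    simp only [T] at h
    have e1 : Fin.ofNat (m + 1) (i : ℕ) = i := Fin.ext (by simp [Nat.mod_eq_of_lt i.2])
    have e2 : Fin.ofNat (m + 1) ((i : ℕ) + (m + 1) * c) = i :=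
      Fin.ext (by simp [Nat.mod_eq_of_lt i.2])
    rw [e1, e2, Nat.div_eq_of_lt i.2, Nat.cast_zero, add_zero,
      Nat.add_mul_div_left _ _ (Nat.succ_pos m), Nat.div_eq_of_lt i.2, zero_add] at h
    exact h
  have hσN : σ ^ p ^ (n + 1) = 1 := Equiv.ext fun f => by
    rw [pow_succ, hm, hpow]
    simp
  have hper' : ∀ f, per σ f = p ^ (n + 1) := fun f => by
    refine Nat.eq_prime_pow_of_dvd_least_prime_pow (Fact.out : p.Prime) ?_ (per_dvd σ hσN f)
    intro hd
    have h := Function.isPeriodicPt_iff_minimalPeriod_dvd.2 hd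
    rw [Function.IsPeriodicPt, Function.IsFixedPt, ← Equiv.Perm.coe_pow] at h
    have h' := hpow 1 f
    rw [hm] at h
    rw [mul_one, h] at h'
    have := congrFun h' 0
    simp at this
  rw [hexp, sum_orbits σ F]
  refine Finset.dvd_sum fun o _ => ?_
  have hit : ∀ l, F ((⇑σ)^[l] o) = F o := fun l => by
    induction l with
    | zero => rfl
    | succ l ih => rw [Function.iterate_succ_apply', hFσ, ih]
  rw [Finset.sum_congr rfl fun l _ => hit l, Finset.sum_const, Finset.card_range, hper',
    nsmul_eq_mul, Nat.cast_pow]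
  exact dvd_mul_right _ _

end Twisted

end CfsgLib.Blocks.Star
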