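import Cfsg.Agent.Lib.Blocks.Star.Stable
import Cfsg.Agent.Lib.Blocks.PairDefect
import Cfsg.Agent.Lib.Blocks.AbelianDefectIndex
import Cfsg.Agent.Lib.Blocks.BlockFusion
import Mathlib.GroupTheory.GroupAction.Quotient

/-!
# The action of the linear characters over the focal subgroup on the characters of a block
-/

namespace CfsgLib.Blocks

open Cfsg CfsgLib.CharTheory
open scoped ComplexConjugate

set_option linter.unusedVariables false
set_option linter.unusedSimpArgs false
set_option linter.style.haveILetI false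
set_option linter.unusedSectionVars false
set_option maxHeartbeats 400000

universe u

/-- If every stabilizer lies in `K` then the index of `K` divides the number of points. -/
theorem index_dvd_card_of_stabilizer_le {Γ X : Type*} [Group Γ] [MulAction Γ X] [Finite X]
    (K : Subgroup Γ) (h : ∀ x : X, MulAction.stabilizer Γ x ≤ K) : K.index ∣ Nat.card X := by
  classical
  haveI : Fintype (MulAction.orbitRel.Quotient Γ X) := Fintype.ofFinite _
  rw [Nat.card_congr (MulAction.selfEquivSigmaOrbits Γ X), Nat.card_sigma]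
  refine Finset.dvd_sum fun ω _ => ?_
  rw [Nat.card_coe_set_eq, ← MulAction.index_stabilizer]
  exact Subgroup.index_dvd_of_le (h _)

/-- The linear characters trivial on `N`. -/
def linKer {Q : Type*} [Group Q] (N : Subgroup Q) : Subgroup (Q →* ℂˣ) where
  carrier := {l | ∀ n ∈ N, l n = 1}
  one_mem' := fun _ _ => rfl
  mul_mem' := fun {a b} ha hb n hn => by rw [MonoidHom.mul_apply, ha n hn, hb n hn, one_mul]
  inv_mem' := fun {a} ha n hn => by rw [MonoidHom.inv_apply, ha n hn, inv_one]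

theorem mem_linKer {Q : Type*} [Group Q] {N : Subgroup Q} {l : Q →* ℂˣ} :
    l ∈ linKer N ↔ ∀ n ∈ N, l n = 1 := Iff.rfl

theorem linKer_sup {Q : Type*} [Group Q] (N Z : Subgroup Q) :
    linKer (N ⊔ Z) = linKer N ⊓ linKer Z := by
  ext l
  refine ⟨fun h => ⟨fun n hn => h n (Subgroup.mem_sup_left hn),
    fun n hn => h n (Subgroup.mem_sup_right hn)⟩, fun h n hn => ?_⟩
  exact (sup_le (fun m hm => h.1 m hm) (fun m hm => h.2 m hm) : N ⊔ Z ≤ l.ker) hn

theorem normal_of_commutators {Q : Type*} [Group Q] {N : Subgroup Q}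
    (hab : ∀ x y : Q, x * y * x⁻¹ * y⁻¹ ∈ N) : N.Normal :=
  ⟨fun n hn x => by
    have := N.mul_mem (hab x n) hn
    rwa [inv_mul_cancel_right] at this⟩

theorem card_linKer {Q : Type u} [Group Q] [Fintype Q] {N : Subgroup Q}
    (hab : ∀ x y : Q, x * y * x⁻¹ * y⁻¹ ∈ N) : Nat.card (linKer N) = N.index := by
  haveI := normal_of_commutators hab
  haveI := Fintype.ofFinite N
  exact card_linear_over hab

/-- The index of the characters trivial on `Z` as well is `|Z : Z ∩ N|`. -/
theorem relIndex_linKer {Q : Type u} [Group Q] [Fintype Q] {N : Subgroup Q} (Z : Subgroup Q)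
    (hab : ∀ x y : Q, x * y * x⁻¹ * y⁻¹ ∈ N) :
    ((linKer Z).subgroupOf (linKer N)).index = N.relIndex Z := by
  haveI := normal_of_commutators hab
  have h1 := card_linKer hab
  have h2 := card_linKer (N := N ⊔ Z) fun x y => Subgroup.mem_sup_left (hab x y)
  have h3 : Nat.card ((linKer Z).subgroupOf (linKer N)) = Nat.card (linKer (N ⊔ Z)) := by
    rw [linKer_sup]
    exact Nat.card_congr
      { toFun := fun l => ⟨l.1.1, l.1.2, l.2⟩
        invFun := fun l => ⟨⟨l.1, l.2.1⟩, l.2.2⟩
        left_inv := fun l => rfl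
        right_inv := fun l => rfl }
  have h4 := Subgroup.card_mul_index ((linKer Z).subgroupOf (linKer N))
  rw [h3, h2, h1, ← Subgroup.relIndex_mul_index (le_sup_left : N ≤ N ⊔ Z), sup_comm N Z,
    Subgroup.relIndex_sup_right, mul_comm] at h4
  exact mul_right_cancel₀ Subgroup.index_ne_zero_of_finite h4

variable {p : ℕ} {M : Ideal AlgInt} {G : Type u} [Group G] [Fintype G]
  {B : Set (IrrCharacter G)} {P : Subgroup G}
  {e : Set (IrrCharacter (Subgroup.centralizer (P : Set G)))}

/-- The pair below `(P, e)` at the cyclic group of an element. -/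
noncomputable def bEl (p : ℕ) (M : Ideal AlgInt) (P : Subgroup G)
    (e : Set (IrrCharacter (Subgroup.centralizer (P : Set G)))) (u : G) : BrauerPairIdx G :=
  subIdx p M ⟨P, e⟩ (Subgroup.zpowers u)

theorem bEl_spec (hM : IsPModular p M) (hmax : IsMaximalBrauerPair p M B P e) {u : G}
    (hu : u ∈ P) :
    bEl p M P e u ∈ pairsAt M (Subgroup.zpowers u) ∧ Carries p M P e 1 (bEl p M P e u) ∧
      IsBrauerPairOf p M B (bEl p M P e u).1 (bEl p M P e u).2 := by
  obtain ⟨h1, h2⟩ := subIdx_spec hM (a := (⟨P, e⟩ : BrauerPairIdx G)) hmax.1.1.1 hmax.1.1.2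
    (Q := Subgroup.zpowers u) (Subgroup.zpowers_le.2 hu)
  have h3 : Carries p M P e 1 (bEl p M P e u) := by
    unfold Carries
    rw [conjIdx_one]; exact h2
  exact ⟨mem_pairsAt.2 ⟨rfl, h1⟩, h3, (carries_iff_pairOf hM hmax).1 ⟨1, h3⟩⟩

theorem pairW_bEl (hM : IsPModular p M) (hmax : IsMaximalBrauerPair p M B P e) {η : G → ℂ}
    (hη : IsStableFun p M P e η) {u : G} (hu : u ∈ P) :
    pairW p M P e η (bEl p M P e u) u = η u := by
  rw [pairW_eq hη rfl (bEl_spec hM hmax hu).2.1, one_mul, inv_one, mul_one]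

/-- The contribution of the pair at `u` as a pairing. -/
theorem pairT_ne_of_secPair (hM : IsPModular p M) (hmax : IsMaximalBrauerPair p M B P e) {u : G}
    (hu : u ∈ P) {χ θ : IrrCharacter G} (hχ : χ ∈ B) (hθ : θ ∈ B)
    (h0 : dv p (χ : G → ℂ) = minDv p B)
    (h : dv p (θ : G → ℂ) = minDv p B ∨
      blockDefect p (bEl p M P e u).2 = blockDefect p B) :
    pairT p (bEl p M P e u) u (χ : G → ℂ) (θ : G → ℂ) ≠ 0 := by
  classical
  haveI : Fact p.Prime := ⟨hM.1⟩
  haveI := Fintype.ofFinite (Subgroup.centralizer ((Subgroup.zpowers u : Subgroup G) : Set G))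
  obtain ⟨hm, -, hpair⟩ := bEl_spec hM hmax hu
  have hC := isCentr_zpowers u
  have hu' : ∃ k : ℕ, orderOf u = p ^ k := by
    obtain ⟨k, hk⟩ := IsPGroup.iff_orderOf.1 hmax.1.1.1 ⟨u, hu⟩
    exact ⟨k, by rw [← hk, Subgroup.orderOf_mk]⟩
  generalize bEl p M P e u = a at hm hpair h ⊢
  obtain ⟨R, f⟩ := a
  obtain rfl : R = Subgroup.zpowers u := (mem_pairsAt.1 hm).1
  have hind := (induced_centralizer_iff hM (isPGroup_zpowers hM.1 hu')).2 hpair
  have hne : secPair p u f (χ : G → ℂ) (θ : G → ℂ) ≠ 0 := by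
    rcases h with h | h
    · intro hz
      have h1 := (secPair_res_ne hM hC hu' hind hχ hθ h0 h).2
      rw [hz, res_zero] at h1
      exact h1 rfl
    · obtain ⟨w, hw, -, hw0⟩ := secPair_div hM hC hu' hind h hχ hθ h0
      rw [hw]
      exact mul_ne_zero (pow_ne_zero _ (Nat.cast_ne_zero.2 hM.1.ne_zero)) hw0
  rw [← pairT_eq hC (irr_isClassFun χ) (irr_isClassFun θ)] at hne
  exact (mul_ne_zero_iff.1 hne).2

/-- A star function equal to the character has trivial weight wherever the pairing is nonzero. -/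
theorem eq_one_of_starFun_eq (hM : IsPModular p M) (hmax : IsMaximalBrauerPair p M B P e)
    {η : G → ℂ} (hη : IsStableFun p M P e η) {u : G} (hu : u ∈ P) {χ θ : IrrCharacter G}
    (hfix : starFun p M (pairW p M P e η) (θ : G → ℂ) = (θ : G → ℂ))
    (hne : pairT p (bEl p M P e u) u (χ : G → ℂ) (θ : G → ℂ) ≠ 0) : η u = 1 := by
  have hu' : ∃ k : ℕ, orderOf u = p ^ k := by
    haveI : Fact p.Prime := ⟨hM.1⟩
    obtain ⟨k, hk⟩ := IsPGroup.iff_orderOf.1 hmax.1.1.1 ⟨u, hu⟩
    exact ⟨k, by rw [← hk, Subgroup.orderOf_mk]⟩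
  have h1 : pairT p (bEl p M P e u) u (χ : G → ℂ) (θ : G → ℂ) =
      conj (η u) * pairT p (bEl p M P e u) u (χ : G → ℂ) (θ : G → ℂ) := by
    unfold pairT
    rw [Finset.mul_sum]
    refine Finset.sum_congr rfl fun c hc => ?_
    conv_lhs => rw [← hfix, pairVal_starFun hM (pairW_conjInv hη) (irr_isClassFun θ) hu'
      (bEl_spec hM hmax hu).1 hc, pairW_bEl hM hmax hη hu, map_mul]
    ring
  have h2 : conj (η u) = 1 := (mul_eq_right₀ hne).1 h1.symm
  simpa using congrArg (starRingEnd ℂ) h2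

theorem blockDefect_bEl_central (hM : IsPModular p M) (hmax : IsMaximalBrauerPair p M B P e)
    {u : G} (hu : u ∈ P) (huc : u ∈ Subgroup.centralizer (P : Set G)) :
    blockDefect p (bEl p M P e u).2 = blockDefect p B := by
  haveI : Fact p.Prime := ⟨hM.1⟩
  have hcard : Nat.card P = p ^ blockDefect p B :=
    card_defectGroup hM hmax.1.2.1 (maximal_isDefectGroup hM hmax)
  obtain ⟨h1, h2⟩ := subIdx_spec hM (a := (⟨P, e⟩ : BrauerPairIdx G)) hmax.1.1.1 hmax.1.1.2
    (Q := Subgroup.zpowers u) (Subgroup.zpowers_le.2 hu)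
  have hle := card_centP_le hM hmax.1.1.1 (Subgroup.zpowers_le.2 hu) h1 hmax.1.1.2 h2
  obtain ⟨x, -, hx⟩ := exists_conj_centP hM hmax h1 h2
  have hPC : P ⊓ Subgroup.centralizer ((Subgroup.zpowers u : Subgroup G) : Set G) = P := by
    refine inf_eq_left.2 fun y hy => ?_
    refine (isCentr_zpowers u y).2 ?_
    exact (huc y hy)
  rw [hPC] at hle
  apply Nat.pow_right_injective hM.1.two_le
  show p ^ blockDefect p (bEl p M P e u).2 = p ^ blockDefect p B
  rw [← hcard]
  refine le_antisymm ?_ hle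
  exact hx.le.trans (Subgroup.card_le_of_le inf_le_left)

variable {F : FusionSystem P}

/-- The focal subgroup contains the commutators of `P`. -/
theorem commutator_mem_focal (x y : P) :
    x * y * x⁻¹ * y⁻¹ ∈ F.focalSubgroup.subgroupOf P := by
  rw [Subgroup.mem_subgroupOf]
  refine Subgroup.subset_closure ⟨P, conjHom P (y : G), x⁻¹, F.conj_mem le_rfl y.2, ?_⟩
  show ((x * y * x⁻¹ * y⁻¹ : P) : G) = ((x⁻¹ : P) : G)⁻¹ * ((y : G) * ((x⁻¹ : P) : G) * (y : G)⁻¹)
  simp only [Subgroup.coe_mul, Subgroup.coe_inv, inv_inv, mul_assoc]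

/-- Linear characters trivial on the focal subgroup are stable. -/
theorem stable_of_linKer (hF : IsBlockFusionSystemOn p M B P e F) {l : P →* ℂˣ}
    (hl : l ∈ linKer (F.focalSubgroup.subgroupOf P)) :
    IsStableFun p M P e (sext P fun u => (l u : ℂ)) := by
  intro g x a h1 ha hg
  obtain ⟨Q, f⟩ := a
  change Q = Subgroup.zpowers x at h1
  subst h1
  have hx : x ∈ P := by
    have := carries_mem rfl ha
    rwa [one_mul, inv_one, mul_one] at this
  have hgx : g * x * g⁻¹ ∈ P := carries_mem rfl hg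
  unfold Carries at ha
  rw [conjIdx_one] at ha
  have hφ : conjHom (Subgroup.zpowers x) g ∈ F.Hom (Subgroup.zpowers x) :=
    (hF.2 _ _).2 ⟨Subgroup.zpowers_le.2 hx, g, fun _ => rfl, subpairLE_le hg, f, ha, hg⟩
  have hfoc : (⟨x, hx⟩ : P)⁻¹ * ⟨g * x * g⁻¹, hgx⟩ ∈ F.focalSubgroup.subgroupOf P :=
    Subgroup.mem_subgroupOf.2 (Subgroup.subset_closure
      ⟨_, _, ⟨x, Subgroup.mem_zpowers x⟩, hφ, rfl⟩)
  have h2 := hl _ hfoc
  rw [map_mul, map_inv, inv_mul_eq_one] at h2
  exact (sext_coe P (fun u => (l u : ℂ)) ⟨g * x * g⁻¹, hgx⟩).trans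
    ((congrArg Units.val h2.symm).trans (sext_coe P (fun u => (l u : ℂ)) ⟨x, hx⟩).symm)

/-- The character moved by a linear character trivial on the focal subgroup. -/
noncomputable def focalMove (hM : IsPModular p M) (hF : IsBlockFusionSystemOn p M B P e F) (h : ℕ)
    (l : linKer (F.focalSubgroup.subgroupOf P))
    (χ : {χ : IrrCharacter G // χ ∈ B ∧ blockHeight p B (χ : G → ℂ) = h}) :
    {χ : IrrCharacter G // χ ∈ B ∧ blockHeight p B (χ : G → ℂ) = h} :=
  ⟨(exists_starLin hM hF.1 l.1 (stable_of_linKer hF l.2) χ.2.1).choose, by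
    obtain ⟨-, h1, h2⟩ :=
      (exists_starLin hM hF.1 l.1 (stable_of_linKer hF l.2) χ.2.1).choose_spec
    refine ⟨h1, ?_⟩
    rw [blockHeight_eq, dv, h2]
    exact χ.2.2⟩

theorem focalMove_val (hM : IsPModular p M) (hF : IsBlockFusionSystemOn p M B P e F) (h : ℕ)
    (l : linKer (F.focalSubgroup.subgroupOf P))
    (χ : {χ : IrrCharacter G // χ ∈ B ∧ blockHeight p B (χ : G → ℂ) = h}) :
    ((focalMove hM hF h l χ).1 : G → ℂ) =
      starFun p M (pairW p M P e (sext P fun u => ((l.1 u : ℂˣ) : ℂ))) (χ.1 : G → ℂ) :=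
  (exists_starLin hM hF.1 l.1 (stable_of_linKer hF l.2) χ.2.1).choose_spec.1

/-- The action. -/
noncomputable abbrev focalAction (hM : IsPModular p M) (hF : IsBlockFusionSystemOn p M B P e F)
    (h : ℕ) : MulAction (linKer (F.focalSubgroup.subgroupOf P))
      {χ : IrrCharacter G // χ ∈ B ∧ blockHeight p B (χ : G → ℂ) = h} where
  smul := focalMove hM hF h
  one_smul := fun χ => Subtype.ext (Subtype.ext (by
    show ((focalMove hM hF h 1 χ).1 : G → ℂ) = _
    rw [focalMove_val]
    refine starFun_one hM hF.1.1.2.1 χ.2.1 fun x a ha _ hp => ?_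
    refine pairW_eq_of_eqOn hM hF.1 (fun y hy => ?_) (mem_pairsAt.1 ha).1 hp
    rw [show y = ((⟨y, hy⟩ : P) : G) from rfl, sext_coe]
    simp))
  mul_smul := fun l m χ => Subtype.ext (Subtype.ext (by
    show ((focalMove hM hF h (l * m) χ).1 : G → ℂ) =
      ((focalMove hM hF h l (focalMove hM hF h m χ)).1 : G → ℂ)
    rw [focalMove_val, focalMove_val, focalMove_val, starFun_starFun hM
      (pairW_conjInv (stable_of_linKer hF m.2)) (irr_isClassFun χ.1)]
    congr 1
    funext a x
    rw [pairW_mul]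
    refine pairW_congr (fun y hy => ?_) a x
    rw [Pi.mul_apply, show y = ((⟨y, hy⟩ : P) : G) from rfl, sext_coe, sext_coe, sext_coe]
    simp))

/-- Weights of a fixed character are trivial. -/
theorem fixed_weight (hM : IsPModular p M) (hF : IsBlockFusionSystemOn p M B P e F) {h : ℕ}
    {l : linKer (F.focalSubgroup.subgroupOf P)}
    {θ : {χ : IrrCharacter G // χ ∈ B ∧ blockHeight p B (χ : G → ℂ) = h}}
    (hfix : focalMove hM hF h l θ = θ) {u : P}
    (hu : h = 0 ∨ (u : G) ∈ Subgroup.centralizer (P : Set G)) : l.1 u = 1 := by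
  obtain ⟨χ, hχ, h0⟩ := exists_height_zero hM hF.1.1.2.1
  have hne := pairT_ne_of_secPair hM hF.1 u.2 hχ θ.2.1 h0 (by
    rcases hu with hu | hu
    · subst hu
      exact Or.inl ((height_zero_iff θ.2.1).1 θ.2.2)
    · exact Or.inr (blockDefect_bEl_central hM hF.1 u.2 hu))
  have h1 := eq_one_of_starFun_eq hM hF.1 (stable_of_linKer hF l.2) u.2
    ((focalMove_val hM hF h l θ).symm.trans (by rw [hfix])) hne
  rw [sext_coe] at h1
  exact Units.ext h1

theorem focal_dvd_heightZero (hM : IsPModular p M) (hF : IsBlockFusionSystemOn p M B P e F) :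
    (F.focalSubgroup.subgroupOf P).index ∣
      Nat.card {χ : IrrCharacter G // χ ∈ B ∧ blockHeight p B (χ : G → ℂ) = 0} := by
  haveI := Fintype.ofFinite P
  letI := focalAction hM hF 0
  rw [← card_linKer (fun x y => commutator_mem_focal (F := F) x y), ← Subgroup.index_bot]
  refine index_dvd_card_of_stabilizer_le _ fun θ l hl => ?_
  exact Subgroup.mem_bot.2 (Subtype.ext (MonoidHom.ext fun u =>
    fixed_weight hM hF hl (u := u) (Or.inl rfl)))

theorem focal_center_dvd (hM : IsPModular p M) (hF : IsBlockFusionSystemOn p M B P e F) (h : ℕ) :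
    ((P ⊓ Subgroup.centralizer (P : Set G) ⊓ F.focalSubgroup).subgroupOf
        (P ⊓ Subgroup.centralizer (P : Set G))).index ∣
      Nat.card {χ : IrrCharacter G // χ ∈ B ∧ blockHeight p B (χ : G → ℂ) = h} := by
  haveI := Fintype.ofFinite P
  letI := focalAction hM hF h
  set Z := P ⊓ Subgroup.centralizer (P : Set G) with hZ
  have e : ((Z ⊓ F.focalSubgroup).subgroupOf Z).index =
      (F.focalSubgroup.subgroupOf P).relIndex (Z.subgroupOf P) := by
    rw [Subgroup.relIndex_subgroupOf (inf_le_left : Z ≤ P)]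
    exact Subgroup.inf_relIndex_left Z F.focalSubgroup
  rw [e, ← relIndex_linKer (Z.subgroupOf P) (fun x y => commutator_mem_focal (F := F) x y)]
  refine index_dvd_card_of_stabilizer_le _ fun θ l hl => ?_
  rw [Subgroup.mem_subgroupOf]
  exact fun u hu => fixed_weight hM hF hl (Or.inr (Subgroup.mem_subgroupOf.1 hu).2)

end CfsgLib.Blocks
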