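import Cfsg.Agent.Lib.Blocks.Star.Local
import Cfsg.Agent.Lib.Blocks.SmallAlgebra
import Cfsg.Agent.Lib.Blocks.Subpairs
import Cfsg.Agent.Lib.NilpotentCommute
import Cfsg.Agent.Lib.CharTheory.Brauer
import Cfsg.Agent.Lib.CharTheory.Irr
import Cfsg.Agent.Lib.CharTheory.Coherence

/-!
# The local values of idempotents are generalized characters
-/

namespace CfsgLib.Blocks.Star

open MonoidAlgebra Cfsg CfsgLib.CharTheory
open scoped ComplexConjugate

set_option linter.unusedVariables false
set_option linter.unusedSectionVars false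
set_option linter.unusedSimpArgs false
set_option maxHeartbeats 800000

universe u w

variable {O k : Type*} [CommRing O] [IsDomain O] [Field k] {D : LocRed O k}
  {G : Type u} [Group G] [Fintype G] {p : ℕ} [Fact p.Prime] [CharP k p] [IsAlgClosed k]

theorem isGenChar_comp' {H K : Type u} [Group H] [Group K] {θ : H → ℂ}
    (h : IsGeneralizedCharacter H θ) (f : K →* H) :
    IsGeneralizedCharacter K (fun x => θ (f x)) := by
  obtain ⟨a, b, ha, hb, rfl⟩ := h
  exact ⟨_, _, isCharacter_comp ha f, isCharacter_comp hb f, rfl⟩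

theorem mem_normalizer_of_conj {Q : Subgroup G} {t : G} (h : ∀ q ∈ Q, t * q * t⁻¹ ∈ Q) :
    t ∈ Subgroup.normalizer (Q : Set G) := by
  have hle : Q.map (MulAut.conj t).toMonoidHom ≤ Q := by
    rintro _ ⟨q, hq, rfl⟩; exact h q hq
  have heq : Q.map (MulAut.conj t).toMonoidHom = Q := Subgroup.eq_of_le_of_card_ge hle (le_of_eq
    (Subgroup.card_map_of_injective (MulAut.conj t).injective).symm)
  rw [Subgroup.mem_normalizer_iff]
  refine fun q => ⟨h q, fun hq => ?_⟩
  rw [← heq] at hq
  obtain ⟨r, hr, hrq⟩ := hq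
  simp only [MulEquiv.coe_toMonoidHom, MulAut.conj_apply] at hrq
  have : r = q := by simpa using hrq
  exact this ▸ hr

theorem cj_fix_norm {R : Type*} [CommRing R] {B : Set G} {t : G}
    (hB : ∀ g ∈ B, t⁻¹ * g * t ∈ B) {v : MonoidAlgebra R G} (hv : v ∈ fixA R B) :
    cj t v ∈ fixA R B := by
  rw [mem_fixA] at hv ⊢
  intro g hg
  rw [cj_cj, show g * t = t * (t⁻¹ * g * t) by group, ← cj_cj, hv _ (hB g hg)]

theorem card_lt_of_lt' {H K : Subgroup G} (h : H < K) : Nat.card H < Nat.card K :=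
  lt_of_le_of_ne (Subgroup.card_le_of_le h.le) fun he =>
    h.ne (Subgroup.eq_of_le_of_card_ge h.le he.ge)

/-- Commuting `p`- and `p'`-subgroups. -/
structure PC (p : ℕ) (U C : Subgroup G) : Prop where
  hU : IsPGroup p U
  hC : ∀ c ∈ C, ¬ p ∣ orderOf c
  comm : ∀ x ∈ U, ∀ c ∈ C, x * c = c * x

theorem PC.localAt {U C : Subgroup G} (h : PC p U C) {x c : G} (hx : x ∈ U) (hc : c ∈ C) :
    Local p x c := by
  refine ⟨?_, h.hC c hc, h.comm x hx c hc⟩
  obtain ⟨a, ha⟩ := (IsPGroup.iff_orderOf.1 h.hU) ⟨x, hx⟩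
  exact ⟨a, by rw [← Subgroup.orderOf_coe] at ha; exact ha⟩

theorem PC.lset_le {U C : Subgroup G} (h : PC p U C) {x c : G} (hx : x ∈ U) (hc : c ∈ C) :
    lset x c ⊆ (U : Set G) ∪ C :=
  Set.union_subset_union (Subgroup.zpowers_le.2 hx) (Subgroup.zpowers_le.2 hc)

theorem PC.fix {U C : Subgroup G} (h : PC p U C) {x c : G} (hx : x ∈ U) (hc : c ∈ C)
    {R : Type*} [CommRing R] {i : MonoidAlgebra R G} (hi : i ∈ fixA R ((U : Set G) ∪ C)) :
    i ∈ fixA R (lset x c) := fixA_mono (h.lset_le hx hc) hi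

theorem PC.cent {U C : Subgroup G} (h : PC p U C) {Q : Subgroup G} (hQ : Q ≤ U) {c : G}
    (hc : c ∈ C) : c ∈ Subgroup.centralizer (Q : Set G) :=
  fun q hq => h.comm q (hQ hq) c hc

theorem PC.mono {U R C : Subgroup G} (h : PC p U C) (hR : R ≤ U) : PC p R C :=
  ⟨h.hU.to_le hR, h.hC, fun x hx => h.comm x (hR hx)⟩

/-- The multiplication map. -/
def PC.mulHom {U C : Subgroup G} (h : PC p U C) : U × C →* G where
  toFun q := (q.1 : G) * q.2
  map_one' := by simp
  map_mul' a b := by
    simp only [Prod.fst_mul, Prod.snd_mul, Subgroup.coe_mul]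
    rw [mul_assoc (a.1 : G) b.1, ← mul_assoc (b.1 : G) a.2, h.comm b.1 b.1.2 a.2 a.2.2]
    simp only [mul_assoc]

variable {X : Type w} {χ : G → O}

/-- The data of a local construction. -/
structure Setup (D : LocRed O k) (p : ℕ) [Fact p.Prime] [CharP k p] (G : Type u) [Group G]
    [Fintype G] (X : Type w) where
  PD : PairData D p G X
  ι : O →+* ℂ
  χ : G → O
  cls : ∀ g h, χ (h * g * h⁻¹) = χ g
  sep : ∀ z : O, (∀ n : ℕ, (p : O) ^ n ∣ z) → z = 0
  char : IsCharacter G fun g => ι (χ g)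
  W : X → G → ℂ
  wconj : ∀ t x a, a ∈ PD.pr (Subgroup.zpowers x) → W (PD.conj t a) (t * x * t⁻¹) = W a x
  wgen : ∀ U : Subgroup G, IsPGroup p U → ∀ f ∈ PD.pr U,
    IsGeneralizedCharacter U fun x : U => W (PD.below U f (Subgroup.zpowers (x : G))) x

namespace Setup

variable (S : Setup D p G X)

/-- The function attached to an idempotent. -/
noncomputable def T (i : MonoidAlgebra O G) (x c : G) : ℂ := S.PD.TT S.ι S.χ S.W i x c

theorem T_add {x c : G} (hl : Local p x c) {i i' : MonoidAlgebra O G} (hi : i * i = i)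
    (hif : i ∈ fixA O (lset x c)) (hi' : i' * i' = i') (hif' : i' ∈ fixA O (lset x c))
    (h1 : i * i' = 0) (h2 : i' * i = 0) : S.T (i + i') x c = S.T i x c + S.T i' x c := by
  simp only [T, PairData.TT]
  rw [← Finset.sum_add_distrib]
  refine Finset.sum_congr rfl fun a ha => ?_
  rw [S.PD.phi_add S.cls S.sep hl hi hif hi' hif' h1 h2 ha, map_add, mul_add]

theorem T_equiv {x c : G} (hl : Local p x c) {i i' α β : MonoidAlgebra O G} (hi : i * i = i)
    (hif : i ∈ fixA O (lset x c)) (hi' : i' * i' = i') (hif' : i' ∈ fixA O (lset x c))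
    (hα : α ∈ fixA O (lset x c)) (hβ : β ∈ fixA O (lset x c)) (h1 : α * β = i)
    (h2 : β * α = i') : S.T i x c = S.T i' x c :=
  Finset.sum_congr rfl fun a ha => by
    rw [S.PD.phi_equiv S.cls S.sep hl hi hif hi' hif' hα hβ h1 h2 ha]

theorem T_of_br_zero {x c : G} (hl : Local p x c) {i : MonoidAlgebra O G} (hi : i * i = i)
    (hif : i ∈ fixA O (lset x c)) (h : br (Subgroup.zpowers x) (red D i) = 0) : S.T i x c = 0 :=
  Finset.sum_eq_zero fun a ha => by
    rw [S.PD.phi_of_br_zero S.cls S.sep hl hi hif ha (by rw [h, zero_mul]), map_zero, mul_zero]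

theorem T_zero {x c : G} (hl : Local p x c) : S.T 0 x c = 0 :=
  S.T_of_br_zero hl (mul_zero 0) (zero_mem _) (by rw [map_zero, br_zero])

theorem T_one {x c : G} (hl : Local p x c) :
    S.T 1 x c = ∑ a ∈ S.PD.pr (Subgroup.zpowers x), S.W a x * S.ι (val S.χ x c (S.PD.e a)) :=
  Finset.sum_congr rfl fun a ha => by rw [S.PD.phi_one S.cls S.sep hl ha]

theorem T_conj {x c : G} (hl : Local p x c) {i : MonoidAlgebra O G} (hi : i * i = i)
    (hif : i ∈ fixA O (lset x c)) (t : G) :
    S.T (cj t i) (t * x * t⁻¹) (t * c * t⁻¹) = S.T i x c :=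
  S.PD.TT_conj S.ι S.cls S.sep S.wconj hl hi hif t

variable {U C : Subgroup G}

theorem T_classFun (h : PC p U C) {i : MonoidAlgebra O G} (hi : i * i = i)
    (hif : i ∈ fixA O ((U : Set G) ∪ C)) :
    IsClassFunction (U × C) fun q => S.T i q.1 q.2 := by
  rintro ⟨x, c⟩ ⟨t, d⟩
  have hl := h.localAt x.2 c.2
  have e1 : ((t * x * t⁻¹ : U) : G) = (t : G) * d * x * ((t : G) * d)⁻¹ := by
    rw [Subgroup.coe_mul, Subgroup.coe_mul, Subgroup.coe_inv, mul_assoc (t : G) d x,
      ← h.comm x x.2 d d.2]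
    group
  have e2 : ((d * c * d⁻¹ : C) : G) = (t : G) * d * c * ((t : G) * d)⁻¹ := by
    rw [mul_assoc (t : G) d c, mul_inv_rev, ← mul_assoc,
      mul_assoc (t : G) (d * c) (d : G)⁻¹,
      h.comm t t.2 _ (C.mul_mem (C.mul_mem d.2 c.2) (C.inv_mem d.2))]
    simp [mul_assoc]
  show S.T i ((t * x * t⁻¹ : U) : G) ((d * c * d⁻¹ : C) : G) = S.T i x c
  rw [e1, e2]
  conv_lhs => rw [← show cj ((t : G) * d) i = i by
    rw [← cj_cj, mem_fixA.1 hif d (Or.inr d.2), mem_fixA.1 hif t (Or.inl t.2)]]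
  exact S.T_conj hl hi (h.fix x.2 c.2 hif) _

/-- The block of a primitive idempotent with nonzero Brauer image, and its restrictions. -/
theorem exists_block (h : PC p U C) {i : fixA O ((U : Set G) ∪ C)} (hi : Prim i)
    (hne : br U (red D (i : MonoidAlgebra O G)) ≠ 0) :
    ∃ f ∈ S.PD.pr U, ∀ Q ≤ U, br Q (red D (i : MonoidAlgebra O G)) *
      red D (S.PD.e (S.PD.below U f Q)) = br Q (red D (i : MonoidAlgebra O G)) := by
  classical
  have hsub : ∀ {Q : Subgroup G}, Q ≤ U → (Q : Set G) ⊆ ((U : Set G) ∪ C) := fun hQ g hg => Or.inl (hQ hg)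
  set φ := brHom D h.hU (hsub le_rfl) with hφ
  have hEfix : ∀ f ∈ S.PD.pr U, S.PD.e f ∈ fixA O ((U : Set G) ∪ C) := fun f hf => by
    rw [mem_fixA]
    rintro s (hs | hs)
    · have h1 := S.PD.below_stab U h.hU f hf U le_rfl s hs (Subgroup.le_normalizer hs)
      rw [S.PD.below_self U h.hU f hf] at h1
      rw [← S.PD.conj_e s U f hf, h1]
    · exact S.PD.inv U f hf s (h.cent le_rfl hs)
  have hdich : ∀ f ∈ S.PD.pr U,
      φ i * red D (S.PD.e f) = 0 ∨ φ i * red D (S.PD.e f) = φ i := by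
    intro f hf
    set E : fixA O ((U : Set G) ∪ C) := ⟨S.PD.e f, hEfix f hf⟩
    have hφE : φ E = red D (S.PD.e f) := S.PD.br_e hf
    have hcm : φ i * φ E = φ E * φ i := by rw [hφE]; exact S.PD.commute_br hf _
    have hX : φ (i * E * i) = φ i * red D (S.PD.e f) := by
      rw [map_mul, map_mul, mul_assoc, ← hcm, ← mul_assoc, ← map_mul, hi.1, hφE]
    obtain ⟨e, w, hee, hIe, heI, -, -, -, -, -, -, hid, -⟩ := lift_idem D φ
      (fun a ha => brHom_algebraMap D _ _ ha) (isIntegral_fix (i * E * i)) hi.1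
      (by rw [← mul_assoc, ← mul_assoc, hi.1]) (by rw [mul_assoc (i * E), hi.1])
    have hφe := hid (by
      rw [hX, ← hφE, mul_assoc, ← mul_assoc (φ E), ← hcm, mul_assoc (φ i), ← map_mul φ E E,
        show E * E = E from Subtype.ext (S.PD.idem _ f hf), ← mul_assoc, ← map_mul φ i i, hi.1])
    rw [hX] at hφe
    rcases hi.2.2 e hee hIe heI with h0 | h0
    · left; rw [← hφe, h0, map_zero]
    · right; rw [← hφe, h0]
  obtain ⟨f, hf, hfi⟩ : ∃ f ∈ S.PD.pr U, φ i * red D (S.PD.e f) = φ i := by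
    by_contra hc
    push Not at hc
    refine hne ?_
    show φ i = 0
    rw [← mul_one (φ i), ← map_one (red D (G := G)), ← S.PD.sum_one U, map_sum, Finset.mul_sum]
    exact Finset.sum_eq_zero fun f hf => (hdich f hf).resolve_right (hc f hf)
  refine ⟨f, hf, ?_⟩
  suffices ∀ (n : ℕ) (Q : Subgroup G), Q ≤ U → Nat.card U - Nat.card Q = n →
      br Q (red D (i : MonoidAlgebra O G)) * red D (S.PD.e (S.PD.below U f Q)) = br Q (red D (i : MonoidAlgebra O G)) from
    fun Q hQ => this _ Q hQ rfl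
  intro n
  induction n using Nat.strong_induction_on with
  | _ n ih =>
  intro Q hQ hn
  rcases lt_or_eq_of_le hQ with hlt | rfl
  swap
  · rw [S.PD.below_self Q h.hU f hf]; exact hfi
  have hQp : IsPGroup p Q := h.hU.to_le hQ
  set b := S.PD.below U f Q with hb
  have hbQ : b ∈ S.PD.pr Q := S.PD.below_mem U h.hU f hf Q hQ
  set N := U ⊓ Subgroup.normalizer (Q : Set G) with hN
  have hQN : Q ≤ N := le_inf hQ Subgroup.le_normalizer
  set eb := red D (S.PD.e b) with heb
  have hebN : eb ∈ fixA k ((N : Set G) ∪ C) := by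
    rw [mem_fixA]
    rintro s (hs | hs)
    · rw [heb, ← red_cj, ← S.PD.conj_e s Q b hbQ, S.PD.below_stab U h.hU f hf Q hQ s hs.1 hs.2]
    · rw [heb, ← red_cj, S.PD.inv Q b hbQ s (h.cent hQ hs)]
  have hIN : red D (i : MonoidAlgebra O G) ∈ fixA k ((N : Set G) ∪ C) :=
    fixA_mono (Set.union_subset_union_left _ fun g hg => hg.1) (red_fix D i.2)
  set a := red D (i : MonoidAlgebra O G) - red D (i : MonoidAlgebra O G) * eb with ha
  have haN : a ∈ fixA k ((N : Set G) ∪ C) := sub_mem hIN (mul_mem hIN hebN)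
  have hQA : ∀ {z : MonoidAlgebra k G} {S' : Subgroup G}, S' ≤ N → z ∈ fixA k ((N : Set G) ∪ C) →
      z ∈ fixA k (S' : Set G) := fun hS' hz => fixA_mono (fun g hg => Or.inl (hS' hg)) hz
  set ε := br Q a with hε
  have hεeq : ε = br Q (red D (i : MonoidAlgebra O G)) - br Q (red D (i : MonoidAlgebra O G)) * eb := by
    rw [hε, ha, br_sub, br_mul hQp (hQA hQN hIN) (hQA hQN hebN), heb, S.PD.br_e hbQ]
  by_contra hne'
  have hε0 : ε ≠ 0 := fun h0 => hne' (by rw [hεeq, sub_eq_zero] at h0; exact h0.symm)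
  -- no larger stabiliser inside the normaliser
  have hstabN : ∀ g, ε.coeff g ≠ 0 → ∀ t ∈ N, t * g = g * t → t ∈ Q := by
    intro g hg t ht htg
    have hgC : g ∈ Subgroup.centralizer (Q : Set G) := by
      by_contra hc; exact hg (coeff_br_notMem Q a hc)
    set S' := N ⊓ Subgroup.centralizer ({g} : Set G) with hS'
    have hQS : Q ≤ S' :=
      le_inf hQN fun q hq => Subgroup.mem_centralizer_singleton_iff.2 (hgC q hq)
    rcases lt_or_eq_of_le hQS with hlt' | heq
    · exfalso
      have hS'U : S' ≤ U := inf_le_left.trans inf_le_left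
      have hSp : IsPGroup p S' := h.hU.to_le hS'U
      have hcard : Nat.card U - Nat.card S' < n := by
        have h1 : Nat.card Q < Nat.card S' := card_lt_of_lt' hlt'
        have h2 := Subgroup.card_le_of_le hS'U
        omega
      have h1 := ih _ hcard S' hS'U rfl
      have h2 := S.PD.below_step U h.hU f hf Q S' hQS hS'U (inf_le_left.trans inf_le_right)
      have h3 : br S' a = 0 := by
        rw [ha, br_sub, br_mul hSp (hQA inf_le_left hIN) (hQA inf_le_left hebN), sub_eq_zero]
        conv_rhs => rw [← h1, mul_assoc, heb, h2, h1]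
      have hgS : g ∈ Subgroup.centralizer (S' : Set G) := fun s hs =>
        Subgroup.mem_centralizer_singleton_iff.1 hs.2
      apply hg
      rw [hε, coeff_br_mem Q a hgC, ← coeff_br_mem S' a hgS, h3]; rfl
    · rw [heq]; exact ⟨ht, Subgroup.mem_centralizer_singleton_iff.2 htg⟩
  have hstab : ∀ g, ε.coeff g ≠ 0 → ∀ t ∈ U, t * g = g * t → t ∈ Q := by
    intro g hg t ht htg
    have hgC : g ∈ Subgroup.centralizer (Q : Set G) := by
      by_contra hc; exact hg (coeff_br_notMem Q a hc)
    set V := U ⊓ Subgroup.centralizer ({g} : Set G) with hV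
    have hQV : Q ≤ V := le_inf hQ fun q hq => Subgroup.mem_centralizer_singleton_iff.2 (hgC q hq)
    rcases lt_or_eq_of_le hQV with hlt' | heq
    · exfalso
      have h1 := exists_lt_normalizing (h.hU.to_le inf_le_left : IsPGroup p V) hlt'
      obtain ⟨s, hs, hsQ⟩ := SetLike.exists_of_lt h1
      exact hsQ (hstabN g hg s ⟨hs.1.1, hs.2⟩ (Subgroup.mem_centralizer_singleton_iff.1 hs.1.2))
    · rw [heq]; exact ⟨ht, Subgroup.mem_centralizer_singleton_iff.2 htg⟩
  have hεN : ∀ s ∈ (N : Set G) ∪ C, cj s ε = ε := by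
    intro s hs
    rw [hε, ← br_cj ?_ a, mem_fixA.1 haN s hs]
    rcases hs with hs | hs
    · exact hs.2
    · exact Subgroup.centralizer_le_normalizer _ (h.cent hQ hs)
  -- two translates in the support differ by the normaliser
  have huniq : ∀ g t t', t ∈ U → t' ∈ U → ε.coeff (t * g * t⁻¹) ≠ 0 →
      ε.coeff (t' * g * t'⁻¹) ≠ 0 → ε.coeff (t * g * t⁻¹) = ε.coeff (t' * g * t'⁻¹) := by
    intro g t t' ht ht' h1 h2
    set s := t' * t⁻¹ with hs
    have hsU : s ∈ U := U.mul_mem ht' (U.inv_mem ht)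
    have hsg : t' * g * t'⁻¹ = s * (t * g * t⁻¹) * s⁻¹ := by rw [hs]; group
    have hsN : s ∈ Subgroup.normalizer (Q : Set G) := by
      refine mem_normalizer_of_conj fun q hq => hstab _ h2 _
        (U.mul_mem (U.mul_mem hsU (hQ hq)) (U.inv_mem hsU)) ?_
      have hc : t * g * t⁻¹ ∈ Subgroup.centralizer (Q : Set G) := by
        by_contra hc; exact h1 (coeff_br_notMem Q a hc)
      rw [hsg]
      calc s * q * s⁻¹ * (s * (t * g * t⁻¹) * s⁻¹) = s * (q * (t * g * t⁻¹)) * s⁻¹ := by group
        _ = s * ((t * g * t⁻¹) * q) * s⁻¹ := by rw [hc q hq]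
        _ = _ := by group
    have h3 := congrArg (fun z => z.coeff (t' * g * t'⁻¹))
      (hεN s (Or.inl ⟨hsU, hsN⟩))
    simp only [coeff_cj] at h3
    rw [← h3, hsg]; congr 1; group
  let y : G → k := fun g =>
    if hg : ∃ t ∈ U, ε.coeff (t * g * t⁻¹) ≠ 0 then ε.coeff (hg.choose * g * hg.choose⁻¹) else 0
  have hy : ∀ g t, t ∈ U → ε.coeff (t * g * t⁻¹) ≠ 0 → y g = ε.coeff (t * g * t⁻¹) := by
    intro g t ht hne0
    have hg : ∃ t ∈ U, ε.coeff (t * g * t⁻¹) ≠ 0 := ⟨t, ht, hne0⟩
    simp only [y, dif_pos hg]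
    exact huniq g _ t hg.choose_spec.1 ht hg.choose_spec.2 hne0
  have hy0 : ∀ g, (¬ ∃ t ∈ U, ε.coeff (t * g * t⁻¹) ≠ 0) → y g = 0 := fun g hg => dif_neg hg
  have hycoef : ∀ (s g : G), ε.coeff (s * g * s⁻¹) = (cj s⁻¹ ε).coeff g := fun s g => by
    rw [coeff_cj, inv_inv]
  have hyfix : ofFn y ∈ fixA k ((U : Set G) ∪ C) := by
    rw [mem_fixA]
    intro s hs
    refine ext_coeff fun g => ?_
    rw [coeff_cj, coeff_ofFn, coeff_ofFn]
    have key : ∀ r g, r ∈ ((U : Set G) ∪ C) → (∃ t ∈ U, ε.coeff (t * g * t⁻¹) ≠ 0) →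
        ∃ t ∈ U, ε.coeff (t * (r * g * r⁻¹) * t⁻¹) ≠ 0 ∧ y (r * g * r⁻¹) = y g := by
      rintro r g hr ⟨t, ht, hne0⟩
      rcases hr with hr | hr
      · have e : t * r⁻¹ * (r * g * r⁻¹) * (t * r⁻¹)⁻¹ = t * g * t⁻¹ := by group
        refine ⟨t * r⁻¹, U.mul_mem ht (U.inv_mem hr), by rwa [e], ?_⟩
        rw [hy _ _ (U.mul_mem ht (U.inv_mem hr)) (by rwa [e]), e, hy g t ht hne0]
      · have e : t * (r * g * r⁻¹) * t⁻¹ = r * (t * g * t⁻¹) * r⁻¹ := by
          have hc := h.comm t ht r hr
          calc t * (r * g * r⁻¹) * t⁻¹ = (t * r) * g * (t * r)⁻¹ := by group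
            _ = (r * t) * g * (r * t)⁻¹ := by rw [hc]
            _ = _ := by group
        have e' : ε.coeff (r * (t * g * t⁻¹) * r⁻¹) = ε.coeff (t * g * t⁻¹) := by
          rw [hycoef, hεN _ (Or.inr (C.inv_mem hr))]
        refine ⟨t, ht, by rw [e, e']; exact hne0, ?_⟩
        rw [hy _ t ht (by rw [e, e']; exact hne0), hy g t ht hne0, e, e']
    by_cases hg : ∃ t ∈ U, ε.coeff (t * g * t⁻¹) ≠ 0
    · have hs' : s⁻¹ ∈ ((U : Set G) ∪ C) := by
        rcases hs with hs | hs
        · exact Or.inl (U.inv_mem hs)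
        · exact Or.inr (C.inv_mem hs)
      obtain ⟨-, -, -, he⟩ := key s⁻¹ g hs' hg
      simpa using he
    · rw [hy0 g hg]
      by_contra hne0
      have hg' : ∃ t ∈ U, ε.coeff (t * (s⁻¹ * g * s) * t⁻¹) ≠ 0 := by
        by_contra h'; exact hne0 (hy0 _ h')
      obtain ⟨t, ht, ht0, -⟩ := key s _ hs hg'
      exact hg ⟨t, ht, by simpa [mul_assoc] using ht0⟩
  have hyQ : br Q (ofFn y) = ε := by
    refine ext_coeff fun g => ?_
    by_cases hgC : g ∈ Subgroup.centralizer (Q : Set G)
    · rw [coeff_br_mem Q _ hgC, coeff_ofFn]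
      by_cases hg : ∃ t ∈ U, ε.coeff (t * g * t⁻¹) ≠ 0
      · obtain ⟨t, ht, hne0⟩ := hg
        have htN : t ∈ Subgroup.normalizer (Q : Set G) := by
          refine mem_normalizer_of_conj fun q hq =>
            hstab _ hne0 _ (U.mul_mem (U.mul_mem ht (hQ hq)) (U.inv_mem ht)) ?_
          calc t * q * t⁻¹ * (t * g * t⁻¹) = t * (q * g) * t⁻¹ := by group
            _ = t * (g * q) * t⁻¹ := by rw [hgC q hq]
            _ = _ := by group
        rw [hy g t ht hne0, hycoef, hεN _ (Or.inl (N.inv_mem ⟨ht, htN⟩))]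
      · rw [hy0 g hg]
        by_contra h0
        exact hg ⟨1, U.one_mem, by simpa using Ne.symm h0⟩
    · rw [coeff_br_notMem Q _ hgC, hε, coeff_br_notMem Q _ hgC]
  have hyU : br U (ofFn y) = 0 := by
    refine ext_coeff fun g => ?_
    by_cases hgC : g ∈ Subgroup.centralizer (U : Set G)
    · rw [coeff_br_mem U _ hgC, coeff_ofFn]
      refine hy0 g fun ⟨t, ht, hne0⟩ => hlt.not_ge fun s hs => ?_
      refine hstab _ hne0 s hs ?_
      have : t * g * t⁻¹ = g := by rw [hgC t ht, mul_inv_cancel_right]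
      rw [this, hgC s hs]
    · rw [coeff_br_notMem U _ hgC]; rfl
  -- lift
  set Y : fixA O ((U : Set G) ∪ C) := ⟨lift0 D (ofFn y), lift0_fix D hyfix⟩ with hY
  set φQ := brHom D hQp (hsub hQ) with hφQ
  set φ2 := φQ.prod φ with hφ2
  have hBB : φQ i * φQ i = φQ i := by rw [← map_mul, hi.1]
  have hcm : eb * φQ i = φQ i * eb := (S.PD.commute_br hbQ _).symm
  have hεI : φQ i * ε * φQ i = ε := by
    have e : ε = φQ i - φQ i * eb := hεeq
    rw [e, mul_sub, sub_mul, hBB, hBB, ← mul_assoc, hBB, mul_assoc, hcm, ← mul_assoc, hBB]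
  have hφ2X : φ2 (i * Y * i) = (ε, 0) := by
    have e1 : φQ Y = ε := by rw [hφQ, brHom_apply, hY, red_lift0, hyQ]
    have e2 : φ Y = 0 := by rw [hφ, brHom_apply, hY, red_lift0, hyU]
    rw [hφ2, RingHom.prod_apply]
    simp only [map_mul, e1, e2, hεI, mul_zero, zero_mul]
  have hεε : ε * ε = ε := by
    have e : ε = φQ i - φQ i * eb := hεeq
    have hee : eb * eb = eb := by rw [heb, ← map_mul, S.PD.idem _ b hbQ]
    rw [e, sub_mul, mul_sub, mul_sub, hBB, ← mul_assoc, hBB, mul_assoc (φQ i) eb, hcm,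
      ← mul_assoc, hBB, mul_assoc (φQ i) eb (φQ i * eb), ← mul_assoc eb, hcm,
      mul_assoc (φQ i) eb eb, hee, ← mul_assoc, hBB]
    abel
  obtain ⟨e, w, hee, hIe, heI, -, -, -, -, -, -, hid, -⟩ := lift_idem D φ2
    (fun z hz => by
      rw [hφ2, RingHom.prod_apply, brHom_algebraMap D _ _ hz, brHom_algebraMap D _ _ hz]; rfl)
    (isIntegral_fix (i * Y * i)) hi.1
    (by rw [← mul_assoc, ← mul_assoc, hi.1]) (by rw [mul_assoc (i * Y), hi.1])
  have hφe := hid (by rw [hφ2X, Prod.mk_mul_mk, hεε, mul_zero])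
  rw [hφ2X] at hφe
  rcases hi.2.2 e hee hIe heI with h0 | h0 <;> rw [h0] at hφe
  · rw [map_zero] at hφe
    exact hε0 (congrArg Prod.fst hφe).symm
  · exact hne (congrArg Prod.snd hφe)

/-- An idempotent with nonzero Brauer image at `U`. -/
theorem gen_of_br_ne (h : PC p U C) {i : fixA O ((U : Set G) ∪ C)} (hi : Prim i)
    (hne : br U (red D (i : MonoidAlgebra O G)) ≠ 0) :
    IsGeneralizedCharacter (U × C) fun q => S.T (i : MonoidAlgebra O G) q.1 q.2 := by
  classical
  obtain ⟨f, hf, hblk⟩ := S.exists_block h hi hne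
  have hII : (i : MonoidAlgebra O G) * (i : MonoidAlgebra O G) = (i : MonoidAlgebra O G) := congrArg Subtype.val hi.1
  obtain ⟨n, ρ, hρ⟩ := S.char
  let ρA : MonoidAlgebra O G →+* Module.End ℂ (Fin n → ℂ) :=
    ρ.asAlgebraHom.toRingHom.comp (mapRingHom G S.ι)
  have hρA : ∀ g a, ρA (single g a) = S.ι a • ρ g := fun g a => by
    show ρ.asAlgebraHom (mapRingHom G S.ι (single g a)) = _
    rw [show mapRingHom G S.ι (single g a) = single g (S.ι a) from map_single _ _ _,
      Representation.asAlgebraHom_single]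
  have htr : ∀ z, LinearMap.trace ℂ _ (ρA z) = S.ι (tau S.χ z) := by
    intro z
    induction z using MonoidAlgebra.induction_linear with
    | zero => simp
    | add a b ha hb => simp only [map_add, ha, hb]
    | single g a =>
      rw [hρA, map_smul, tau_single, map_mul, smul_eq_mul]
      congr 1
      exact congrFun hρ g
  have hchar : IsCharacter (U × C)
      fun q => S.ι (val S.χ (q.1 : G) (q.2 : G) (i : MonoidAlgebra O G)) := by
    have hc : ∀ q : U × C, (ρ.comp h.mulHom) q * ρA (i : MonoidAlgebra O G) = ρA (i : MonoidAlgebra O G) * (ρ.comp h.mulHom) q := by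
      intro q
      have e : (ρ.comp h.mulHom) q = ρA (single ((q.1 : G) * q.2) 1) := by
        rw [hρA, map_one, one_smul]; rfl
      rw [e, ← map_mul, ← map_mul, single_comm (h.fix q.1.2 q.2.2 i.2)]
    have := isCharacter_trace_idem (ρ.comp h.mulHom) (ρA (i : MonoidAlgebra O G)) (by rw [← map_mul, hII]) hc
    convert this using 1
    funext q
    rw [val, ← htr, map_mul, hρA, map_one, one_smul]
    rfl
  have hprod := isGenChar_mul (isGenChar_comp' (S.wgen U h.hU f hf) (MonoidHom.fst U C))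
    (isGenChar_of_char hchar)
  convert hprod using 1
  funext q
  obtain ⟨⟨x, hx⟩, ⟨c, hc⟩⟩ := q
  show S.T (i : MonoidAlgebra O G) x c = S.W (S.PD.below U f (Subgroup.zpowers x)) x * S.ι (val S.χ x c (i : MonoidAlgebra O G))
  have hl := h.localAt hx hc
  have hQ : Subgroup.zpowers x ≤ U := Subgroup.zpowers_le.2 hx
  have hb := S.PD.below_mem U h.hU f hf _ hQ
  have hfix := h.fix hx hc i.2
  rw [T, PairData.TT, Finset.sum_eq_single (S.PD.below U f (Subgroup.zpowers x))]
  · rw [S.PD.phi_eq S.cls S.sep hl hII hfix hb hII hfix (hblk _ hQ).symm]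
  · intro a ha hne'
    rw [S.PD.phi_of_br_zero S.cls S.sep hl hII hfix ha (by
      rw [← hblk _ hQ, mul_assoc, ← map_mul, S.PD.orth _ _ hb a ha hne'.symm, map_zero, mul_zero]),
      map_zero, mul_zero]
  · exact fun h' => absurd hb h'

/-- An idempotent with vanishing Brauer image at `U`. -/
theorem gen_of_br_zero (h : PC p U C) {i : fixA O ((U : Set G) ∪ C)} (hi : Prim i)
    (hbr : br U (red D (i : MonoidAlgebra O G)) = 0)
    (IH : ∀ R, R < U → ∀ j : MonoidAlgebra O G, j * j = j → j ∈ fixA O ((R : Set G) ∪ C) →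
      IsGeneralizedCharacter (R × C) fun q => S.T j q.1 q.2) :
    IsGeneralizedCharacter (U × C) fun q => S.T (i : MonoidAlgebra O G) q.1 q.2 := by
  classical
  have hII : (i : MonoidAlgebra O G) * (i : MonoidAlgebra O G) = (i : MonoidAlgebra O G) := congrArg Subtype.val hi.1
  set f : G → O := fun g => sec0 D ((red D (i : MonoidAlgebra O G)).coeff g) with hf
  have hfix : ∀ s ∈ ((U : Set G) ∪ C), ∀ g, f (s * g * s⁻¹) = f g := fun s hs g => by
    simp only [hf]
    congr 1
    conv_lhs => rw [← mem_fixA.1 (red_fix D i.2) s hs, coeff_cj]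
    group
  obtain ⟨s, y, z, hs, hsum⟩ := exists_trace_decomp h.hU h.hC h.comm f
    (fun a ha => hfix a (Or.inl ha)) (fun a ha => hfix a (Or.inr ha)) (fun g hg => by
      have := congrArg (fun w => w.coeff g) hbr
      simp only [coeff_br_mem U _ hg, coeff_zero, Finsupp.coe_zero, Pi.zero_apply] at this
      simp only [hf, this, sec0_zero])
  have hfixfn : ∀ (t : G) (F : G → O), (∀ g, F (t * g * t⁻¹) = F g) → cj t (ofFn F) = ofFn F :=
    fun t F h => ext_coeff fun g => by
      rw [coeff_cj, coeff_ofFn, coeff_ofFn, ← h (t⁻¹ * g * t)]; group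
  let Z : Subgroup G → fixA O ((U : Set G) ∪ C) := fun R =>
    if hR : R ∈ s then ⟨ofFn (z R), mem_fixA.2 fun t ht => hfixfn _ _ ((hs R hR).2.2.1 t ht)⟩ else 0
  obtain ⟨R, hR, w, hIw, hwI, hxw, -⟩ := exists_inv_of_sum D (redFix D ((U : Set G) ∪ C))
    (fun a ha => Subtype.ext (red_algebraMap D ha))
    (fun e he h => Subtype.ext (idem_eq_zero D (congrArg Subtype.val he) (congrArg Subtype.val h)))
    (fun a => isIntegral_fix a) hi s (fun R => i * Z R * i)
    (fun R hR => ⟨by rw [← mul_assoc, ← mul_assoc, hi.1], by rw [mul_assoc (i * Z R), hi.1]⟩)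
    (Subtype.ext (by
      have hZred : red D (∑ R ∈ s, ofFn (z R)) = red D (i : MonoidAlgebra O G) := by
        refine ext_coeff fun g => ?_
        rw [coeff_red, coeff_sum, Finsupp.finsetSum_apply]
        simp only [coeff_ofFn, hsum g, hf, r_sec0]
      show red D ((∑ R ∈ s, i * Z R * i : fixA O ((U : Set G) ∪ C)) : MonoidAlgebra O G) = red D (i : MonoidAlgebra O G)
      rw [← Finset.sum_mul, ← Finset.mul_sum, Subalgebra.coe_mul, Subalgebra.coe_mul,
        AddSubmonoidClass.coe_finset_sum, Finset.sum_congr rfl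
          (g := fun R => ofFn (z R)) (fun R hR => by simp only [Z, dif_pos hR]),
        map_mul, map_mul, hZred, ← map_mul, ← map_mul, hII, hII]))
  simp only [Z, dif_pos hR] at hxw
  obtain ⟨hmax, hyinv, -, hytr⟩ := hs R hR
  set B : Set G := (R : Set G) ∪ C with hB
  have hBA : B ⊆ ((U : Set G) ∪ C) := Set.union_subset_union_left _ hmax.le
  set W₀ : MonoidAlgebra O G := (i : MonoidAlgebra O G) * ofFn (y R) * (i : MonoidAlgebra O G) * (w : MonoidAlgebra O G) with hW₀
  have hW₀fix : W₀ ∈ fixA O B :=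
    mul_mem (mul_mem (mul_mem (fixA_mono hBA i.2)
      (mem_fixA.2 fun t ht => hfixfn _ _ (hyinv t ht))) (fixA_mono hBA i.2)) (fixA_mono hBA w.2)
  have hsumI : ∀ t ∈ U, t ∉ R → (i : MonoidAlgebra O G) = ∑ j ∈ Finset.range p, cj (t ^ j) W₀ := by
    intro t ht htR
    have e : ∀ j : ℕ, cj (t ^ j) W₀ = (i : MonoidAlgebra O G) * cj (t ^ j) (ofFn (y R)) * (i : MonoidAlgebra O G) * (w : MonoidAlgebra O G) := by
      intro j
      have hmem : t ^ j ∈ ((U : Set G) ∪ C) := Or.inl (U.pow_mem ht j)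
      rw [hW₀, cj_mul, cj_mul, cj_mul, mem_fixA.1 i.2 _ hmem, mem_fixA.1 w.2 _ hmem]
    simp only [e]
    rw [← Finset.sum_mul, ← Finset.sum_mul, ← Finset.mul_sum,
      show ∑ j ∈ Finset.range p, cj (t ^ j) (ofFn (y R)) = ofFn (z R) from ext_coeff fun g => by
        rw [coeff_sum, Finsupp.finsetSum_apply]
        simp only [coeff_cj, coeff_ofFn]
        exact hytr t ht htR g]
    exact (congrArg Subtype.val hxw).symm
  have hRU : R < U := lt_of_le_of_ne hmax.le fun he => by
    have h1 := hmax.card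
    rw [he] at h1
    have := (Fact.out : p.Prime).two_le
    have h3 : 0 < Nat.card U := Nat.card_pos
    nlinarith
  have hoff : ∀ x ∈ U, x ∉ R → ∀ c ∈ C, S.T (i : MonoidAlgebra O G) x c = 0 := by
    intro x hx hxR c hc
    refine S.T_of_br_zero (h.localAt hx hc) hII (h.fix hx hc i.2) (ext_coeff fun g => ?_)
    by_cases hg : g ∈ Subgroup.centralizer (Subgroup.zpowers x : Set G)
    · rw [coeff_br_mem _ _ hg, coeff_red, hsumI x hx hxR, coeff_sum, Finsupp.finsetSum_apply]
      have : ∀ j ∈ Finset.range p, (cj (x ^ j) W₀).coeff g = W₀.coeff g := fun j _ => by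
        rw [coeff_cj]
        congr 1
        rw [mul_assoc, ← hg _ (Subgroup.pow_mem _ (Subgroup.mem_zpowers x) j), inv_mul_cancel_left]
      rw [Finset.sum_congr rfl this, Finset.sum_const, Finset.card_range, nsmul_eq_mul, map_mul,
        map_natCast, CharP.cast_eq_zero k p, zero_mul]
      rfl
    · rw [coeff_br_notMem _ _ hg]; rfl
  -- Wedderburn
  obtain ⟨r, d, π, hd, hπ, m, hm⟩ := exists_pi_quotient (k := k) (A := fixA k B)
  haveI := hd
  have hker : ∀ v, π v = 0 → IsNilpotent v := fun v hv => ⟨m, by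
    have h1 : v ^ m ∈ (LinearMap.ker π.toLinearMap) ^ m :=
      Submodule.pow_mem_pow _ (LinearMap.mem_ker.2 hv) m
    rw [hm, Submodule.mem_bot] at h1
    exact h1⟩
  set π' : fixA O B →+* Π l, Matrix (Fin (d l)) (Fin (d l)) k :=
    (π : fixA k B →+* Π l, Matrix (Fin (d l)) (Fin (d l)) k).comp (redFix D B) with hπ'
  have hπ's : Function.Surjective π' := hπ.comp (redFix_surjective D B)
  have hπ'0 : ∀ a, D.r a = 0 → π' (algebraMap O (fixA O B) a) = 0 := fun a ha => by
    show π (redFix D B _) = 0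
    rw [show redFix D B (algebraMap O (fixA O B) a) = 0 from Subtype.ext (red_algebraMap D ha),
      map_zero]
  have hdet : ∀ e, e * e = e → π' e = 0 → e = 0 := by
    intro e he he0
    obtain ⟨n, hn⟩ := hker (redFix D B e) he0
    have hid : IsIdempotentElem (redFix D B e) := by rw [IsIdempotentElem, ← map_mul, he]
    have h0 : redFix D B e = 0 := by
      have h2 : redFix D B e ^ (n + 1) = redFix D B e := hid.pow_succ_eq n
      rw [← h2, pow_succ, hn, zero_mul]
    exact Subtype.ext (idem_eq_zero D (congrArg Subtype.val he) (congrArg Subtype.val h0))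
  rw [isGenChar_iff_coeff_int]
  refine ⟨S.T_classFun h hII i.2, fun ψ hψ => ?_⟩
  set incl : R × C →* U × C := (Subgroup.inclusion hmax.le).prodMap (MonoidHom.id C) with hincl
  set ψR : R × C → ℂ := fun q => ψ (incl q) with hψR
  have hψRg : IsGeneralizedCharacter (R × C) ψR :=
    isGenChar_comp' (isGenChar_of_char (isCharacter_of_irr hψ)) incl
  set F : MonoidAlgebra O G → ℂ :=
    fun j => classInner (fun q : R × C => S.T j q.1 q.2) ψR with hF
  have hFint : ∀ j : fixA O B, j * j = j → ∃ n : ℤ, F (j : MonoidAlgebra O G) = n := fun j hj =>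
    classInner_genChar_int (IH R hRU _ (congrArg Subtype.val hj) j.2) hψRg
  choose! Fz hFz using hFint
  have hlR : ∀ q : R × C, Local p (q.1 : G) (q.2 : G) := fun q =>
    h.localAt (hmax.le q.1.2) q.2.2
  have hfR : ∀ (q : R × C) (j : fixA O B),
      (j : MonoidAlgebra O G) ∈ fixA O (lset (q.1 : G) (q.2 : G)) := fun q j =>
    (h.mono hmax.le).fix q.1.2 q.2.2 j.2
  have hFz0 : Fz 0 = 0 := by
    have := hFz 0 (mul_zero 0)
    have h0 : F ((0 : fixA O B) : MonoidAlgebra O G) = 0 := by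
      simp only [hF, ZeroMemClass.coe_zero, S.T_zero (hlR _)]
      exact classInner_zero_left _
    rw [h0] at this
    exact_mod_cast this.symm
  have hadd : ∀ e e' : fixA O B, e * e = e → e' * e' = e' → e * e' = 0 → e' * e = 0 →
      Fz (e + e') = Fz e + Fz e' := by
    intro e e' he he' h1 h2
    have h3 := hFz (e + e') (by rw [mul_add, add_mul, add_mul, he, he', h1, h2]; simp)
    have h4 : F ((e + e' : fixA O B) : MonoidAlgebra O G) = F e + F e' := by
      simp only [hF]
      rw [← classInner_add_left]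
      congr 1
      funext q
      simp only [Pi.add_apply, Subalgebra.coe_add]
      exact S.T_add (hlR q) (congrArg Subtype.val he) (hfR q e) (congrArg Subtype.val he')
        (hfR q e') (congrArg Subtype.val h1) (congrArg Subtype.val h2)
    rw [h4, hFz e he, hFz e' he'] at h3
    exact_mod_cast h3.symm
  have hjl : ∀ l, ∃ e : fixA O B, e * e = e ∧ π' e = unitAt k l := by
    intro l
    obtain ⟨v, hv⟩ := hπ's (unitAt k l)
    obtain ⟨e, w', hee, -, -, -, -, -, -, -, -, hid, -⟩ := lift_idem D π' hπ'0 (isIntegral_fix v)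
      (one_mul 1) (one_mul v) (mul_one v)
    refine ⟨e, hee, (hid ?_).trans hv⟩
    rw [hv, unitAt, ← Pi.single_mul, Matrix.single_mul_single_same, mul_one]
  choose jl hjl1 hjl2 using hjl
  let L : fixA k B →ₗ[k] k :=
    { toFun := fun v => ∑ l, (Fz (jl l) : k) * (π v l).trace
      map_add' := fun a b => by simp [mul_add, Finset.sum_add_distrib]
      map_smul' := fun a b => by simp [Finset.mul_sum, mul_left_comm] }
  have hLtr : ∀ a b, L (a * b) = L (b * a) := fun a b => by
    show (∑ l, (Fz (jl l) : k) * (π (a * b) l).trace) = ∑ l, (Fz (jl l) : k) * (π (b * a) l).trace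
    exact Finset.sum_congr rfl fun l _ => by
      rw [map_mul, map_mul, Pi.mul_apply, Pi.mul_apply, Matrix.trace_mul_comm]
  have hLnil : ∀ v, IsNilpotent v → L v = 0 := by
    intro v hv
    show (∑ l, (Fz (jl l) : k) * (π v l).trace) = 0
    refine Finset.sum_eq_zero fun l _ => ?_
    have h1 : IsNilpotent (π v l) := (hv.map π).map (Pi.evalRingHom _ l)
    rw [(Matrix.isNilpotent_trace_of_isNilpotent h1).eq_zero, mul_zero]
  have hFL : ∀ j : fixA O B, j * j = j → L (redFix D B j) = (Fz j : k) := by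
    intro j hj
    refine idem_induction (k := k) π' hdet (P := fun j => L (redFix D B j) = (Fz j : k))
      (by rw [map_zero, map_zero, hFz0, Int.cast_zero]) (fun j hj => ?_)
      (fun e e' he he' h1 h2 a b => ?_) hj
    swap
    · show L (redFix D B (e + e')) = (Fz (e + e') : k)
      rw [map_add, map_add, a, b, hadd e e' he he' h1 h2, Int.cast_add]
    obtain ⟨l, a, b, hab, hba, htrace⟩ :=
      prim_rank_one D π' hπ's hπ'0 (fun a => isIntegral_fix a) hdet hj
    have hLj : L (redFix D B j) = (Fz (jl l) : k) := by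
      show ∑ l', (Fz (jl l') : k) * (π' j l').trace = _
      simp only [htrace, mul_ite, mul_one, mul_zero, Finset.sum_ite_eq', Finset.mem_univ, if_true]
    rw [hLj]
    -- exact equivalence of `j` with `jl l`
    set a₁ := j * a * jl l with ha₁
    set b₁ := jl l * b * j with hb₁
    have hju : π' (jl l) = π' b * π' a := by rw [hjl2, ← hba, map_mul]
    have hjP : π' j = π' a * π' b := by rw [← hab, map_mul]
    have hU2 : π' (jl l) * π' (jl l) = π' (jl l) := by rw [← map_mul, hjl1]
    have hP2 : π' j * π' j = π' j := by rw [← map_mul, hj.1]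
    have hπx : π' (a₁ * b₁) = π' j := by
      simp only [ha₁, hb₁, map_mul, hju]
      calc π' j * π' a * (π' b * π' a) * (π' b * π' a * π' b * π' j)
          = π' j * (π' a * π' b) * (π' a * π' b) * (π' a * π' b) * π' j := by
            simp only [mul_assoc]
        _ = π' j := by simp only [← hjP, hP2]
    have hja : j * a₁ = a₁ := by rw [ha₁, ← mul_assoc, ← mul_assoc, hj.1]
    have hbj : b₁ * j = b₁ := by rw [hb₁, mul_assoc, hj.1]
    obtain ⟨w', hjw, hwj, hxw', -⟩ := inv_corner D π' hπ'0 hdet (isIntegral_fix (a₁ * b₁)) hj.1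
      (by rw [← mul_assoc, hja]) (by rw [mul_assoc, hbj]) hπx
    set b₂ := b₁ * w' with hb₂
    have hab₂ : a₁ * b₂ = j := by rw [hb₂, ← mul_assoc, hxw']
    set e' := b₂ * a₁ with he'
    have hee' : e' * e' = e' := by
      rw [he', mul_assoc b₂, ← mul_assoc a₁, hab₂, hja]
    have hπw : π' w' = π' j := by
      rw [← hxw', map_mul, hπx, ← map_mul, hjw]
    have hje : jl l * e' = e' := by
      simp only [he', hb₂, hb₁, ← mul_assoc, hjl1]
    have hej : e' * jl l = e' := by simp only [he', ha₁, mul_assoc, hjl1]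
    have he'eq : e' = jl l := by
      refine (sub_eq_zero.1 (hdet (jl l - e') ?_ ?_)).symm
      · rw [mul_sub, sub_mul, sub_mul, hjl1, hje, hej, hee', sub_self, sub_zero]
      · rw [map_sub, sub_eq_zero]
        simp only [he', hb₂, hb₁, ha₁, map_mul, hπw]
        rw [hju]
        calc π' b * π' a = π' (jl l) * π' (jl l) * π' (jl l) * π' (jl l) * π' (jl l) *
              π' (jl l) := by rw [hU2, hU2, hU2, hU2, hU2, hju]
          _ = π' b * π' a * π' b * (π' a * π' b) * (π' a * π' b) * (π' a * π' b) *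
              (π' a * (π' b * π' a)) := by
              rw [hju]; simp only [mul_assoc]
          _ = _ := by rw [← hjP]; simp only [mul_assoc]
    have hFeq : F (j : MonoidAlgebra O G) = F (jl l : MonoidAlgebra O G) := by
      simp only [hF]
      congr 1
      funext q
      exact S.T_equiv (hlR q) (congrArg Subtype.val hj.1) (hfR q j)
        (congrArg Subtype.val (hjl1 l)) (hfR q (jl l)) (hfR q a₁) (hfR q b₂)
        (congrArg Subtype.val hab₂) (congrArg Subtype.val he'eq)
    rw [hFz j hj.1, hFz (jl l) (hjl1 l)] at hFeq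
    rw [Int.cast_inj.1 hFeq]
  -- invariance under `U`
  obtain ⟨t, htU, htR⟩ := SetLike.exists_of_lt hRU
  have hBnorm : ∀ g ∈ B, t⁻¹ * g * t ∈ B := by
    intro g hg
    rcases hg with hg | hg
    · exact Or.inl (by simpa using hmax.conj t⁻¹ (U.inv_mem htU) g hg)
    · exact Or.inr (by rw [mul_assoc, ← h.comm t htU g hg, inv_mul_cancel_left]; exact hg)
  let σ : fixA k B →ₗ[k] fixA k B :=
    { toFun := fun v => ⟨cj t (v : MonoidAlgebra k G), cj_fix_norm hBnorm v.2⟩
      map_add' := fun a b => Subtype.ext (cj_add t _ _)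
      map_smul' := fun a b => Subtype.ext (by simp [cj]) }
  have hσmul : ∀ a b, σ (a * b) = σ a * σ b := fun a b => Subtype.ext (cj_mul t _ _)
  have hσnil : ∀ v, IsNilpotent v → IsNilpotent (σ v) := by
    rintro v ⟨n, hn⟩
    refine ⟨n + 1, ?_⟩
    have hp' : ∀ n : ℕ, σ v ^ (n + 1) = σ (v ^ (n + 1)) := fun n => by
      induction n with
      | zero => rw [pow_one, pow_one]
      | succ n ih => rw [pow_succ, ih, pow_succ v (n + 1), hσmul]
    rw [hp' n, pow_succ, hn, zero_mul, map_zero]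
  have hLσ : L.comp σ = L := by
    rw [← sub_eq_zero]
    refine trace_ext π hπ hker _ (fun a b => ?_) (fun v hv => ?_) fun l => ?_
    · simp only [LinearMap.sub_apply, LinearMap.comp_apply, hσmul]
      rw [hLtr (σ a), hLtr a]
    · simp only [LinearMap.sub_apply, LinearMap.comp_apply]
      rw [hLnil _ (hσnil v hv), hLnil v hv, sub_self]
    · refine ⟨redFix D B (jl l), hjl2 l, ?_⟩
      set j' : fixA O B := ⟨cj t (jl l : MonoidAlgebra O G), cj_fix_norm hBnorm (jl l).2⟩ with hj'
      have hj'i : j' * j' = j' := Subtype.ext (by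
        show cj t _ * cj t _ = cj t _
        rw [← cj_mul, ← Subalgebra.coe_mul, hjl1])
      have e1 : σ (redFix D B (jl l)) = redFix D B j' := Subtype.ext (red_cj D t _).symm
      rw [LinearMap.sub_apply, LinearMap.comp_apply, e1, hFL j' hj'i, hFL _ (hjl1 l), sub_eq_zero]
      congr 1
      have hFeq : F (j' : MonoidAlgebra O G) = F (jl l : MonoidAlgebra O G) := by
        simp only [hF, classInner]
        congr 1
        let et : R ≃ R :=
          { toFun := fun x => ⟨t * x * t⁻¹, hmax.conj t htU x x.2⟩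
            invFun := fun x => ⟨t⁻¹ * x * t, by simpa using hmax.conj t⁻¹ (U.inv_mem htU) x x.2⟩
            left_inv := fun x => Subtype.ext (by simp [mul_assoc])
            right_inv := fun x => Subtype.ext (by simp [mul_assoc]) }
        symm
        refine Fintype.sum_equiv (et.prodCongr (Equiv.refl C)) _ _ fun q => ?_
        obtain ⟨x, c⟩ := q
        show S.T (jl l) x c * conj (ψR (x, c)) =
          S.T (cj t (jl l : MonoidAlgebra O G)) (t * x * t⁻¹) c * conj (ψR (et x, c))
        have hcc : t * (c : G) * t⁻¹ = c := by rw [h.comm t htU c c.2, mul_inv_cancel_right]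
        have hT := S.T_conj (hlR (x, c)) (congrArg Subtype.val (hjl1 l)) (hfR (x, c) (jl l)) t
        rw [hcc] at hT
        rw [hT]
        congr 2
        simp only [hψR, hincl]
        rw [← isClassFunction_irr hψ (incl (x, c)) (⟨t, htU⟩, 1)]
        congr 1
        refine Prod.ext (Subtype.ext ?_) (Subtype.ext ?_) <;> simp [hincl, et]
      rw [hFz j' hj'i, hFz _ (hjl1 l)] at hFeq
      exact Int.cast_inj.1 hFeq
  have hdvd : (p : ℤ) ∣ Fz ⟨(i : MonoidAlgebra O G), fixA_mono hBA i.2⟩ := by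
    rw [← CharP.intCast_eq_zero_iff k p, ← hFL _ (Subtype.ext hII)]
    set v : fixA k B := redFix D B ⟨W₀, hW₀fix⟩ with hv
    have hiter : ∀ j : ℕ, ∃ hm, L ⟨cj (t ^ j) (v : MonoidAlgebra k G), hm⟩ = L v := by
      intro j
      induction j with
      | zero => exact ⟨by rw [pow_zero, cj_one_elem]; exact v.2, by simp only [pow_zero, cj_one_elem]⟩
      | succ j ih =>
        obtain ⟨hm, he⟩ := ih
        have e : cj (t ^ (j + 1)) (v : MonoidAlgebra k G) = cj t (cj (t ^ j) (v : MonoidAlgebra k G)) := by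
          rw [cj_cj, pow_succ']
        refine ⟨e ▸ cj_fix_norm hBnorm hm, ?_⟩
        rw [← he, ← LinearMap.congr_fun hLσ ⟨_, hm⟩, LinearMap.comp_apply]
        congr 1
        exact Subtype.ext e
    choose hm hLm using hiter
    have e : redFix D B ⟨(i : MonoidAlgebra O G), fixA_mono hBA i.2⟩ =
        ∑ j ∈ Finset.range p, (⟨cj (t ^ j) (v : MonoidAlgebra k G), hm j⟩ : fixA k B) := by
      apply Subtype.ext
      rw [AddSubmonoidClass.coe_finset_sum]
      show red D (i : MonoidAlgebra O G) = ∑ j ∈ Finset.range p, cj (t ^ j) (red D W₀)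
      rw [hsumI t htU htR, map_sum]
      simp only [red_cj]
    rw [e, map_sum, Finset.sum_congr rfl fun j _ => hLm j, Finset.sum_const, Finset.card_range,
      nsmul_eq_mul, CharP.cast_eq_zero k p, zero_mul]
  obtain ⟨nz, hnz⟩ := hdvd
  refine ⟨nz, ?_⟩
  have hFI : F (i : MonoidAlgebra O G) = ((p : ℤ) * nz : ℤ) := by
    rw [← hnz]; exact hFz ⟨(i : MonoidAlgebra O G), fixA_mono hBA i.2⟩ (Subtype.ext hII)
  have hincl_inj : Function.Injective incl := fun a b hab => by
    rw [hincl, MonoidHom.coe_prodMap, Prod.map_apply'] at hab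
    rw [Prod.ext_iff] at hab
    exact Prod.ext (Subgroup.inclusion_injective _ hab.1) hab.2
  have hsumeq : ∑ q : U × C, S.T (i : MonoidAlgebra O G) q.1 q.2 * conj (ψ q) =
      ∑ q : R × C, S.T (i : MonoidAlgebra O G) q.1 q.2 * conj (ψR q) := by
    symm
    refine Fintype.sum_of_injective incl hincl_inj _ _ (fun q hq => ?_) (fun q => rfl)
    rw [hoff q.1 q.1.2 (fun hqR => hq ⟨(⟨q.1, hqR⟩, q.2), rfl⟩) q.2 q.2.2, zero_mul]
  simp only [hF, classInner] at hFI
  rw [classInner, hsumeq, Nat.card_prod, ← hmax.card]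
  have hp0 : (p : ℂ) ≠ 0 := Nat.cast_ne_zero.2 (Fact.out : p.Prime).ne_zero
  rw [Nat.card_prod] at hFI
  push_cast at hFI ⊢
  rw [show ((p : ℂ) * (Nat.card R : ℂ) * (Nat.card C : ℂ))⁻¹ =
    (p : ℂ)⁻¹ * ((Nat.card R : ℂ) * (Nat.card C : ℂ))⁻¹ by rw [mul_assoc, mul_inv], mul_assoc, hFI,
    ← mul_assoc, inv_mul_cancel₀ hp0, one_mul]

/-- The main claim. -/
theorem gen_idem (h : PC p U C) {i : MonoidAlgebra O G} (hi : i * i = i)
    (hif : i ∈ fixA O ((U : Set G) ∪ C)) :
    IsGeneralizedCharacter (U × C) fun q => S.T i q.1 q.2 := by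
  classical
  induction hn : Nat.card U using Nat.strong_induction_on generalizing U i with
  | _ n ih =>
  subst hn
  have IH : ∀ R, R < U → ∀ j : MonoidAlgebra O G, j * j = j → j ∈ fixA O ((R : Set G) ∪ C) →
      IsGeneralizedCharacter (R × C) fun q => S.T j q.1 q.2 := fun R hR j hj hjf => by
    refine ih (Nat.card R) ?_ (h.mono hR.le) hj hjf rfl
    exact card_lt_of_lt' hR
  have hlU : ∀ q : U × C, Local p (q.1 : G) (q.2 : G) := fun q => h.localAt q.1.2 q.2.2
  refine idem_induction (k := k) (redFix D ((U : Set G) ∪ C))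
    (fun e he h0 => Subtype.ext (idem_eq_zero D (congrArg Subtype.val he) (congrArg Subtype.val h0)))
    (P := fun j : fixA O ((U : Set G) ∪ C) =>
      IsGeneralizedCharacter (U × C) fun q => S.T (j : MonoidAlgebra O G) q.1 q.2)
    ?_ (fun j hj => ?_) (fun e e' he he' h1 h2 a b => ?_)
    (i := ⟨i, hif⟩) (Subtype.ext hi)
  · simp only [ZeroMemClass.coe_zero, S.T_zero (hlU _)]
    exact isGenChar_zero
  · by_cases hb : br U (red D (j : MonoidAlgebra O G)) = 0
    · exact S.gen_of_br_zero h hj hb IH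
    · exact S.gen_of_br_ne h hj hb
  · convert isGenChar_add a b using 1
    funext q
    simp only [Pi.add_apply, Subalgebra.coe_add]
    exact S.T_add (hlU q) (congrArg Subtype.val he) (h.fix q.1.2 q.2.2 e.2)
      (congrArg Subtype.val he') (h.fix q.1.2 q.2.2 e'.2) (congrArg Subtype.val h1)
      (congrArg Subtype.val h2)

/-- A class function with the prescribed local values is a generalized character. -/
theorem gen_global {θ : G → ℂ} (hθ : IsClassFunction G θ)
    (hloc : ∀ x c, Local p x c → θ (x * c) =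
      ∑ a ∈ S.PD.pr (Subgroup.zpowers x), S.W a x * S.ι (val S.χ x c (S.PD.e a))) :
    IsGeneralizedCharacter G θ := by
  classical
  refine isGenChar_of_elementary hθ fun E q hq hE => ?_
  haveI := isNilpotent_of_elementary hq hE
  set P : Sylow p E := default
  haveI : (P : Subgroup E).Normal :=
    ((Group.isNilpotent_of_finite_tfae (G := E)).out 0 3 rfl rfl).mp inferInstance p inferInstance P
  obtain ⟨K, hK⟩ := Subgroup.exists_right_complement'_of_coprime P.card_coprime_index
  have hKcard : Nat.card K = (P : Subgroup E).index := (hK.symm.index_eq_card).symm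
  set U := (P : Subgroup E).map E.subtype with hUdef
  set C := K.map E.subtype with hCdef
  have hKp : ∀ c : E, c ∈ K → ¬ p ∣ orderOf c := fun c hc hd => by
    have h1 : orderOf c ∣ Nat.card K := by
      rw [← Subgroup.orderOf_mk c hc]; exact orderOf_dvd_natCard _
    rw [hKcard] at h1
    exact P.not_dvd_index (hd.trans h1)
  have h : PC p U C := by
    refine ⟨P.2.map _, ?_, ?_⟩
    · rintro _ ⟨c, hc, rfl⟩
      rw [show orderOf (E.subtype c) = orderOf c from
        orderOf_injective E.subtype E.subtype_injective c]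
      exact hKp c hc
    · rintro _ ⟨x, hx, rfl⟩ _ ⟨c, hc, rfl⟩
      rw [← map_mul, ← map_mul]
      congr 1
      refine (CfsgLib.commute_of_nilpotent x c ?_).eq
      obtain ⟨a, ha⟩ := P.2 ⟨x, hx⟩
      have hxp : x ^ p ^ a = 1 := congrArg Subtype.val ha
      exact ((((Fact.out : p.Prime).coprime_iff_not_dvd.2 (hKp c hc)).pow_left a)).coprime_dvd_left
        (orderOf_dvd_of_pow_eq_one hxp)
  have hgen := S.gen_idem h (one_mul 1) (one_mem _)
  have hmem : ∀ q : U × C, (q.1 : G) * q.2 ∈ E := fun q =>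
    E.mul_mem (Subgroup.map_subtype_le _ q.1.2) (Subgroup.map_subtype_le _ q.2.2)
  let f₀ : U × C →* E := h.mulHom.codRestrict E hmem
  have hf₀ : Function.Bijective f₀ := by
    refine (Fintype.bijective_iff_injective_and_card _).2 ⟨?_, ?_⟩
    · rw [injective_iff_map_eq_one]
      rintro ⟨x, c⟩ hq
      have h1 : (x : G) * c = 1 := congrArg Subtype.val hq
      obtain ⟨xe, hxe, hx'⟩ := x.2
      obtain ⟨ce, hce, hc'⟩ := c.2
      have h2 : xe * ce = 1 := E.subtype_injective (by rw [map_mul, hx', hc', h1, map_one])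
      have h3 : xe ∈ (P : Subgroup E) ⊓ K :=
        ⟨hxe, by rw [eq_inv_of_mul_eq_one_left h2]; exact K.inv_mem hce⟩
      rw [hK.disjoint.eq_bot, Subgroup.mem_bot] at h3
      refine Prod.ext (Subtype.ext ?_) (Subtype.ext ?_)
      · rw [← hx', h3]; rfl
      · have h4 : ce = 1 := by rwa [h3, one_mul] at h2
        rw [← hc', h4]; rfl
    · rw [← Nat.card_eq_fintype_card, ← Nat.card_eq_fintype_card, Nat.card_prod,
        Subgroup.card_map_of_injective E.subtype_injective,
        Subgroup.card_map_of_injective E.subtype_injective]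
      exact hK.card_mul
  have h2 := isGenChar_comp' hgen (MulEquiv.ofBijective f₀ hf₀).symm.toMonoidHom
  convert h2 using 1
  funext e
  obtain ⟨q, rfl⟩ := (MulEquiv.ofBijective f₀ hf₀).surjective e
  simp only [MulEquiv.coe_toMonoidHom, MulEquiv.symm_apply_apply]
  rw [S.T_one (h.localAt q.1.2 q.2.2)]
  exact hloc _ _ (h.localAt q.1.2 q.2.2)

end Setup

end CfsgLib.Blocks.Star
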