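import Mathlib

/-!
# Lifting idempotents over a local domain, and local trace functionals
-/

namespace CfsgLib.Blocks.Star

open Polynomial

set_option linter.unusedVariables false
set_option linter.unusedSectionVars false

variable {O k : Type*} [CommRing O] [Field k]

/-- A residue map of a local ring over which monic polynomials split. -/
structure LocRed (O k : Type*) [CommRing O] [Field k] where
  r : O →+* k
  surj : Function.Surjective r
  unit : ∀ a, r a ≠ 0 → IsUnit a
  split : ∀ q : O[X], q.Monic → ∃ s : Multiset O, q = (s.map fun a => X - C a).prod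

theorem exists_coprime_factor (D : LocRed O k) (s : Multiset O) :
    ∃ q₀ q₁ a b : O[X], ∃ m : ℕ, (s.map fun z => X - C z).prod = q₀ * q₁ ∧
      a * q₀ + b * q₁ = 1 ∧ q₀.map D.r = X ^ m ∧ D.r (q₁.coeff 0) ≠ 0 := by
  classical
  set s₀ := s.filter fun z => D.r z = 0 with h₀
  set s₁ := s.filter fun z => ¬ D.r z = 0 with h₁
  have hprod : (s.map fun z => X - C z).prod =
      (s₀.map fun z => X - C z).prod * (s₁.map fun z => X - C z).prod := by
    conv_lhs => rw [← Multiset.filter_add_not (fun z => D.r z = 0) s]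
    rw [Multiset.map_add, Multiset.prod_add]
  have hcop : ∀ (t₀ t₁ : Multiset O), (∀ z ∈ t₀, D.r z = 0) → (∀ z ∈ t₁, D.r z ≠ 0) →
      IsCoprime ((t₀.map fun z => X - C z).prod) ((t₁.map fun z => X - C z).prod) := by
    intro t₀ t₁ ht₀ ht₁
    induction t₀ using Multiset.induction_on with
    | empty => simp [isCoprime_one_left]
    | @cons z t ih =>
      rw [Multiset.map_cons, Multiset.prod_cons]
      refine IsCoprime.mul_left ?_ (ih fun y hy => ht₀ y (Multiset.mem_cons_of_mem hy))
      clear ih
      induction t₁ using Multiset.induction_on with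
      | empty => simp [isCoprime_one_right]
      | @cons y t' ih' =>
        rw [Multiset.map_cons, Multiset.prod_cons]
        refine IsCoprime.mul_right ?_ (ih' fun w hw => ht₁ w (Multiset.mem_cons_of_mem hw))
        refine isCoprime_X_sub_C_of_isUnit_sub (D.unit _ ?_)
        rw [map_sub, ht₀ z (Multiset.mem_cons_self z t), zero_sub]
        exact neg_ne_zero.2 (ht₁ y (Multiset.mem_cons_self y t'))
  obtain ⟨a, b, hab⟩ := hcop s₀ s₁ (fun z hz => (Multiset.mem_filter.1 hz).2)
    (fun z hz => (Multiset.mem_filter.1 hz).2)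
  refine ⟨_, _, a, b, Multiset.card s₀, hprod, hab, ?_, ?_⟩
  · rw [Polynomial.map_multiset_prod, Multiset.map_map]
    have : s₀.map (Polynomial.map D.r ∘ fun z => X - C z) = s₀.map fun _ => (X : k[X]) :=
      Multiset.map_congr rfl fun z hz => by
        simp [(Multiset.mem_filter.1 hz).2]
    rw [this, Multiset.map_const', Multiset.prod_replicate]
  · rw [coeff_zero_eq_eval_zero, eval_multiset_prod, map_multiset_prod, Multiset.map_map,
      Multiset.map_map]
    refine Multiset.prod_ne_zero fun h => ?_
    obtain ⟨z, hz, hz0⟩ := Multiset.mem_map.1 h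
    simp only [Function.comp_apply, eval_sub, eval_X, eval_C, zero_sub, map_neg, neg_eq_zero] at hz0
    exact (Multiset.mem_filter.1 hz).2 hz0

variable {A : Type*} [Ring A] [Algebra O A] {S : Type*} [Ring S]

/-- Lifting of idempotents in a corner, with the inverse of `x` on the lift. -/
theorem lift_idem (D : LocRed O k) (φ : A →+* S)
    (hφ : ∀ a, D.r a = 0 → φ (algebraMap O A a) = 0) {x i : A} (hx : IsIntegral O x)
    (hi : i * i = i) (h1 : i * x = x) (h2 : x * i = x) :
    ∃ e w : A, e * e = e ∧ i * e = e ∧ e * i = e ∧ i * w = w ∧ w * i = w ∧ x * w = e ∧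
      w * x = e ∧ e * w = w ∧ w * e = w ∧
      (φ x * φ x = φ x → φ e = φ x) ∧ (e = 0 → IsNilpotent (φ x)) := by
  classical
  obtain ⟨q, hqm, hq0⟩ := hx
  rw [← aeval_def] at hq0
  obtain ⟨s, hs⟩ := D.split q hqm
  obtain ⟨q₀, q₁, a, b, m, hq, hab, hmap, hc⟩ := exists_coprime_factor D s
  rw [← hs] at hq
  obtain ⟨c, hcu⟩ := D.unit _ hc
  set P : A := aeval x (a * q₀) with hP
  have hxi : Commute x i := h2.trans h1.symm
  have hev : ∀ f : O[X], Commute (aeval x f) i := fun f => by
    induction f using Polynomial.induction_on' with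
    | add f g hf hg => rw [map_add]; exact hf.add_left hg
    | monomial n z =>
      rw [aeval_monomial]
      exact (Algebra.commute_algebraMap_left z i).mul_left (hxi.pow_left n)
  have hxx : ∀ f : O[X], Commute x (aeval x f) := fun f => by
    have h := congrArg (aeval x) (mul_comm (X : O[X]) f)
    rw [map_mul, map_mul, aeval_X] at h
    exact h
  have hcom : ∀ f g : O[X], Commute (aeval x f) (aeval x g) := fun f g => by
    show aeval x f * aeval x g = aeval x g * aeval x f
    rw [← map_mul, mul_comm, map_mul]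
  have hab' : P + aeval x (b * q₁) = 1 := by rw [hP, ← map_add, hab, map_one]
  have hPP : P * P = P := by
    have h0 : P * aeval x (b * q₁) = 0 := by
      rw [hP, ← map_mul, show a * q₀ * (b * q₁) = a * b * (q₀ * q₁) by ring, ← hq, map_mul, hq0,
        mul_zero]
    calc P * P = P * P + P * aeval x (b * q₁) := by rw [h0, add_zero]
      _ = P := by rw [← mul_add, hab', mul_one]
  set e := P * i with he
  have hPi : Commute P i := hev _
  have hee : e * e = e := by
    rw [he, mul_assoc, ← mul_assoc i, ← hPi.eq, mul_assoc P i i, hi, ← mul_assoc, hPP]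
  have hie : i * e = e := by rw [he, ← mul_assoc, ← hPi.eq, mul_assoc, hi]
  have hei : e * i = e := by rw [he, mul_assoc, hi]
  have hxe : Commute x e := (hxx _).mul_right hxi
  -- the inverse
  have hdec : aeval x q₁ = algebraMap O A (c : O) + x * aeval x q₁.divX := by
    conv_lhs => rw [← X_mul_divX_add q₁]
    rw [map_add, map_mul, aeval_X, aeval_C, hcu, add_comm]
  have hq1e : aeval x q₁ * e = 0 := by
    rw [he, ← mul_assoc, hP, ← map_mul, show q₁ * (a * q₀) = a * (q₀ * q₁) by ring, ← hq, map_mul,
      hq0, mul_zero, zero_mul]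
  set w : A := -(algebraMap O A (↑c⁻¹ : O) * (aeval x q₁.divX * e)) with hw
  have hxw : x * w = e := by
    rw [hdec, add_mul, mul_assoc x, add_eq_zero_iff_neg_eq] at hq1e
    rw [hw, mul_neg, ← mul_assoc x, ← (Algebra.commute_algebraMap_left (↑c⁻¹ : O) x).eq, mul_assoc,
      ← hq1e, mul_neg, neg_neg, ← mul_assoc, ← map_mul, Units.inv_mul, map_one, one_mul]
  have hwx : w * x = e := by
    rw [← hxw]
    refine Commute.eq ?_
    rw [hw]
    exact (((Algebra.commute_algebraMap_left _ x)).mul_left
      (((hxx _).symm).mul_left hxe.symm)).neg_left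
  have hwe : w * e = w := by
    rw [hw, neg_mul, mul_assoc, mul_assoc, hee]
  have hew : e * w = w := by
    have hce : Commute e w := by
      rw [hw]
      refine ((Algebra.commute_algebraMap_right _ e).mul_right ?_).neg_right
      exact ((((hcom _ _).mul_left (hev _).symm))).mul_right (Commute.refl e)
    rw [hce.eq, hwe]
  refine ⟨e, w, hee, hie, hei, ?_, ?_, hxw, hwx, hew, hwe, fun hid => ?_, fun he0 => ?_⟩
  · rw [← hew, ← mul_assoc, hie]
  · conv_lhs => rw [← hwe, mul_assoc, hei, hwe]
  all_goals
    have hcongr : ∀ f g : O[X], f.map D.r = g.map D.r → φ (aeval x f) = φ (aeval x g) := by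
      intro f g hfg
      rw [← sub_eq_zero, ← map_sub, ← map_sub, aeval_eq_sum_range, map_sum]
      refine Finset.sum_eq_zero fun n _ => ?_
      rw [Algebra.smul_def, map_mul, hφ, zero_mul]
      rw [← coeff_map, Polynomial.map_sub, hfg, sub_self, coeff_zero]
    have hq₀ : φ (aeval x q₀) = φ x ^ m := by
      rw [hcongr q₀ (X ^ m) (by rw [hmap, Polynomial.map_pow, map_X]), aeval_X_pow, map_pow]
  · have e1 : φ (aeval x a) * φ x ^ m + φ (aeval x b) * φ (aeval x q₁) = 1 := by
      have h := congrArg (fun f => φ (aeval x f)) hab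
      simpa only [map_add, map_mul, map_one, hq₀] using h
    have e2 : φ x ^ m * φ (aeval x q₁) = 0 := by
      rw [← hq₀, ← map_mul, ← map_mul, ← hq, hq0, map_zero]
    rw [he, hP, map_mul, map_mul, map_mul, hq₀]
    rcases m with _ | m
    · rw [pow_zero, one_mul] at e2
      rw [pow_zero, mul_one, e2, mul_zero, add_zero] at e1
      rw [pow_zero, mul_one, e1, one_mul]
      have e3 : φ (algebraMap O A (c : O)) * (1 - φ x) = 0 := by
        have : φ (algebraMap O A (c : O)) = -(φ x * φ (aeval x q₁.divX)) := by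
          rw [hdec, map_add, map_mul, add_eq_zero_iff_eq_neg] at e2
          exact e2
        rw [this, ← map_mul, (hxx _).eq, map_mul, neg_mul, mul_assoc, mul_sub, mul_one, hid,
          sub_self, mul_zero, neg_zero]
      have e4 := congrArg (fun t => φ (algebraMap O A (↑c⁻¹ : O)) * t) e3
      simp only [← mul_assoc, ← map_mul, Units.inv_mul, map_one, one_mul, mul_zero,
        sub_eq_zero] at e4
      calc φ i = φ i * φ x := by rw [← e4, mul_one]
        _ = φ x := by rw [← map_mul, h1]
    · have hpow : ∀ n : ℕ, φ x ^ (n + 1) = φ x := fun n => by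
        induction n with
        | zero => rw [pow_one]
        | succ n ih => rw [pow_succ, ih, hid]
      rw [hpow] at e1 e2 ⊢
      have e5 := congrArg (fun t => φ x * t) e1
      have hxa : φ x * φ (aeval x a) = φ (aeval x a) * φ x := by
        rw [← map_mul, (hxx _).eq, map_mul]
      have hxb : φ x * φ (aeval x b) = φ (aeval x b) * φ x := by
        rw [← map_mul, (hxx _).eq, map_mul]
      simp only [mul_add, mul_one, ← mul_assoc, hxa, hxb] at e5
      rw [mul_assoc (φ (aeval x b)), e2, mul_zero, add_zero, mul_assoc, hid] at e5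
      rw [mul_assoc, ← map_mul, h2]
      exact e5
  · have e3 : i = aeval x (b * q₁) * i := by
      conv_lhs => rw [← one_mul i, ← hab', add_mul]
      rw [← he, he0, zero_add]
    have e4 : aeval x q₀ * i = 0 := by
      rw [e3, ← mul_assoc, ← map_mul, show q₀ * (b * q₁) = b * (q₀ * q₁) by ring, ← hq, map_mul,
        hq0, mul_zero, zero_mul]
    refine ⟨m + 1, ?_⟩
    have e5 := congrArg φ e4
    rw [map_mul, hq₀, map_zero] at e5
    rw [pow_succ, show φ x = φ i * φ x by rw [← map_mul, h1], ← mul_assoc]
    conv_lhs => arg 1; rw [← map_mul, h1]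
    rw [e5, zero_mul]

/-- An element congruent to the corner identity is invertible there. -/
theorem inv_corner (D : LocRed O k) (φ : A →+* S)
    (hφ : ∀ a, D.r a = 0 → φ (algebraMap O A a) = 0)
    (hdet : ∀ e, e * e = e → φ e = 0 → e = 0) {x i : A} (hx : IsIntegral O x)
    (hi : i * i = i) (h1 : i * x = x) (h2 : x * i = x) (hxi : φ x = φ i) :
    ∃ w, i * w = w ∧ w * i = w ∧ x * w = i ∧ w * x = i := by
  obtain ⟨e, w, hee, hie, hei, hiw, hwi, hxw, hwx, -, -, hid, -⟩ := lift_idem D φ hφ hx hi h1 h2
  have he : φ e = φ i := (hid (by rw [hxi, ← map_mul, hi])).trans hxi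
  have : i - e = 0 := hdet _ (by rw [mul_sub, sub_mul, sub_mul, hi, hei, hie, hee, sub_self, sub_zero])
    (by rw [map_sub, he, sub_self])
  rw [sub_eq_zero] at this
  exact ⟨w, hiw, hwi, hxw.trans this.symm, hwx.trans this.symm⟩

/-- A primitive idempotent. -/
def Prim (i : A) : Prop :=
  i * i = i ∧ i ≠ 0 ∧ ∀ e, e * e = e → i * e = e → e * i = e → e = 0 ∨ e = i

theorem prim_dich (D : LocRed O k) (φ : A →+* S)
    (hφ : ∀ a, D.r a = 0 → φ (algebraMap O A a) = 0) {x i : A} (hx : IsIntegral O x)
    (hi : Prim i) (h1 : i * x = x) (h2 : x * i = x) :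
    (∃ w, i * w = w ∧ w * i = w ∧ x * w = i ∧ w * x = i) ∨ IsNilpotent (φ x) := by
  obtain ⟨e, w, hee, hie, hei, hiw, hwi, hxw, hwx, -, -, -, hnil⟩ :=
    lift_idem D φ hφ hx hi.1 h1 h2
  rcases hi.2.2 e hee hie hei with h | h
  · exact Or.inr (hnil h)
  · exact Or.inl ⟨w, hiw, hwi, hxw.trans h, hwx.trans h⟩

/-- In a local corner some summand of the identity is invertible. -/
theorem exists_inv_of_sum (D : LocRed O k) (φ : A →+* S)
    (hφ : ∀ a, D.r a = 0 → φ (algebraMap O A a) = 0)
    (hdet : ∀ e, e * e = e → φ e = 0 → e = 0) (hint : ∀ a : A, IsIntegral O a) {i : A}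
    (hi : Prim i) {ι : Type*} (s : Finset ι) (x : ι → A)
    (hx : ∀ j ∈ s, i * x j = x j ∧ x j * i = x j) (hsum : φ (∑ j ∈ s, x j) = φ i) :
    ∃ j ∈ s, ∃ w, i * w = w ∧ w * i = w ∧ x j * w = i ∧ w * x j = i := by
  classical
  have hi0 : φ i ≠ 0 := fun h => hi.2.1 (hdet i hi.1 h)
  have hidem : ∀ n : ℕ, φ i ^ (n + 1) = φ i := fun n => by
    induction n with
    | zero => rw [pow_one]
    | succ n ih => rw [pow_succ, ih, ← map_mul, hi.1]
  -- no element with nilpotent residue has a right inverse
  have hright : ∀ a z : A, a * i = a → i * z = z → IsNilpotent (φ a) → a * z ≠ i := by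
    intro a z hai hiz ⟨n, hn⟩ h
    have key : ∀ l : ℕ, a ^ (l + 1) * z ^ (l + 1) = i := fun l => by
      induction l with
      | zero => rw [pow_one, pow_one, h]
      | succ l ih =>
        rw [pow_succ a (l + 1), pow_succ' z (l + 1), ← mul_assoc, mul_assoc (a ^ (l + 1)) a z, h,
          pow_succ a l, mul_assoc (a ^ l) a i, hai, ← pow_succ, ih]
    refine hi0 ?_
    have := congrArg φ (key n)
    rw [map_mul, map_pow, pow_succ, hn, zero_mul, zero_mul] at this
    exact this.symm
  by_contra hno
  push Not at hno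
  have hnil : ∀ t ⊆ s, IsNilpotent (φ (∑ j ∈ t, x j)) := by
    intro t
    induction t using Finset.induction_on with
    | empty => intro _; simp
    | @insert j t hj ih =>
      intro hts
      have hjs := hts (Finset.mem_insert_self j t)
      have hts' : t ⊆ s := fun l hl => hts (Finset.mem_insert_of_mem hl)
      have hbn := ih hts'
      have han : IsNilpotent (φ (x j)) :=
        (prim_dich D φ hφ (hint _) hi (hx j hjs).1 (hx j hjs).2).resolve_left
          fun ⟨w, a, b, c, d⟩ => hno j hjs w a b c d
      set a := x j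
      set b := ∑ l ∈ t, x l
      have hai : a * i = a := (hx j hjs).2
      have hia : i * a = a := (hx j hjs).1
      have hbi : b * i = b := by
        rw [Finset.sum_mul]; exact Finset.sum_congr rfl fun l hl => (hx l (hts' hl)).2
      have hib : i * b = b := by
        rw [Finset.mul_sum]; exact Finset.sum_congr rfl fun l hl => (hx l (hts' hl)).1
      rw [Finset.sum_insert hj]
      rcases prim_dich D φ hφ (hint (a + b)) hi (by rw [mul_add, hia, hib])
        (by rw [add_mul, hai, hbi]) with ⟨w, hiw, hwi, habw, -⟩ | h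
      · exfalso
        have hN : ∀ c : A, c * i = c → i * c = c → IsNilpotent (φ c) → IsNilpotent (φ (c * w)) :=
          fun c hci hic hc => by
          rcases prim_dich D φ hφ (hint (c * w)) hi (by rw [← mul_assoc, hic])
            (by rw [mul_assoc, hwi]) with ⟨v, hiv, -, hcv, -⟩ | h
          · exact absurd (by rw [← mul_assoc, hcv]) (hright c (w * v) hci (by
              rw [← mul_assoc, hiw]) hc)
          · exact h
        have ha' := hN a hai hia han
        have hb' := hN b hbi hib hbn
        have hsum' : φ (a * w) + φ (b * w) = φ i := by rw [← map_add, ← add_mul, habw]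
        have hc : Commute (φ (a * w)) (φ (b * w)) := by
          rw [eq_sub_of_add_eq' hsum']
          refine Commute.sub_right ?_ (Commute.refl _)
          show φ (a * w) * φ i = φ i * φ (a * w)
          rw [← map_mul, ← map_mul, mul_assoc, hwi, ← mul_assoc, hia]
        obtain ⟨n, hn⟩ := hc.isNilpotent_add ha' hb'
        rw [hsum'] at hn
        exact hi0 (by rw [← hidem n, pow_succ, hn, zero_mul])
      · exact h
  obtain ⟨n, hn⟩ := hnil s subset_rfl
  rw [hsum] at hn
  exact hi0 (by rw [← hidem n, pow_succ, hn, zero_mul])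

/-- Induction along orthogonal decompositions of idempotents. -/
theorem idem_induction {B : Type*} [Ring B] [Algebra k B] [FiniteDimensional k B] (φ : A →+* B)
    (hdet : ∀ e, e * e = e → φ e = 0 → e = 0) {P : A → Prop} (h0 : P 0)
    (hprim : ∀ i, Prim i → P i)
    (hadd : ∀ e e', e * e = e → e' * e' = e' → e * e' = 0 → e' * e = 0 → P e → P e' → P (e + e'))
    {i : A} (hi : i * i = i) : P i := by
  suffices ∀ n : ℕ, ∀ i : A, i * i = i →
      Module.finrank k (LinearMap.range (LinearMap.mulLeft k (φ i))) ≤ n → P i from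
    this _ i hi le_rfl
  intro n
  induction n with
  | zero =>
    intro i hi h
    rw [Nat.le_zero, Submodule.finrank_eq_zero, LinearMap.range_eq_bot] at h
    have h1 := LinearMap.congr_fun h 1
    simp only [LinearMap.mulLeft_apply, mul_one, LinearMap.zero_apply] at h1
    rw [hdet i hi h1]; exact h0
  | succ n ih =>
    intro i hi hle
    by_cases hi0 : i = 0
    · rw [hi0]; exact h0
    by_cases hp : Prim i
    · exact hprim i hp
    · have hex : ∃ e, e * e = e ∧ i * e = e ∧ e * i = e ∧ e ≠ 0 ∧ e ≠ i := by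
        by_contra hc
        push Not at hc
        exact hp ⟨hi, hi0, fun e a b c => or_iff_not_imp_left.2 (hc e a b c)⟩
      obtain ⟨e, hee, hie, hei, he0, hne⟩ := hex
      have hlt : ∀ e, e * e = e → i * e = e → e * i = e → e ≠ i →
          Module.finrank k (LinearMap.range (LinearMap.mulLeft k (φ e))) ≤ n := by
        intro e hee hie hei hne
        refine Nat.le_of_lt_succ (lt_of_lt_of_le (Submodule.finrank_lt_finrank_of_lt ?_) hle)
        refine lt_of_le_of_ne ?_ fun h => ?_
        · rintro _ ⟨y, rfl⟩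
          refine ⟨φ e * y, ?_⟩
          simp only [LinearMap.mulLeft_apply, ← mul_assoc, ← map_mul, hie]
        · have hmem : φ i ∈ LinearMap.range (LinearMap.mulLeft k (φ i)) := ⟨1, by simp⟩
          rw [← h] at hmem
          obtain ⟨y, hy⟩ := hmem
          simp only [LinearMap.mulLeft_apply] at hy
          have h1 : φ e = φ i := by
            conv_lhs => rw [← hei, map_mul, ← hy, ← mul_assoc, ← map_mul, hee, hy]
          refine hne (sub_eq_zero.1 (hdet _ ?_ (by rw [map_sub, h1, sub_self]))).symm
          rw [mul_sub, sub_mul, sub_mul, hi, hei, hie, hee, sub_self, sub_zero]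
      have h1 : (i - e) * (i - e) = i - e := by
        rw [mul_sub, sub_mul, sub_mul, hi, hei, hie, hee, sub_self, sub_zero]
      have h2 := ih e hee (hlt e hee hie hei hne)
      have h3 := ih (i - e) h1 (hlt (i - e) h1 (by rw [mul_sub, hi, hie])
        (by rw [sub_mul, hi, hei]) (fun h => he0 (by simpa using h)))
      have := hadd e (i - e) hee h1 (by rw [mul_sub, hei, hee, sub_self])
        (by rw [sub_mul, hie, hee, sub_self]) h2 h3
      rwa [add_sub_cancel] at this

open Matrix in
theorem exists_vecMulVec {n : Type*} [Fintype n] [DecidableEq n] (P : Matrix n n k)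
    (hP : P * P = P) (h0 : P ≠ 0)
    (hprim : ∀ y, P * y * P * (P * y * P) = P * y * P → P * y * P = 0 ∨ P * y * P = P) :
    ∃ v g : n → k, P = vecMulVec v g ∧ g ⬝ᵥ v = 1 := by
  obtain ⟨j, hj⟩ : ∃ j, P *ᵥ Pi.single j 1 ≠ 0 := by
    by_contra hc
    push Not at hc
    refine h0 (Matrix.ext fun a b => ?_)
    simpa using congrFun (hc b) a
  set v := P *ᵥ Pi.single j 1 with hv
  have hPv : P *ᵥ v = v := by rw [hv, mulVec_mulVec, hP]
  obtain ⟨l, hl⟩ := Function.ne_iff.1 hj
  set g₀ : n → k := Pi.single l (v l)⁻¹ with hg₀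
  have hg₀v : g₀ ⬝ᵥ v = 1 := by
    rw [hg₀, single_dotProduct, inv_mul_cancel₀ hl]
  set g := g₀ ᵥ* P with hg
  have hgv : g ⬝ᵥ v = 1 := by rw [hg, ← dotProduct_mulVec, hPv, hg₀v]
  have hQ : P * vecMulVec v g₀ * P = vecMulVec v g := by
    rw [mul_vecMulVec, hPv, vecMulVec_mul]
  have hidem : vecMulVec v g * vecMulVec v g = vecMulVec v g := by
    rw [vecMulVec_mul_vecMulVec, hgv, one_smul]
  refine ⟨v, g, ?_, hgv⟩
  rcases hprim (vecMulVec v g₀) (by rw [hQ, hidem]) with h | h
  · exfalso
    rw [hQ] at h
    have := congrArg (fun X => X *ᵥ v) h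
    simp only [vecMulVec_mulVec, hgv, zero_mulVec] at this
    exact hj (by simpa using this)
  · exact (hQ.symm.trans h).symm

section Traces

variable {ι : Type*} [Fintype ι] [DecidableEq ι] {d : ι → ℕ} [∀ l, NeZero (d l)]

/-- The corner matrix unit of the factor `l`. -/
def unitAt (k : Type*) [Field k] (l : ι) : Π l, Matrix (Fin (d l)) (Fin (d l)) k :=
  Pi.single l (Matrix.single (0 : Fin (d l)) 0 (1 : k))

open Matrix in
/-- Primitive idempotents map to rank one idempotents of one factor. -/
theorem prim_rank_one (D : LocRed O k) (π : A →+* Π l, Matrix (Fin (d l)) (Fin (d l)) k)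
    (hs : Function.Surjective π) (hπ : ∀ a, D.r a = 0 → π (algebraMap O A a) = 0)
    (hint : ∀ a : A, IsIntegral O a) (hdet : ∀ e, e * e = e → π e = 0 → e = 0) {j : A}
    (hj : Prim j) :
    ∃ (l : ι) (a b : A), π (a * b) = π j ∧ π (b * a) = unitAt k l ∧
      ∀ l', (π j l').trace = if l' = l then 1 else 0 := by
  set P := π j with hPdef
  have hPP : P * P = P := by rw [hPdef, ← map_mul, hj.1]
  have hdich : ∀ y, P * y * P * (P * y * P) = P * y * P → P * y * P = 0 ∨ P * y * P = P := by
    intro y hy
    obtain ⟨z, rfl⟩ := hs y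
    have e1 : π (j * z * j) = P * π z * P := by rw [map_mul, map_mul]
    obtain ⟨e, w, hee, hie, hei, -, -, -, -, -, -, hid, -⟩ := lift_idem D π hπ
      (hint (j * z * j)) hj.1 (by rw [← mul_assoc, ← mul_assoc, hj.1])
      (by rw [mul_assoc (j * z), hj.1])
    rcases hj.2.2 e hee hie hei with h | h
    · left; rw [← e1, ← hid (by rw [e1]; exact hy), h, map_zero]
    · right; rw [← e1, ← hid (by rw [e1]; exact hy), h]
  obtain ⟨l, hl⟩ : ∃ l, P l ≠ 0 := by
    by_contra hc
    push Not at hc
    exact hj.2.1 (hdet j hj.1 (funext hc))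
  have hPl : ∀ y : Matrix (Fin (d l)) (Fin (d l)) k,
      P * Pi.single l y * P = Pi.single l (P l * y * P l) := fun y => by
    funext l'
    by_cases h : l' = l
    · subst h; simp
    · simp [h]
  have hoff : P = Pi.single l (P l) := by
    have hlP : P l * P l = P l := congrFun hPP l
    rcases hdich (Pi.single l 1) (by rw [hPl, mul_one, hlP, ← Pi.single_mul, hlP]) with h | h
    · exfalso
      rw [hPl, mul_one, hlP, Pi.single_eq_zero_iff] at h
      exact hl h
    · rw [hPl, mul_one, hlP] at h; exact h.symm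
  obtain ⟨v, g, hvg, hgv⟩ := exists_vecMulVec (P l) (congrFun hPP l) hl fun y hy => by
    rcases hdich (Pi.single l y) (by rw [hPl, ← Pi.single_mul, hy]) with h | h <;> rw [hPl] at h
    · exact Or.inl (Pi.single_eq_zero_iff.1 h)
    · exact Or.inr (by simpa using congrFun h l)
  obtain ⟨a, ha⟩ := hs (Pi.single l (vecMulVec v (Pi.single (0 : Fin (d l)) 1)))
  obtain ⟨b, hb⟩ := hs (Pi.single l (vecMulVec (Pi.single (0 : Fin (d l)) 1) g))
  refine ⟨l, a, b, ?_, ?_, fun l' => ?_⟩
  · rw [map_mul, ha, hb, ← Pi.single_mul, vecMulVec_mul_vecMulVec, single_dotProduct]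
    simp only [Pi.single_eq_same, mul_one, one_smul, ← hvg, ← hoff]
  · rw [map_mul, ha, hb, ← Pi.single_mul, vecMulVec_mul_vecMulVec, hgv, one_smul, unitAt,
      ← Matrix.single_eq_single_vecMulVec_single]
  · by_cases h : l' = l
    · subst h
      rw [if_pos rfl, hvg, trace_vecMulVec, dotProduct_comm, hgv]
    · rw [if_neg h, hoff, Pi.single_eq_of_ne h, trace_zero]

/-- A trace functional killing nilpotents is determined by the corner matrix units. -/
theorem trace_ext {B : Type*} [Ring B] [Algebra k B]
    (π : B →ₐ[k] Π l, Matrix (Fin (d l)) (Fin (d l)) k) (hs : Function.Surjective π)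
    (hker : ∀ x, π x = 0 → IsNilpotent x) (L : B →ₗ[k] k) (htr : ∀ a b, L (a * b) = L (b * a))
    (hnil : ∀ x, IsNilpotent x → L x = 0)
    (h11 : ∀ l, ∃ e, π e = unitAt k l ∧ L e = 0) : L = 0 := by
  classical
  have hcongr : ∀ x y, π x = π y → L x = L y := fun x y h => by
    rw [← sub_eq_zero, ← map_sub, hnil _ (hker _ (by rw [map_sub, h, sub_self]))]
  choose E hE using fun (l : ι) (a b : Fin (d l)) => hs (Pi.single l (Matrix.single a b (1 : k)))
  have hab : ∀ l a b, L (E l a b) = 0 := by
    intro l a b
    have e1 : π (E l a 0 * E l 0 b) = π (E l a b) := by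
      rw [map_mul, hE, hE, hE, ← Pi.single_mul, Matrix.single_mul_single_same, mul_one]
    rw [← hcongr _ _ e1, htr]
    by_cases h : a = b
    · subst h
      obtain ⟨e, he, hLe⟩ := h11 l
      rw [← hLe]
      refine hcongr _ _ ?_
      rw [map_mul, hE, hE, ← Pi.single_mul, Matrix.single_mul_single_same, mul_one, he]; rfl
    · rw [← map_zero L]
      refine hcongr _ _ ?_
      rw [map_mul, hE, hE, ← Pi.single_mul, Matrix.single_mul_single_of_ne _ _ _ _ (Ne.symm h),
        Pi.single_zero, map_zero]
  refine LinearMap.ext fun x => ?_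
  rw [hcongr x (∑ l, ∑ a, ∑ b, π x l a b • E l a b), map_sum]
  · simp [map_sum, map_smul, hab]
  · simp only [map_sum, map_smul, hE]
    funext l a b
    rw [Finset.sum_apply, Matrix.sum_apply, Finset.sum_eq_single l]
    · simp [Finset.sum_apply, Matrix.sum_apply, Matrix.single_apply, ite_and]
    · intro l' _ h
      simp [Finset.sum_apply, Matrix.sum_apply, Ne.symm h]
    · simp

end Traces

end CfsgLib.Blocks.Star
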