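import Cfsg.Agent.Lib.Blocks.Star.Rel

/-!
# Local values of idempotents at commuting `p`- and `p'`-elements
-/

namespace CfsgLib.Blocks.Star

open MonoidAlgebra

set_option linter.unusedVariables false
set_option linter.unusedSectionVars false
set_option linter.unusedSimpArgs false

universe u w

variable {O k : Type*} [CommRing O] [IsDomain O] [Field k] {D : LocRed O k}
  {G : Type u} [Group G] [Fintype G] {p : ℕ} [Fact p.Prime] [CharP k p]

theorem commute_of_supp {R : Type*} [CommRing R] {S : Set G} {y z : MonoidAlgebra R G}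
    (hy : ∀ g, g ∉ S → y.coeff g = 0) (hz : ∀ h ∈ S, cj h z = z) : y * z = z * y := by
  refine ext_coeff fun g => ?_
  rw [coeff_mul_sum, coeff_mul_apply_right, Finsupp.sum_fintype _ _ (fun h => mul_zero _)]
  refine Finset.sum_congr rfl fun h _ => ?_
  by_cases hh : h ∈ S
  · conv_rhs => rw [← hz h hh, coeff_cj, mul_comm]
    group
  · rw [hy h hh]; simp

theorem br_cj_map {R : Type*} [CommRing R] (Q : Subgroup G) (t : G) (y : MonoidAlgebra R G) :
    br (Q.map (MulAut.conj t).toMonoidHom) (cj t y) = cj t (br Q y) := by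
  have hC : ∀ g, g ∈ Subgroup.centralizer ((Q.map (MulAut.conj t).toMonoidHom : Subgroup G) : Set G) ↔
      t⁻¹ * g * t ∈ Subgroup.centralizer (Q : Set G) := by
    intro c
    constructor
    · intro h q hq
      have := h (t * q * t⁻¹) ⟨q, hq, by simp⟩
      calc q * (t⁻¹ * c * t) = t⁻¹ * (t * q * t⁻¹ * c) * t := by group
        _ = t⁻¹ * (c * (t * q * t⁻¹)) * t := by rw [this]
        _ = t⁻¹ * c * t * q := by group
    · rintro h _ ⟨q, hq, rfl⟩
      simp only [MulEquiv.coe_toMonoidHom, MulAut.conj_apply]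
      calc t * q * t⁻¹ * c = t * (q * (t⁻¹ * c * t)) * t⁻¹ := by group
        _ = t * (t⁻¹ * c * t * q) * t⁻¹ := by rw [h q hq]
        _ = c * (t * q * t⁻¹) := by group
  refine ext_coeff fun g => ?_
  rw [coeff_cj]
  by_cases hg : t⁻¹ * g * t ∈ Subgroup.centralizer (Q : Set G)
  · rw [coeff_br_mem _ _ ((hC g).2 hg), coeff_br_mem Q _ hg, coeff_cj]
  · rw [coeff_br_notMem _ _ (mt (hC g).1 hg), coeff_br_notMem Q _ hg]

variable (D) in
/-- Idempotents attached to Brauer pairs, abstractly. -/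
structure PairData (p : ℕ) (G : Type u) [Group G] [Fintype G] (X : Type w) where
  pr : Subgroup G → Finset X
  e : X → MonoidAlgebra O G
  supp : ∀ Q, ∀ a ∈ pr Q, ∀ g, g ∉ Subgroup.centralizer (Q : Set G) → (e a).coeff g = 0
  inv : ∀ Q, ∀ a ∈ pr Q, ∀ g ∈ Subgroup.centralizer (Q : Set G), cj g (e a) = e a
  idem : ∀ Q, ∀ a ∈ pr Q, e a * e a = e a
  orth : ∀ Q, ∀ a ∈ pr Q, ∀ b ∈ pr Q, a ≠ b → e a * e b = 0
  sum_one : ∀ Q, ∑ a ∈ pr Q, e a = 1
  conj : G → X → X
  conj_inv : ∀ t a, conj t⁻¹ (conj t a) = a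
  conj_mem : ∀ t Q, ∀ a ∈ pr Q, conj t a ∈ pr (Q.map (MulAut.conj t).toMonoidHom)
  conj_e : ∀ t Q, ∀ a ∈ pr Q, e (conj t a) = cj t (e a)
  below : Subgroup G → X → Subgroup G → X
  below_mem : ∀ U : Subgroup G, IsPGroup p U → ∀ f ∈ pr U, ∀ Q ≤ U, below U f Q ∈ pr Q
  below_self : ∀ U : Subgroup G, IsPGroup p U → ∀ f ∈ pr U, below U f U = f
  below_stab : ∀ U : Subgroup G, IsPGroup p U → ∀ f ∈ pr U, ∀ Q ≤ U, ∀ t ∈ U,
    t ∈ Subgroup.normalizer (Q : Set G) → conj t (below U f Q) = below U f Q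
  below_step : ∀ U : Subgroup G, IsPGroup p U → ∀ f ∈ pr U, ∀ Q S, Q ≤ S → S ≤ U →
    S ≤ Subgroup.normalizer (Q : Set G) →
    red D (e (below U f S)) * br S (red D (e (below U f Q))) = red D (e (below U f S))

/-- A `p`-element and a commuting `p'`-element. -/
structure Local (p : ℕ) (x c : G) : Prop where
  pel : ∃ a : ℕ, orderOf x = p ^ a
  reg : ¬ p ∣ orderOf c
  comm : Commute x c

/-- The set whose fixed algebra carries the local values. -/
def lset (x c : G) : Set G := (Subgroup.zpowers x : Set G) ∪ Subgroup.zpowers c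

theorem lset_left (x c : G) : (Subgroup.zpowers x : Set G) ⊆ lset x c := Set.subset_union_left

theorem mem_lfix {R : Type*} [CommRing R] {x c : G} {z : MonoidAlgebra R G} :
    z ∈ fixA R (lset x c) ↔ cj x z = z ∧ cj c z = z := by
  rw [mem_fixA]
  refine ⟨fun h => ⟨h x (Or.inl (Subgroup.mem_zpowers x)), h c (Or.inr (Subgroup.mem_zpowers c))⟩,
    fun h s hs => ?_⟩
  rcases hs with hs | hs
  · exact fix_zpowers h.1 hs
  · exact fix_zpowers h.2 hs

theorem Local.isPGroup {x c : G} (h : Local p x c) : IsPGroup p (Subgroup.zpowers x) := by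
  obtain ⟨a, ha⟩ := h.pel
  exact IsPGroup.iff_card.2 ⟨a, by rw [Nat.card_zpowers, ha]⟩

theorem Local.mem_cent {x c : G} (h : Local p x c) :
    c ∈ Subgroup.centralizer (Subgroup.zpowers x : Set G) := by
  rintro _ ⟨n, rfl⟩
  exact (h.comm.zpow_left n).eq

theorem Local.self_cent {x c : G} (h : Local p x c) :
    x ∈ Subgroup.centralizer (Subgroup.zpowers x : Set G) := by
  rintro _ ⟨n, rfl⟩
  exact ((Commute.refl x).zpow_left n).eq

theorem Local.map_conj {x c : G} (h : Local p x c) (t : G) :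
    Local p (t * x * t⁻¹) (t * c * t⁻¹) := by
  refine ⟨?_, ?_, ?_⟩
  · rw [show orderOf (t * x * t⁻¹) = orderOf x from (MulAut.conj t).orderOf_eq x]; exact h.pel
  · rw [show orderOf (t * c * t⁻¹) = orderOf c from (MulAut.conj t).orderOf_eq c]; exact h.reg
  · show t * x * t⁻¹ * (t * c * t⁻¹) = t * c * t⁻¹ * (t * x * t⁻¹)
    calc t * x * t⁻¹ * (t * c * t⁻¹) = t * (x * c) * t⁻¹ := by group
      _ = t * (c * x) * t⁻¹ := by rw [h.comm.eq]
      _ = _ := by group

theorem MaxIn.not_mem_gen {x : G} {R : Subgroup G} (h : MaxIn p (Subgroup.zpowers x) R) :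
    x ∉ R := by
  intro hx
  have h2 : Nat.card (Subgroup.zpowers x) ≤ Nat.card R :=
    Subgroup.card_le_of_le (Subgroup.zpowers_le.2 hx)
  have h3 : 0 < Nat.card R := Nat.card_pos
  have h4 := h.card
  have := (Fact.out : p.Prime).two_le
  nlinarith

variable {χ : G → O}

/-- The value at `x c` of an element. -/
noncomputable def val (χ : G → O) (x c : G) (i : MonoidAlgebra O G) : O :=
  tau χ (single (x * c) 1 * i)

theorem val_add (x c : G) (i j : MonoidAlgebra O G) :
    val χ x c (i + j) = val χ x c i + val χ x c j := by rw [val, mul_add, map_add]; rfl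

theorem val_sub (x c : G) (i j : MonoidAlgebra O G) :
    val χ x c (i - j) = val χ x c i - val χ x c j := by rw [val, mul_sub, map_sub]; rfl

theorem single_comm {x c : G} {z : MonoidAlgebra O G} (hz : z ∈ fixA O (lset x c)) :
    single (x * c) (1 : O) * z = z * single (x * c) 1 := by
  rw [← cj_eq_iff, ← cj_cj, (mem_lfix.1 hz).2, (mem_lfix.1 hz).1]

theorem val_cj (hχ : ∀ g h, χ (h * g * h⁻¹) = χ g) (t x c : G) (i : MonoidAlgebra O G) :
    val χ (t * x * t⁻¹) (t * c * t⁻¹) (cj t i) = val χ x c i := by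
  rw [val, val, ← tau_cj hχ t (single (x * c) 1 * i), cj_mul, cj_single]
  congr 3
  group

section

variable (D) (hχ : ∀ g h, χ (h * g * h⁻¹) = χ g)
  (hsep : ∀ z : O, (∀ n : ℕ, (p : O) ^ n ∣ z) → z = 0)

include hχ hsep in
/-- Idempotents killed by the Brauer map have vanishing values. -/
theorem val_zero {x c : G} (hl : Local p x c) {i : MonoidAlgebra O G} (hi : i * i = i)
    (hif : i ∈ fixA O (lset x c)) (hbr : br (Subgroup.zpowers x) (red D i) = 0) :
    val χ x c i = 0 := by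
  classical
  by_cases hx1 : x = 1
  · subst hx1
    rw [Subgroup.zpowers_one_eq_bot, br_bot] at hbr
    rw [idem_eq_zero D hi hbr, val, mul_zero, map_zero]
  set U := Subgroup.zpowers x with hU
  set C := Subgroup.zpowers c with hCdef
  have hCreg : ∀ d ∈ C, ¬ p ∣ orderOf d := fun d hd h =>
    hl.reg (h.trans (orderOf_dvd_of_mem_zpowers hd))
  have hUC : ∀ a ∈ U, ∀ d ∈ C, a * d = d * a := by
    rintro _ ⟨n, rfl⟩ _ ⟨m, rfl⟩
    exact ((hl.comm.zpow_left n).zpow_right m).eq
  set f : G → O := fun g => sec0 D ((red D i).coeff g) with hf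
  have hfix : ∀ s ∈ lset x c, ∀ g, f (s * g * s⁻¹) = f g := fun s hs g => by
    simp only [hf]
    congr 1
    conv_lhs => rw [← mem_fixA.1 (red_fix D hif) s hs, coeff_cj]
    group
  obtain ⟨s, y, z, hs, hsum⟩ := exists_trace_decomp hl.isPGroup hCreg hUC f
    (fun a ha => hfix a (Or.inl ha)) (fun a ha => hfix a (Or.inr ha)) (fun g hg => by
      have := congrArg (fun w => w.coeff g) hbr
      simp only [coeff_br_mem U _ hg, coeff_zero, Finsupp.coe_zero, Pi.zero_apply] at this
      simp only [hf, this, sec0_zero])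
  set Y₁ : MonoidAlgebra O G := ∑ R ∈ s, ofFn (y R) with hY₁
  set Z₁ : MonoidAlgebra O G := ∑ R ∈ s, ofFn (z R) with hZ₁
  have hZred : red D Z₁ = red D i := by
    refine ext_coeff fun g => ?_
    rw [coeff_red, hZ₁, coeff_sum, Finsupp.finsetSum_apply]
    simp only [coeff_ofFn, hsum g, hf, r_sec0]
  have hfixfn : ∀ (t : G) (F : G → O), (∀ g, F (t * g * t⁻¹) = F g) → cj t (ofFn F) = ofFn F :=
    fun t F h => ext_coeff fun g => by
      rw [coeff_cj, coeff_ofFn, coeff_ofFn, ← h (t⁻¹ * g * t)]; group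
  have hcY : cj c Y₁ = Y₁ := by
    rw [hY₁, cj_sum]
    exact Finset.sum_congr rfl fun R hR =>
      hfixfn _ _ ((hs R hR).2.1 c (Or.inr (Subgroup.mem_zpowers c)))
  have hxpY : cj (x ^ p) Y₁ = Y₁ := by
    rw [hY₁, cj_sum]
    exact Finset.sum_congr rfl fun R hR =>
      hfixfn _ _ ((hs R hR).2.1 _ (Or.inl ((hs R hR).1.pow x (Subgroup.mem_zpowers x))))
  have hZfix : Z₁ ∈ fixA O (lset x c) := by
    rw [mem_fixA]
    intro t ht
    rw [hZ₁, cj_sum]
    exact Finset.sum_congr rfl fun R hR => hfixfn _ _ ((hs R hR).2.2.1 t ht)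
  have htr : ∑ j ∈ Finset.range p, cj (x ^ j) Y₁ = Z₁ := by
    simp only [hY₁, cj_sum]
    rw [Finset.sum_comm]
    refine Finset.sum_congr rfl fun R hR => ext_coeff fun g => ?_
    rw [coeff_sum, Finsupp.finsetSum_apply]
    simp only [coeff_cj, coeff_ofFn]
    exact (hs R hR).2.2.2 x (Subgroup.mem_zpowers x) (hs R hR).1.not_mem_gen g
  set iF : fixA O (lset x c) := ⟨i, hif⟩ with hiF
  set X₀ : fixA O (lset x c) := iF * ⟨Z₁, hZfix⟩ * iF with hX₀
  have hii : iF * iF = iF := Subtype.ext hi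
  obtain ⟨w, -, -, hxw, -⟩ := inv_corner D (redFix D (lset x c))
    (fun a ha => Subtype.ext (red_algebraMap D ha))
    (fun e he h => Subtype.ext (idem_eq_zero D (congrArg Subtype.val he) (congrArg Subtype.val h)))
    (isIntegral_fix X₀) hii (by rw [hX₀, ← mul_assoc, ← mul_assoc, hii])
    (by rw [hX₀, mul_assoc (iF * _), hii]) (Subtype.ext (by
      show red D (i * Z₁ * i) = red D i
      rw [map_mul, map_mul, hZred, ← map_mul, ← map_mul, hi, hi]))
  set g := x * c with hg
  let S : (MonoidAlgebra O G)ˣ :=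
    ⟨single g 1, single g⁻¹ 1, single_mul_inv g, single_inv_mul g⟩
  set Y : MonoidAlgebra O G := i * Y₁ * i * (w : MonoidAlgebra O G) with hY
  have hi_cj : ∀ t ∈ lset x c, cj t i = i := mem_fixA.1 hif
  have hw_cj : ∀ t ∈ lset x c, cj t (w : MonoidAlgebra O G) = w := mem_fixA.1 w.2
  have hgj : ∀ j : ℕ, ∀ Z : MonoidAlgebra O G, cj c Z = Z → cj (g ^ j) Z = cj (x ^ j) Z := fun j Z hZ => by
    rw [hg, hl.comm.mul_pow, ← cj_cj, fix_zpowers hZ ⟨(j : ℤ), zpow_natCast c j⟩]
  have hYc : cj c Y = Y := by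
    have hc' : c ∈ lset x c := Or.inr (Subgroup.mem_zpowers c)
    rw [hY, cj_mul, cj_mul, cj_mul, hi_cj c hc', hcY, hw_cj c hc']
  refine twisted_zero hsep (tau χ) (tau_mul_comm hχ) S Y i hi ?_ ?_
  · show single g (1 : O) ^ p * Y = Y * single g 1 ^ p
    rw [single_pow, one_pow, ← cj_eq_iff, hgj p Y hYc]
    have hxp : x ^ p ∈ lset x c := Or.inl (Subgroup.pow_mem _ (Subgroup.mem_zpowers x) p)
    rw [hY, cj_mul, cj_mul, cj_mul, hi_cj _ hxp, hxpY, hw_cj _ hxp]
  · show i = ∑ t ∈ Finset.range p, single g (1 : O) ^ t * Y * single g⁻¹ 1 ^ t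
    have e : ∀ j : ℕ, single g (1 : O) ^ j * Y * single g⁻¹ 1 ^ j =
        i * cj (x ^ j) Y₁ * i * (w : MonoidAlgebra O G) := fun j => by
      rw [single_pow, single_pow, one_pow, inv_pow]
      show cj (g ^ j) Y = _
      have hxj : x ^ j ∈ lset x c := Or.inl (Subgroup.pow_mem _ (Subgroup.mem_zpowers x) j)
      rw [hgj j Y hYc, hY, cj_mul, cj_mul, cj_mul, hi_cj _ hxj, hw_cj _ hxj]
    simp only [e]
    rw [← Finset.sum_mul, ← Finset.sum_mul, ← Finset.mul_sum, htr]
    exact (congrArg Subtype.val hxw).symm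

include hχ hsep in
/-- Idempotents with equal Brauer images have equal values. -/
theorem val_congr {x c : G} (hl : Local p x c) {i i' : MonoidAlgebra O G} (hi : i * i = i)
    (hif : i ∈ fixA O (lset x c)) (hi' : i' * i' = i') (hif' : i' ∈ fixA O (lset x c))
    (h : br (Subgroup.zpowers x) (red D i) = br (Subgroup.zpowers x) (red D i')) :
    val χ x c i = val χ x c i' := by
  set φ := brHom D hl.isPGroup (lset_left x c) with hφ
  let I : fixA O (lset x c) := ⟨i, hif⟩
  let I' : fixA O (lset x c) := ⟨i', hif'⟩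
  have hII : I * I = I := Subtype.ext hi
  have hII' : I' * I' = I' := Subtype.ext hi'
  have hφI : φ I' = φ I := h.symm
  have hφi : φ I * φ I = φ I := by rw [← map_mul, hII]
  set X₀ : fixA O (lset x c) := I * I' * I with hX₀
  have hφX : φ X₀ = φ I := by rw [hX₀, map_mul, map_mul, hφI, hφi, hφi]
  obtain ⟨e, w, hee, hIe, heI, hIw, hwI, hxw, hwx, hew, hwe, hid, -⟩ := lift_idem D φ
    (fun a ha => brHom_algebraMap D _ _ ha) (isIntegral_fix X₀) hII
    (by rw [hX₀, ← mul_assoc, ← mul_assoc, hII]) (by rw [hX₀, mul_assoc (I * I'), hII])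
  have hφe : φ e = φ I := (hid (by rw [hφX, hφi])).trans hφX
  have hφw : φ w = φ I := by
    rw [← hφe, ← hxw, map_mul, hφX, ← map_mul, hIw]
  set e' : fixA O (lset x c) := I' * I * w * (I * I') with he'
  have hab : I * I' * (I' * I * w) = e := by
    rw [← mul_assoc, ← mul_assoc, mul_assoc I I' I', hII', ← hX₀, hxw]
  have hee' : e' * e' = e' := by
    rw [he']
    calc I' * I * w * (I * I') * (I' * I * w * (I * I'))
        = I' * I * w * (I * I' * (I' * I * w)) * (I * I') := by simp only [mul_assoc]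
      _ = I' * I * (w * e) * (I * I') := by rw [hab]; simp only [mul_assoc]
      _ = _ := by rw [hwe]
  have hφe' : φ e' = φ I := by
    simp only [he', map_mul, hφI, hφw, hφi]
  have hz : ∀ a b : fixA O (lset x c), a * a = a → b * b = b → a * b = b → b * a = b →
      φ b = φ a → val χ x c (a : MonoidAlgebra O G) = val χ x c (b : MonoidAlgebra O G) := by
    intro a b ha hb hab hba hφab
    have hd : (a - b) * (a - b) = a - b := by
      rw [mul_sub, sub_mul, sub_mul, ha, hba, hab, hb, sub_self, sub_zero]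
    have := val_zero D hχ hsep hl (congrArg Subtype.val hd) (a - b).2
      (show φ (a - b) = 0 by rw [map_sub, hφab, sub_self])
    rw [Subalgebra.coe_sub, val_sub, sub_eq_zero] at this
    exact this
  have h1 := hz I e hII hee hIe heI hφe
  have h2 := hz I' e' hII' hee' (by simp only [he', ← mul_assoc, hII'])
    (by simp only [he', mul_assoc, hII']) (hφe'.trans hφI.symm)
  have h3 : val χ x c (e : MonoidAlgebra O G) = val χ x c (e' : MonoidAlgebra O G) := by
    rw [← hab, he', val, val, Subalgebra.coe_mul, ← mul_assoc, single_comm (I * I').2, mul_assoc,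
      tau_mul_comm hχ, mul_assoc]
    rfl
  exact h1.trans (h3.trans h2.symm)

end

variable {X : Type w} (PD : PairData D p G X)

namespace PairData

theorem e_fix {x c : G} (hl : Local p x c) {a : X} (ha : a ∈ PD.pr (Subgroup.zpowers x)) :
    PD.e a ∈ fixA O (lset x c) :=
  mem_lfix.2 ⟨PD.inv _ a ha x hl.self_cent, PD.inv _ a ha c hl.mem_cent⟩

theorem br_e {Q : Subgroup G} {a : X} (ha : a ∈ PD.pr Q) :
    br Q (red D (PD.e a)) = red D (PD.e a) :=
  br_eq_self fun g hg => by rw [coeff_red, PD.supp Q a ha g hg, map_zero]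

theorem commute_br {Q : Subgroup G} {a : X} (ha : a ∈ PD.pr Q) (y : MonoidAlgebra k G) :
    br Q y * red D (PD.e a) = red D (PD.e a) * br Q y :=
  commute_of_supp (S := (Subgroup.centralizer (Q : Set G) : Set G))
    (fun g hg => coeff_br_notMem Q y hg) fun h hh => by rw [← red_cj, PD.inv Q a ha h hh]

/-- A subidempotent of `i` belonging to the pair `a`. -/
def Sub (x c : G) (i : MonoidAlgebra O G) (a : X) (j : MonoidAlgebra O G) : Prop :=
  j ∈ fixA O (lset x c) ∧ j * j = j ∧ i * j = j ∧ j * i = j ∧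
    br (Subgroup.zpowers x) (red D j) = br (Subgroup.zpowers x) (red D i) * red D (PD.e a)

theorem exists_sub {x c : G} (hl : Local p x c) {i : MonoidAlgebra O G} (hi : i * i = i)
    (hif : i ∈ fixA O (lset x c)) {a : X} (ha : a ∈ PD.pr (Subgroup.zpowers x)) :
    ∃ j, PD.Sub x c i a j := by
  set φ := brHom D hl.isPGroup (lset_left x c) with hφ
  let I : fixA O (lset x c) := ⟨i, hif⟩
  let E : fixA O (lset x c) := ⟨PD.e a, PD.e_fix hl ha⟩
  have hII : I * I = I := Subtype.ext hi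
  have hφE : φ E = red D (PD.e a) := PD.br_e ha
  have hcm : φ I * φ E = φ E * φ I := by rw [hφE]; exact PD.commute_br ha _
  have hX : φ (I * E * I) = φ I * red D (PD.e a) := by
    rw [map_mul, map_mul, mul_assoc, ← hcm, ← mul_assoc, ← map_mul, hII, hφE]
  obtain ⟨e, w, hee, hIe, heI, -, -, -, -, -, -, hid, -⟩ := lift_idem D φ
    (fun a ha => brHom_algebraMap D _ _ ha) (isIntegral_fix (I * E * I)) hII
    (by rw [← mul_assoc, ← mul_assoc, hII]) (by rw [mul_assoc (I * E), hII])
  have hφe := hid (by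
    rw [hX, ← hφE, mul_assoc, ← mul_assoc (φ E), ← hcm, mul_assoc (φ I), ← map_mul φ E E,
      show E * E = E from Subtype.ext (PD.idem _ a ha), ← mul_assoc, ← map_mul φ I I, hII])
  exact ⟨e, e.2, congrArg Subtype.val hee, congrArg Subtype.val hIe, congrArg Subtype.val heI,
    (hφe.trans hX : φ e = _)⟩

/-- The value of the component of `i` at the pair `a`. -/
noncomputable def phi (χ : G → O) (x c : G) (i : MonoidAlgebra O G) (a : X) : O :=
  val χ x c (Classical.epsilon (PD.Sub x c i a))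

variable (hχ : ∀ g h, χ (h * g * h⁻¹) = χ g)
  (hsep : ∀ z : O, (∀ n : ℕ, (p : O) ^ n ∣ z) → z = 0)

include hχ hsep in
theorem phi_eq {x c : G} (hl : Local p x c) {i j : MonoidAlgebra O G} (hi : i * i = i)
    (hif : i ∈ fixA O (lset x c)) {a : X} (ha : a ∈ PD.pr (Subgroup.zpowers x))
    (hj : j * j = j) (hjf : j ∈ fixA O (lset x c))
    (hbr : br (Subgroup.zpowers x) (red D j) =
      br (Subgroup.zpowers x) (red D i) * red D (PD.e a)) :
    PD.phi χ x c i a = val χ x c j := by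
  obtain ⟨h1, h2, -, -, h3⟩ := Classical.epsilon_spec (PD.exists_sub hl hi hif ha)
  exact val_congr D hχ hsep hl h2 h1 hj hjf (h3.trans hbr.symm)

include hχ hsep in
theorem phi_one {x c : G} (hl : Local p x c) {a : X} (ha : a ∈ PD.pr (Subgroup.zpowers x)) :
    PD.phi χ x c 1 a = val χ x c (PD.e a) :=
  PD.phi_eq hχ hsep hl (one_mul 1) (one_mem _) ha (PD.idem _ a ha) (PD.e_fix hl ha)
    (by rw [map_one, br_one, one_mul, PD.br_e ha])

include hχ hsep in
theorem phi_of_br_zero {x c : G} (hl : Local p x c) {i : MonoidAlgebra O G} (hi : i * i = i)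
    (hif : i ∈ fixA O (lset x c)) {a : X} (ha : a ∈ PD.pr (Subgroup.zpowers x))
    (hbr : br (Subgroup.zpowers x) (red D i) * red D (PD.e a) = 0) :
    PD.phi χ x c i a = 0 := by
  rw [PD.phi_eq hχ hsep hl hi hif ha (mul_zero 0) (zero_mem _)
    (by rw [map_zero, br_zero, hbr]), val, mul_zero, map_zero]

include hχ hsep in
theorem phi_add {x c : G} (hl : Local p x c) {i i' : MonoidAlgebra O G} (hi : i * i = i)
    (hif : i ∈ fixA O (lset x c)) (hi' : i' * i' = i') (hif' : i' ∈ fixA O (lset x c))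
    (h1 : i * i' = 0) (h2 : i' * i = 0) {a : X} (ha : a ∈ PD.pr (Subgroup.zpowers x)) :
    PD.phi χ x c (i + i') a = PD.phi χ x c i a + PD.phi χ x c i' a := by
  obtain ⟨j, hjf, hjj, hij, hji, hbr⟩ := PD.exists_sub hl hi hif ha
  obtain ⟨j', hjf', hjj', hij', hji', hbr'⟩ := PD.exists_sub hl hi' hif' ha
  have e1 : j * j' = 0 := by
    rw [← hji, ← hij', mul_assoc, ← mul_assoc i, h1, zero_mul, mul_zero]
  have e2 : j' * j = 0 := by
    rw [← hji', ← hij, mul_assoc, ← mul_assoc i', h2, zero_mul, mul_zero]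
  rw [PD.phi_eq hχ hsep hl hi hif ha hjj hjf hbr, PD.phi_eq hχ hsep hl hi' hif' ha hjj' hjf' hbr',
    ← val_add, PD.phi_eq hχ hsep hl
      (by rw [mul_add, add_mul, add_mul, hi, hi', h1, h2]; simp) (add_mem hif hif') ha
      (by rw [mul_add, add_mul, add_mul, hjj, hjj', e1, e2]; simp) (add_mem hjf hjf')
      (by rw [map_add, map_add, br_add, br_add, hbr, hbr', add_mul])]

include hχ hsep in
theorem phi_equiv {x c : G} (hl : Local p x c) {i i' α β : MonoidAlgebra O G} (hi : i * i = i)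
    (hif : i ∈ fixA O (lset x c)) (hi' : i' * i' = i') (hif' : i' ∈ fixA O (lset x c))
    (hαf : α ∈ fixA O (lset x c)) (hβf : β ∈ fixA O (lset x c))
    (h1 : α * β = i) (h2 : β * α = i') {a : X} (ha : a ∈ PD.pr (Subgroup.zpowers x)) :
    PD.phi χ x c i a = PD.phi χ x c i' a := by
  obtain ⟨j, hjf, hjj, hij, hji, hbr⟩ := PD.exists_sub hl hi hif ha
  set φ := brHom D hl.isPGroup (lset_left x c) with hφ
  let I : fixA O (lset x c) := ⟨i, hif⟩
  let J : fixA O (lset x c) := ⟨j, hjf⟩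
  let Al : fixA O (lset x c) := ⟨α, hαf⟩
  let Be : fixA O (lset x c) := ⟨β, hβf⟩
  have hj' : (β * j * α) * (β * j * α) = β * j * α := by
    calc (β * j * α) * (β * j * α) = β * (j * (α * β) * j) * α := by simp only [mul_assoc]
      _ = _ := by rw [h1, hji, hjj]
  have hbr' : φ (Be * J * Al) = br (Subgroup.zpowers x) (red D i') * red D (PD.e a) := by
    have hJ : φ J = φ I * red D (PD.e a) := hbr
    have hI' : br (Subgroup.zpowers x) (red D i') = φ (Be * Al * (Be * Al)) := by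
      show _ = br (Subgroup.zpowers x) (red D (β * α * (β * α)))
      rw [h2, hi']
    rw [hI', map_mul, map_mul, hJ, mul_assoc (φ Be), mul_assoc (φ I),
      ← show φ Al * red D (PD.e a) = red D (PD.e a) * φ Al from PD.commute_br ha _,
      show φ I = φ (Al * Be) by rw [show I = Al * Be from Subtype.ext h1.symm]]
    simp only [map_mul, mul_assoc]
  rw [PD.phi_eq hχ hsep hl hi hif ha hjj hjf hbr,
    PD.phi_eq hχ hsep hl hi' hif' ha hj' (mul_mem (mul_mem hβf hjf) hαf) hbr', val, val,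
    ← mul_assoc (single (x * c) 1) (β * j) α,
    tau_mul_comm hχ (single (x * c) 1 * (β * j)) α, ← mul_assoc α, ← single_comm hαf,
    mul_assoc (single (x * c) 1) α, ← mul_assoc α β j, h1, hij]

include hχ hsep in
theorem phi_conj {x c : G} (hl : Local p x c) {i : MonoidAlgebra O G} (hi : i * i = i)
    (hif : i ∈ fixA O (lset x c)) {a : X} (ha : a ∈ PD.pr (Subgroup.zpowers x)) (t : G) :
    PD.phi χ (t * x * t⁻¹) (t * c * t⁻¹) (cj t i) (PD.conj t a) = PD.phi χ x c i a := by
  obtain ⟨j, hjf, hjj, hij, hji, hbr⟩ := PD.exists_sub hl hi hif ha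
  have hz : Subgroup.zpowers (t * x * t⁻¹) =
      (Subgroup.zpowers x).map (MulAut.conj t).toMonoidHom :=
    (MonoidHom.map_zpowers (MulAut.conj t).toMonoidHom x).symm
  have hfix : ∀ z ∈ fixA O (lset x c), cj t z ∈ fixA O (lset (t * x * t⁻¹) (t * c * t⁻¹)) := by
    intro z hz
    rw [mem_lfix] at hz ⊢
    constructor
    · rw [cj_cj, show t * x * t⁻¹ * t = t * x by group, ← cj_cj, hz.1]
    · rw [cj_cj, show t * c * t⁻¹ * t = t * c by group, ← cj_cj, hz.2]
  rw [PD.phi_eq hχ hsep hl hi hif ha hjj hjf hbr, PD.phi_eq hχ hsep (hl.map_conj t)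
    (by rw [← cj_mul, hi]) (hfix i hif) (by rw [hz]; exact PD.conj_mem t _ a ha)
    (by rw [← cj_mul, hjj]) (hfix j hjf) ?_, val_cj hχ]
  rw [hz, red_cj, red_cj, br_cj_map, br_cj_map, PD.conj_e t _ a ha, red_cj, hbr, cj_mul]

end PairData

/-- The class function on `U × C` attached to an idempotent. -/
noncomputable def PairData.TT (ι : O →+* ℂ) (χ : G → O) (W : X → G → ℂ) (i : MonoidAlgebra O G)
    (x c : G) : ℂ :=
  ∑ a ∈ PD.pr (Subgroup.zpowers x), W a x * ι (PD.phi χ x c i a)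

theorem PairData.TT_conj (ι : O →+* ℂ) (hχ : ∀ g h, χ (h * g * h⁻¹) = χ g)
    (hsep : ∀ z : O, (∀ n : ℕ, (p : O) ^ n ∣ z) → z = 0) {W : X → G → ℂ}
    (hW : ∀ t x a, a ∈ PD.pr (Subgroup.zpowers x) → W (PD.conj t a) (t * x * t⁻¹) = W a x)
    {x c : G} (hl : Local p x c) {i : MonoidAlgebra O G} (hi : i * i = i)
    (hif : i ∈ fixA O (lset x c)) (t : G) :
    PD.TT ι χ W (cj t i) (t * x * t⁻¹) (t * c * t⁻¹) = PD.TT ι χ W i x c := by
  have hz : Subgroup.zpowers (t * x * t⁻¹) =
      (Subgroup.zpowers x).map (MulAut.conj t).toMonoidHom :=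
    (MonoidHom.map_zpowers (MulAut.conj t).toMonoidHom x).symm
  symm
  refine Finset.sum_bij (fun a _ => PD.conj t a) (fun a ha => hz ▸ PD.conj_mem t _ a ha)
    (fun a _ b _ h => by rw [← PD.conj_inv t a, h, PD.conj_inv]) (fun b hb => ?_) fun a ha => ?_
  · refine ⟨PD.conj t⁻¹ b, ?_, ?_⟩
    · have h1 := PD.conj_mem t⁻¹ _ b hb
      rw [hz, Subgroup.map_map] at h1
      have : ((MulAut.conj t⁻¹).toMonoidHom.comp (MulAut.conj t).toMonoidHom) = MonoidHom.id G := by
        ext g; simp [mul_assoc]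
      rwa [this, Subgroup.map_id] at h1
    · have h := PD.conj_inv t⁻¹ b
      rwa [inv_inv] at h
  · rw [hW t x a ha, PD.phi_conj hχ hsep hl hi hif ha t]

end CfsgLib.Blocks.Star
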