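import Cfsg.Agent.Lib.Blocks.Star.Focal
import Cfsg.Agent.Lib.Blocks.Nilpotent
import Cfsg.Agent.Lib.Blocks.CyclicArith
import Cfsg.Agent.Lib.Blocks.FirstMain

/-!
# The characters of a nilpotent block

The star construction gives a height preserving bijection with the irreducible characters of the
defect group.
-/

namespace CfsgLib.Blocks

open Cfsg CfsgLib.CharTheory
open scoped ComplexConjugate

set_option linter.unusedVariables false
set_option linter.unusedSimpArgs false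
set_option linter.style.haveILetI false
set_option linter.unusedSectionVars false
set_option maxHeartbeats 800000

universe u

variable {p : ℕ} {M : Ideal AlgInt} {G : Type u} [Group G] [Fintype G]
  {B : Set (IrrCharacter G)} {P : Subgroup G}
  {e : Set (IrrCharacter (Subgroup.centralizer (P : Set G)))}

/-! ### conjugation invariance of the pairings -/

theorem pairVal_conj {F : G → ℂ} (hF : IsClassFunction G F) (t : G) (a : BrauerPairIdx G) (g : G) :
    pairVal (conjIdx t a) F (t * g * t⁻¹) = pairVal a F g := by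
  symm
  refine Fintype.sum_equiv (MulAut.conj t).toEquiv _ _ fun h => ?_
  show _ = subgroupBlockCoeff _ (conjBlock a.1 t a.2) (t * h * t⁻¹) *
    F (t * g * t⁻¹ * (t * h * t⁻¹))
  rw [sext_conjBlock, show t * g * t⁻¹ * (t * h * t⁻¹) = t * (g * h) * t⁻¹ by group, hF]
  congr 2
  group

theorem pairT_conj {F F' : G → ℂ} (hF : IsClassFunction G F) (hF' : IsClassFunction G F') (t : G)
    (a : BrauerPairIdx G) (x : G) :
    pairT p (conjIdx t a) (t * x * t⁻¹) F F' = pairT p a x F F' := by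
  symm
  refine Finset.sum_bij' (fun c _ => t * c * t⁻¹) (fun c _ => t⁻¹ * c * t) (fun c hc => ?_)
    (fun c hc => ?_) (fun c _ => by group) (fun c _ => by group) fun c _ => ?_
  · obtain ⟨h1, h2⟩ := mem_regC.1 hc
    exact mem_regC.2 ⟨(Commute.conj_iff t).2 h1, by rwa [conj_orderOf]⟩
  · obtain ⟨h1, h2⟩ := mem_regC.1 hc
    refine mem_regC.2 ⟨(Commute.conj_iff t).1 ?_, ?_⟩
    · rwa [show t * (t⁻¹ * c * t) * t⁻¹ = c by group]
    · have := conj_orderOf t⁻¹ c
      rw [inv_inv] at this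
      rwa [this]
  · rw [show t * x * t⁻¹ * (t * c * t⁻¹) = t * (x * c) * t⁻¹ by group, pairVal_conj hF,
      pairVal_conj hF']

/-! ### inner fusion -/

theorem carries_mul_cent {a : BrauerPairIdx G} {g c : G}
    (hc : c ∈ Subgroup.centralizer (a.1 : Set G)) (hg : Carries p M P e g a) :
    Carries p M P e (g * c) a := by
  obtain ⟨Q, f⟩ := a
  have h : conjIdx c (⟨Q, f⟩ : BrauerPairIdx G) = ⟨Q, f⟩ := cent_le_pairStab Q f hc
  unfold Carries at hg ⊢
  rwa [← conjIdx_mul, h]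

theorem carries_mul_left (hM : IsPModular p M) {a : BrauerPairIdx G} {g v : G} (hv : v ∈ P)
    (hg : Carries p M P e g a) : Carries p M P e (v * g) a := by
  unfold Carries at hg ⊢
  rw [← conjIdx_mul]
  exact subpair_conj_mem hM hg hv

theorem bEl_unique (hM : IsPModular p M) (hmax : IsMaximalBrauerPair p M B P e)
    {a : BrauerPairIdx G} {x g : G} (h1 : a.1 = Subgroup.zpowers x) (hg : Carries p M P e g a) :
    bEl p M P e (g * x * g⁻¹) = conjIdx g a := by
  unfold bEl
  rw [← conjIdx_fst_zpowers h1 g]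
  exact subIdx_unique hM (a := (⟨P, e⟩ : BrauerPairIdx G)) hmax.1.1.1 hmax.1.1.2 hg

theorem conj_inner (hM : IsPModular p M) (hmax : IsMaximalBrauerPair p M B P e)
    (hnil : IsNilpotentBlock p M B) {u g : G} (hu : u ∈ P)
    (hg : Carries p M P e g (bEl p M P e u)) : ∃ v ∈ P, g * u * g⁻¹ = v * u * v⁻¹ := by
  have hF : IsBlockFusionSystemOn p M B P e (blockFusion hM hmax) :=
    ⟨hmax, fun Q φ => Iff.rfl⟩
  obtain ⟨h1, h2⟩ := subIdx_spec hM (a := (⟨P, e⟩ : BrauerPairIdx G)) hmax.1.1.1 hmax.1.1.2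
    (Q := Subgroup.zpowers u) (Subgroup.zpowers_le.2 hu)
  have hφ : conjHom (Subgroup.zpowers u) g ∈ (blockFusion hM hmax).Hom (Subgroup.zpowers u) :=
    (hF.2 _ _).2 ⟨Subgroup.zpowers_le.2 hu, g, fun _ => rfl, subpairLE_le hg, _, h2, hg⟩
  rw [hom_eq_inner_of_nilpotent hM hF hnil] at hφ
  obtain ⟨-, v, hv, hvu⟩ := hφ
  exact ⟨v, hv, hvu ⟨u, Subgroup.mem_zpowers u⟩⟩

theorem stable_of_class (hM : IsPModular p M) (hmax : IsMaximalBrauerPair p M B P e)
    (hnil : IsNilpotentBlock p M B) {η : G → ℂ}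
    (hcl : ∀ v ∈ P, ∀ x ∈ P, η (v * x * v⁻¹) = η x) : IsStableFun p M P e η := by
  intro g x a h1 ha hg
  have hx : x ∈ P := by
    have := carries_mem h1 ha
    rwa [one_mul, inv_one, mul_one] at this
  have hb : bEl p M P e x = a := by
    have := bEl_unique hM hmax h1 ha
    rwa [one_mul, inv_one, mul_one, conjIdx_one] at this
  rw [← hb] at hg
  obtain ⟨v, hv, hvx⟩ := conj_inner hM hmax hnil hx hg
  rw [hvx]
  exact hcl v hv x hx

theorem conjMap_zpowers (v u : G) :
    (Subgroup.zpowers u).map (MulAut.conj v).toMonoidHom = Subgroup.zpowers (v * u * v⁻¹) :=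
  MonoidHom.map_zpowers (MulAut.conj v).toMonoidHom u

theorem card_inf_cent_conj {v : G} (hv : v ∈ P) (u : G) :
    Nat.card (P ⊓ Subgroup.centralizer
        ((Subgroup.zpowers (v * u * v⁻¹) : Subgroup G) : Set G) : Subgroup G) =
      Nat.card (P ⊓ Subgroup.centralizer
        ((Subgroup.zpowers u : Subgroup G) : Set G) : Subgroup G) := by
  rw [← card_map_conj (P ⊓ Subgroup.centralizer
    ((Subgroup.zpowers u : Subgroup G) : Set G)) v, ← conjMap_zpowers v u]
  congr 2
  ext z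
  rw [conjMap_mem_iff, Subgroup.mem_inf, Subgroup.mem_inf]
  refine and_congr ?_ (conj_mem_cent_iff (Subgroup.zpowers u) v z)
  constructor
  · exact fun h => P.mul_mem (P.mul_mem (P.inv_mem hv) h) hv
  · intro h
    have := P.mul_mem (P.mul_mem hv h) (P.inv_mem hv)
    simpa [mul_assoc] using this

theorem card_cent_conj (v u : G) :
    Nat.card (Subgroup.centralizer ((Subgroup.zpowers (v * u * v⁻¹) : Subgroup G) : Set G)) =
      Nat.card (Subgroup.centralizer ((Subgroup.zpowers u : Subgroup G) : Set G)) := by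
  rw [← card_map_conj (Subgroup.centralizer ((Subgroup.zpowers u : Subgroup G) : Set G)) v,
    ← conjMap_zpowers v u]
  congr 2
  ext z
  rw [conjMap_mem_iff, conj_mem_cent_iff]

theorem card_centP_bEl (hM : IsPModular p M) (hmax : IsMaximalBrauerPair p M B P e)
    (hnil : IsNilpotentBlock p M B) {u : G} (hu : u ∈ P) :
    p ^ blockDefect p (bEl p M P e u).2 =
      Nat.card (P ⊓ Subgroup.centralizer
        ((Subgroup.zpowers u : Subgroup G) : Set G) : Subgroup G) := by
  obtain ⟨h1, h2⟩ := subIdx_spec hM (a := (⟨P, e⟩ : BrauerPairIdx G)) hmax.1.1.1 hmax.1.1.2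
    (Q := Subgroup.zpowers u) (Subgroup.zpowers_le.2 hu)
  obtain ⟨x, hx, hcard⟩ := exists_conj_centP hM hmax h1 h2
  have hx' : Carries p M P e x (bEl p M P e u) := hx
  obtain ⟨v, hv, hvu⟩ := conj_inner hM hmax hnil hu hx'
  have hR : ∀ R : Subgroup G, R = Subgroup.zpowers (x * u * x⁻¹) →
      Nat.card (P ⊓ Subgroup.centralizer (R : Set G) : Subgroup G) =
        Nat.card (P ⊓ Subgroup.centralizer
          ((Subgroup.zpowers u : Subgroup G) : Set G) : Subgroup G) := by
    rintro R rfl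
    rw [hvu, card_inf_cent_conj hv]
  exact hcard.trans (hR _ (conjMap_zpowers x u))

/-! ### counting the pairs of the block -/

open Classical in
/-- The elements moving a pair below `(P, e)`. -/
noncomputable def witSet (p : ℕ) (M : Ideal AlgInt) (P : Subgroup G)
    (e : Set (IrrCharacter (Subgroup.centralizer (P : Set G)))) (a : BrauerPairIdx G) : Finset G :=
  Finset.univ.filter fun g => Carries p M P e g a

theorem mem_witSet {a : BrauerPairIdx G} {g : G} :
    g ∈ witSet p M P e a ↔ Carries p M P e g a := by simp [witSet]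

/-- The weight of an element of `P`. -/
noncomputable def wtEl (P : Subgroup G) (u : G) : ℂ :=
  (Nat.card (P ⊓ Subgroup.centralizer
      ((Subgroup.zpowers u : Subgroup G) : Set G) : Subgroup G) : ℂ) *
    ((Nat.card P : ℂ) *
      (Nat.card (Subgroup.centralizer ((Subgroup.zpowers u : Subgroup G) : Set G)) : ℂ))⁻¹

theorem card_witSet (hM : IsPModular p M) (hmax : IsMaximalBrauerPair p M B P e)
    (hnil : IsNilpotentBlock p M B) {u : G} (hu : u ∈ P) :
    (witSet p M P e (bEl p M P e u)).card * Nat.card (P ⊓ Subgroup.centralizer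
        ((Subgroup.zpowers u : Subgroup G) : Set G) : Subgroup G) =
      Nat.card P * Nat.card (Subgroup.centralizer ((Subgroup.zpowers u : Subgroup G) : Set G)) := by
  classical
  set C := Subgroup.centralizer ((Subgroup.zpowers u : Subgroup G) : Set G) with hC
  set S : Finset (G × G) := Finset.univ.filter (fun z => z.1 ∈ P ∧ z.2 ∈ C) with hS
  have hScard : S.card = Nat.card P * Nat.card C := by
    rw [← Nat.card_prod, ← Nat.card_eq_finsetCard S]
    exact Nat.card_congr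
      { toFun := fun z => (⟨z.1.1, (Finset.mem_filter.1 z.2).2.1⟩,
          ⟨z.1.2, (Finset.mem_filter.1 z.2).2.2⟩)
        invFun := fun z => ⟨((z.1 : G), (z.2 : G)),
          Finset.mem_filter.2 ⟨Finset.mem_univ _, z.1.2, z.2.2⟩⟩
        left_inv := fun z => rfl
        right_inv := fun z => rfl }
  have hb := bEl_spec hM hmax hu
  have hmaps : ∀ z ∈ S, z.1 * z.2 ∈ witSet p M P e (bEl p M P e u) := by
    intro z hz
    obtain ⟨hz1, hz2⟩ := (Finset.mem_filter.1 hz).2
    rw [mem_witSet]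
    have := carries_mul_left hM hz1 (carries_mul_cent (c := z.2) hz2 hb.2.1)
    rwa [one_mul] at this
  rw [← hScard, Finset.card_eq_sum_card_fiberwise hmaps,
    Finset.sum_const_nat (m := Nat.card (P ⊓ C : Subgroup G)) fun g hg => ?_]
  obtain ⟨v, hv, hvu⟩ := conj_inner hM hmax hnil hu (mem_witSet.1 hg)
  have hc : v⁻¹ * g ∈ C := by
    refine (isCentr_zpowers u _).2 ?_
    show v⁻¹ * g * u = u * (v⁻¹ * g)
    calc v⁻¹ * g * u = v⁻¹ * (g * u * g⁻¹) * g := by group
      _ = v⁻¹ * (v * u * v⁻¹) * g := by rw [hvu]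
      _ = u * (v⁻¹ * g) := by group
  rw [← Nat.card_eq_finsetCard]
  symm
  refine Nat.card_congr
    { toFun := fun z => ⟨(v * z.1, (z.1 : G)⁻¹ * (v⁻¹ * g)), ?_⟩
      invFun := fun z => ⟨v⁻¹ * z.1.1, ?_⟩
      left_inv := fun z => Subtype.ext (by simp)
      right_inv := fun z => Subtype.ext ?_ }
  · refine Finset.mem_filter.2 ⟨Finset.mem_filter.2 ⟨Finset.mem_univ _, ?_, ?_⟩, by simp⟩
    · exact P.mul_mem hv z.2.1
    · exact C.mul_mem (C.inv_mem z.2.2) hc
  · obtain ⟨hz, hzg⟩ := Finset.mem_filter.1 z.2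
    obtain ⟨hz1, hz2⟩ := (Finset.mem_filter.1 hz).2
    refine ⟨P.mul_mem (P.inv_mem hv) hz1, ?_⟩
    have hg' : z.1.1 * z.1.2 = g := hzg
    rw [show v⁻¹ * z.1.1 = v⁻¹ * g * z.1.2⁻¹ from
      calc v⁻¹ * z.1.1 = v⁻¹ * (z.1.1 * z.1.2) * z.1.2⁻¹ := by group
        _ = v⁻¹ * g * z.1.2⁻¹ := by rw [hg']]
    exact C.mul_mem hc (C.inv_mem hz2)
  · obtain ⟨hz, hzg⟩ := Finset.mem_filter.1 z.2
    refine Prod.ext (by simp) ?_
    show (v⁻¹ * z.1.1)⁻¹ * (v⁻¹ * g) = z.1.2
    have hg' : z.1.1 * z.1.2 = g := hzg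
    calc (v⁻¹ * z.1.1)⁻¹ * (v⁻¹ * g) = z.1.1⁻¹ * g := by group
      _ = z.1.1⁻¹ * (z.1.1 * z.1.2) := by rw [hg']
      _ = z.1.2 := inv_mul_cancel_left _ _

theorem sum_witSet_wt (hM : IsPModular p M) (hmax : IsMaximalBrauerPair p M B P e)
    (hnil : IsNilpotentBlock p M B) {a : BrauerPairIdx G} {x : G}
    (h1 : a.1 = Subgroup.zpowers x) (ha : IsBrauerPairOf p M B a.1 a.2) :
    ∑ g ∈ witSet p M P e a, wtEl P (g * x * g⁻¹) = 1 := by
  classical
  obtain ⟨g₀, hg₀⟩ := (carries_iff_pairOf hM hmax).2 ha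
  have hu : g₀ * x * g₀⁻¹ ∈ P := carries_mem h1 hg₀
  have hb := bEl_unique hM hmax h1 hg₀
  set u := g₀ * x * g₀⁻¹ with hudef
  have hiff : ∀ g, g ∈ witSet p M P e a ↔ g * g₀⁻¹ ∈ witSet p M P e (bEl p M P e u) := by
    intro g
    rw [mem_witSet, mem_witSet, hb, carries_conj, inv_mul_cancel_right]
  have hcard : (witSet p M P e a).card = (witSet p M P e (bEl p M P e u)).card := by
    refine Finset.card_bij' (fun g _ => g * g₀⁻¹) (fun g _ => g * g₀) (fun g hg => (hiff g).1 hg)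
      (fun g hg => ?_) (fun g _ => inv_mul_cancel_right g g₀) (fun g _ => mul_inv_cancel_right g g₀)
    rw [hiff, mul_inv_cancel_right]
    exact hg
  rw [Finset.sum_congr rfl fun g hg => show wtEl P (g * x * g⁻¹) = wtEl P u by
    obtain ⟨v, hv, hvu⟩ := conj_inner hM hmax hnil hu (mem_witSet.1 ((hiff g).1 hg))
    rw [show g * x * g⁻¹ = v * u * v⁻¹ by rw [← hvu, hudef]; group]
    unfold wtEl
    rw [card_inf_cent_conj hv, card_cent_conj], Finset.sum_const, nsmul_eq_mul, hcard, wtEl,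
    ← mul_assoc, ← Nat.cast_mul, card_witSet hM hmax hnil hu, Nat.cast_mul,
    mul_inv_cancel₀ (mul_ne_zero (Nat.cast_ne_zero.2 Nat.card_pos.ne')
      (Nat.cast_ne_zero.2 Nat.card_pos.ne'))]

variable [Fintype P]

/-- The pairs of a block are counted by the elements of the defect group, given suitable weights. -/
theorem sum_block_pairs (hM : IsPModular p M) (hmax : IsMaximalBrauerPair p M B P e) (w : G → ℂ)
    (hw : ∀ (a : BrauerPairIdx G) (x : G), a.1 = Subgroup.zpowers x →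
      IsBrauerPairOf p M B a.1 a.2 → ∑ g ∈ witSet p M P e a, w (g * x * g⁻¹) = 1)
    (Φ : G → BrauerPairIdx G → ℂ)
    (hinv : ∀ t x a, a ∈ pairsAt M (Subgroup.zpowers x) →
      Φ (t * x * t⁻¹) (conjIdx t a) = Φ x a)
    (hoff : ∀ x, ∀ a ∈ pairsAt M (Subgroup.zpowers x), (∃ k, orderOf x = p ^ k) →
      ¬ IsBrauerPairOf p M B a.1 a.2 → Φ x a = 0) :
    ∑ x ∈ qElts G p, ∑ a ∈ pairsAt M (Subgroup.zpowers x), Φ x a =
      (Nat.card G : ℂ) * ∑ u : P, w u * Φ u (bEl p M P e u) := by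
  classical
  haveI : Fact p.Prime := ⟨hM.1⟩
  have hR : (Nat.card G : ℂ) * ∑ u : P, w u * Φ u (bEl p M P e u) =
      ∑ z ∈ (Finset.univ : Finset G) ×ˢ (Finset.univ : Finset P), w z.2 *
        Φ (z.1⁻¹ * z.2 * z.1) (conjIdx z.1⁻¹ (bEl p M P e z.2)) := by
    rw [Finset.sum_product, Nat.card_eq_fintype_card, ← Finset.card_univ, ← nsmul_eq_mul,
      ← Finset.sum_const]
    refine Finset.sum_congr rfl fun g _ => Finset.sum_congr rfl fun u _ => ?_
    have := hinv g⁻¹ u _ (bEl_spec hM hmax u.2).1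
    rw [inv_inv] at this
    rw [this]
  have hL : ∑ x ∈ qElts G p, ∑ a ∈ pairsAt M (Subgroup.zpowers x), Φ x a =
      ∑ x ∈ qElts G p, ∑ a ∈ pairsAt M (Subgroup.zpowers x), ∑ g ∈ witSet p M P e a,
        w (g * x * g⁻¹) * Φ x a := by
    refine Finset.sum_congr rfl fun x hx => Finset.sum_congr rfl fun a ha => ?_
    rw [← Finset.sum_mul]
    by_cases hp : IsBrauerPairOf p M B a.1 a.2
    · rw [hw a x (mem_pairsAt.1 ha).1 hp, one_mul]
    · rw [hoff x a ha (mem_qElts.1 hx) hp, mul_zero]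
  rw [hR, hL]
  simp only [Finset.sum_sigma']
  refine Finset.sum_bij'
    (fun z hz => (z.2.2, (⟨z.2.2 * z.1 * z.2.2⁻¹, ?_⟩ : P)))
    (fun z _ => ⟨z.1⁻¹ * z.2 * z.1, conjIdx z.1⁻¹ (bEl p M P e z.2), z.1⟩)
    (fun z _ => Finset.mem_product.2 ⟨Finset.mem_univ _, Finset.mem_univ _⟩) (fun z _ => ?_)
    (fun z hz => ?_) (fun z _ => ?_) fun z hz => ?_
  · obtain ⟨-, h2⟩ := Finset.mem_sigma.1 hz
    obtain ⟨h2a, h2b⟩ := Finset.mem_sigma.1 h2
    exact carries_mem (mem_pairsAt.1 h2a).1 (mem_witSet.1 h2b)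
  · obtain ⟨g, u⟩ := z
    obtain ⟨k, hk⟩ := IsPGroup.iff_orderOf.1 hmax.1.1.1 u
    obtain ⟨hb1, hb2, -⟩ := bEl_spec hM hmax u.2
    have hb1' := mem_pairsAt.1 hb1
    refine Finset.mem_sigma.2 ⟨mem_qElts.2 ⟨k, ?_⟩, Finset.mem_sigma.2 ⟨mem_pairsAt.2
      ⟨?_, isPBlock_conjBlock hb1'.2 g⁻¹⟩, mem_witSet.2 ?_⟩⟩
    · have := conj_orderOf g⁻¹ (u : G)
      rw [inv_inv] at this
      show orderOf (g⁻¹ * (u : G) * g) = p ^ k
      rw [this, Subgroup.orderOf_coe, hk]
    · have := conjIdx_fst_zpowers hb1'.1 g⁻¹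
      rw [inv_inv] at this
      exact this
    · rw [carries_conj, mul_inv_cancel]
      exact hb2
  · obtain ⟨x, a, g⟩ := z
    obtain ⟨-, h2⟩ := Finset.mem_sigma.1 hz
    obtain ⟨h2a, h2b⟩ := Finset.mem_sigma.1 h2
    have hb := bEl_unique hM hmax (mem_pairsAt.1 h2a).1 (mem_witSet.1 h2b)
    simp only
    rw [show g⁻¹ * (g * x * g⁻¹) * g = x by group, hb, conjIdx_mul, inv_mul_cancel, conjIdx_one]
  · obtain ⟨g, u⟩ := z
    refine Prod.ext rfl (Subtype.ext ?_)
    show g * (g⁻¹ * (u : G) * g) * g⁻¹ = u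
    group
  · obtain ⟨x, a, g⟩ := z
    obtain ⟨-, h2⟩ := Finset.mem_sigma.1 hz
    obtain ⟨h2a, h2b⟩ := Finset.mem_sigma.1 h2
    have hb := bEl_unique hM hmax (mem_pairsAt.1 h2a).1 (mem_witSet.1 h2b)
    simp only
    rw [show g⁻¹ * (g * x * g⁻¹) * g = x by group, hb, conjIdx_mul, inv_mul_cancel, conjIdx_one]

/-- The pairs of a nilpotent block are counted by the elements of the defect group. -/
theorem sum_nilpotent_pairs (hM : IsPModular p M) (hmax : IsMaximalBrauerPair p M B P e)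
    (hnil : IsNilpotentBlock p M B) (Φ : G → BrauerPairIdx G → ℂ)
    (hinv : ∀ t x a, a ∈ pairsAt M (Subgroup.zpowers x) →
      Φ (t * x * t⁻¹) (conjIdx t a) = Φ x a)
    (hoff : ∀ x, ∀ a ∈ pairsAt M (Subgroup.zpowers x), (∃ k, orderOf x = p ^ k) →
      ¬ IsBrauerPairOf p M B a.1 a.2 → Φ x a = 0) :
    ∑ x ∈ qElts G p, ∑ a ∈ pairsAt M (Subgroup.zpowers x), Φ x a =
      (Nat.card G : ℂ) * ∑ u : P, wtEl P u * Φ u (bEl p M P e u) :=
  sum_block_pairs hM hmax (wtEl P) (fun _ _ h1 ha => sum_witSet_wt hM hmax hnil h1 ha) Φ hinv hoff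

/-! ### the contribution function -/

/-- The normalised pairing of a pair. -/
noncomputable def fPair (p : ℕ) (a : BrauerPairIdx G) (x : G) (F F' : G → ℂ) : ℂ :=
  (p : ℂ) ^ blockDefect p a.2 * (Nat.card (Subgroup.centralizer (a.1 : Set G)) : ℂ)⁻¹ *
    pairT p a x F F'

/-- The contribution of `χ` at the pair of `u`. -/
noncomputable def fEl (p : ℕ) (M : Ideal AlgInt) (P : Subgroup G)
    (e : Set (IrrCharacter (Subgroup.centralizer (P : Set G)))) (χ : IrrCharacter G) (u : G) : ℂ :=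
  fPair p (bEl p M P e u) u (χ : G → ℂ) (χ : G → ℂ)

/-- The inner product of star functions in a nilpotent block. -/
theorem classInner_nilpotent (hM : IsPModular p M) (hmax : IsMaximalBrauerPair p M B P e)
    (hnil : IsNilpotentBlock p M B) {χ : IrrCharacter G} (hχ : χ ∈ B) {η η' : G → ℂ}
    (hη : IsStableFun p M P e η) (hη' : IsStableFun p M P e η') :
    classInner (starFun p M (pairW p M P e η) (χ : G → ℂ))
        (starFun p M (pairW p M P e η') (χ : G → ℂ)) =
      (Nat.card P : ℂ)⁻¹ * ∑ u : P, η u * conj (η' u) * fEl p M P e χ u := by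
  have hcl := irr_isClassFun χ
  rw [classInner_starFun hM hcl hcl, sum_nilpotent_pairs hM hmax hnil
    (fun x a => pairW p M P e η a x * conj (pairW p M P e η' a x) *
      pairT p a x (χ : G → ℂ) (χ : G → ℂ))
    (fun t x a ha => by
      rw [pairW_conjInv hη t x a ha, pairW_conjInv hη' t x a ha, pairT_conj hcl hcl])
    (fun x a ha hx hp => by
      rw [show pairT p a x (χ : G → ℂ) (χ : G → ℂ) = 0 from Finset.sum_eq_zero fun c hc => by
        rw [pairVal_off hM hmax.1.2.1 hχ hx ha hp hc, zero_mul], mul_zero]),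
    ← mul_assoc, inv_mul_cancel₀ (Nat.cast_ne_zero.2 Nat.card_pos.ne'), one_mul, Finset.mul_sum]
  refine Finset.sum_congr rfl fun u _ => ?_
  rw [pairW_bEl hM hmax hη u.2, pairW_bEl hM hmax hη' u.2, fEl, fPair,
    ← Nat.cast_pow, card_centP_bEl hM hmax hnil u.2,
    show (bEl p M P e (u : G)).1 = Subgroup.zpowers (u : G) from rfl, wtEl, mul_inv]
  ring

theorem fEl_real (hM : IsPModular p M) (hmax : IsMaximalBrauerPair p M B P e) {χ : IrrCharacter G}
    (hχ : χ ∈ B) (h0 : dv p (χ : G → ℂ) = minDv p B) {u : G} (hu : u ∈ P) :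
    ∃ r : ℝ, 0 < r ∧ fEl p M P e χ u = (r : ℂ) := by
  have hne := pairT_ne_of_secPair hM hmax hu hχ hχ h0 (Or.inl h0)
  have hsum : pairT p (bEl p M P e u) u (χ : G → ℂ) (χ : G → ℂ) =
      ((∑ c ∈ regC p u,
        Complex.normSq (pairVal (bEl p M P e u) (χ : G → ℂ) (u * c)) : ℝ) : ℂ) := by
    rw [Complex.ofReal_sum]
    exact Finset.sum_congr rfl fun c _ => Complex.mul_conj _
  refine ⟨(p : ℝ) ^ blockDefect p (bEl p M P e u).2 *
    (Nat.card (Subgroup.centralizer ((bEl p M P e u).1 : Set G)) : ℝ)⁻¹ *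
    ∑ c ∈ regC p u, Complex.normSq (pairVal (bEl p M P e u) (χ : G → ℂ) (u * c)),
    mul_pos (mul_pos (pow_pos (Nat.cast_pos.2 hM.1.pos) _)
      (inv_pos.2 (Nat.cast_pos.2 Nat.card_pos))) (lt_of_le_of_ne
        (Finset.sum_nonneg fun c _ => Complex.normSq_nonneg _) fun h => hne ?_), ?_⟩
  · rw [hsum, ← h, Complex.ofReal_zero]
  · rw [fEl, fPair, hsum]
    push_cast
    rfl

/-! ### Galois action on the contributions -/

theorem central_pow_value {K : Type*} [Group K] [Fintype K] {z : K} (hz : z ∈ Subgroup.center K)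
    (φ : IrrCharacter K) (m : ℕ) :
    (φ : K → ℂ) (z ^ m) / (φ : K → ℂ) 1 = ((φ : K → ℂ) z / (φ : K → ℂ) 1) ^ m := by
  induction m with
  | zero => rw [pow_zero, pow_zero, div_self (irr_one_ne_zero φ)]
  | succ m ih =>
    rw [pow_succ' z m, central_value_mul hz φ (z ^ m), mul_div_assoc, ih,
      ← pow_succ' ((φ : K → ℂ) z / (φ : K → ℂ) 1) m]

theorem classInner_sec_central {H : Subgroup G} [Fintype H] (z : H)
    (hz : z ∈ Subgroup.center H) (χ : IrrCharacter G) (φ : IrrCharacter H) :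
    classInner (sec (z : G) H (χ : G → ℂ)) (φ : H → ℂ) =
      classInner (fun h : H => (χ : G → ℂ) h) (φ : H → ℂ) *
        ((φ : H → ℂ) z / (φ : H → ℂ) 1) := by
  classical
  have hexp := eq_sum_irr (isClassFunction_char (isCharacter_restrict_irr H χ))
  have hsec : sec (z : G) H (χ : G → ℂ) = ∑ ψ : IrrCharacter H,
      (classInner (fun h : H => (χ : G → ℂ) h) (ψ : H → ℂ) *
        ((ψ : H → ℂ) z / (ψ : H → ℂ) 1)) • (ψ : H → ℂ) := by
    funext c
    simp only [Finset.sum_apply, Pi.smul_apply, smul_eq_mul]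
    have h1 := congrFun hexp (z * c)
    simp only [Finset.sum_apply, Pi.smul_apply, smul_eq_mul] at h1
    refine h1.trans (Finset.sum_congr rfl fun ψ _ => ?_)
    rw [central_value_mul hz]
    ring
  rw [hsec, classInner_sum_left, Finset.sum_eq_single φ]
  · rw [classInner_smul_left, classInner_irr_self φ.2, mul_one]
  · intro ψ _ hne
    rw [classInner_smul_left, classInner_irr_ne ψ.2 φ.2 (fun h => hne (Subtype.ext h)), mul_zero]
  · exact fun h => absurd (Finset.mem_univ φ) h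

theorem secPair_galois (hM : IsPModular p M) {u : G} {H : Subgroup G} [Fintype H]
    (hH : IsCentr u H) {N : ℕ} (hN : N ≠ 0) (huN : u ^ N = 1) {b : Set (IrrCharacter H)}
    (hb : IsPBlock M b) (χ : IrrCharacter G) :
    ∃ w : rootField N, (w : ℂ) = secPair p u b (χ : G → ℂ) (χ : G → ℂ) ∧
      ∀ (σ : rootField N →ₐ[ℚ] ℂ) (m : ℕ),
        (∀ y : rootField N, (y : ℂ) ^ N = 1 → σ y = (y : ℂ) ^ m) →
          σ w = secPair p (u ^ m) b (χ : G → ℂ) (χ : G → ℂ) := by
  classical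
  set z : H := ⟨u, hH.self_mem⟩ with hzdef
  have hz : z ∈ Subgroup.center H :=
    Subgroup.mem_center_iff.2 fun g => Subtype.ext ((hH g).1 g.2)
  choose n hn using fun φ : IrrCharacter H =>
    classInner_char_nat (isCharacter_restrict_irr H χ) (isCharacter_of_irr φ.2)
  set ω : IrrCharacter H → ℂ := fun φ => (φ : H → ℂ) z / (φ : H → ℂ) 1 with hω
  have hωN : ∀ φ, ω φ ^ N = 1 := fun φ => by
    rw [hω, ← central_pow_value hz φ N, show z ^ N = 1 from Subtype.ext huN,
      div_self (irr_one_ne_zero φ)]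
  have hωN' : ∀ φ, conj (ω φ) ^ N = 1 := fun φ => by rw [← map_pow, hωN, map_one]
  have hval : ∀ (m : ℕ) (φ : IrrCharacter H),
      classInner (sec (u ^ m) H (χ : G → ℂ)) (φ : H → ℂ) = (n φ : ℂ) * ω φ ^ m := by
    intro m φ
    rw [show u ^ m = ((z ^ m : H) : G) by rw [SubmonoidClass.coe_pow],
      classInner_sec_central (z ^ m) ((Subgroup.center H).pow_mem hz m), hn,
      central_pow_value hz φ m]
  refine ⟨∑ φ ∈ bset b, ∑ φ' ∈ bset b,
    ((n φ : rootField N) * ⟨ω φ, mem_rootField hN (hωN φ)⟩) *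
      ((n φ' : rootField N) * ⟨conj (ω φ'), mem_rootField hN (hωN' φ')⟩) *
      (secQ p b φ φ' : rootField N), ?_, fun σ m hσ => ?_⟩
  · rw [show secPair p u b (χ : G → ℂ) (χ : G → ℂ) =
      secPair p (u ^ 1) b (χ : G → ℂ) (χ : G → ℂ) by rw [pow_one], secPair_eq hM hb]
    push_cast
    refine Finset.sum_congr rfl fun φ _ => Finset.sum_congr rfl fun φ' _ => ?_
    rw [hval, hval, map_mul, map_natCast, pow_one, pow_one]
  · rw [secPair_eq hM hb, map_sum]
    refine Finset.sum_congr rfl fun φ _ => ?_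
    rw [map_sum]
    refine Finset.sum_congr rfl fun φ' _ => ?_
    rw [hval, hval]
    simp only [map_mul, map_natCast, map_intCast, map_pow]
    rw [hσ ⟨ω φ, mem_rootField hN (hωN φ)⟩ (hωN φ),
      hσ ⟨conj (ω φ'), mem_rootField hN (hωN' φ')⟩ (hωN' φ')]

theorem fEl_galois (hM : IsPModular p M) (hmax : IsMaximalBrauerPair p M B P e) {N : ℕ}
    (hN : N ≠ 0) (χ : IrrCharacter G) {u : G} (hu : u ∈ P) (huN : u ^ N = 1) :
    ∃ w : rootField N, (w : ℂ) = fEl p M P e χ u ∧ IsIntegral ℤ (w : ℂ) ∧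
      ∀ (σ : rootField N →ₐ[ℚ] ℂ) (m : ℕ), m.Coprime N →
        (∀ y : rootField N, (y : ℂ) ^ N = 1 → σ y = (y : ℂ) ^ m) →
          σ w = fEl p M P e χ (u ^ m) := by
  classical
  haveI : Fact p.Prime := ⟨hM.1⟩
  haveI := Fintype.ofFinite (Subgroup.centralizer ((Subgroup.zpowers u : Subgroup G) : Set G))
  obtain ⟨hm1, -⟩ := bEl_spec hM hmax hu
  obtain ⟨k, hk⟩ := IsPGroup.iff_orderOf.1 hmax.1.1.1 ⟨u, hu⟩
  rw [Subgroup.orderOf_mk] at hk
  have hblk := (mem_pairsAt.1 hm1).2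
  have hC := isCentr_zpowers u
  have hcl := irr_isClassFun χ
  have hpow : ∀ m : ℕ, m.Coprime N → Subgroup.zpowers (u ^ m) = Subgroup.zpowers u := by
    intro m hm
    refine le_antisymm (Subgroup.zpowers_le.2 (Subgroup.pow_mem _ (Subgroup.mem_zpowers u) m))
      (Subgroup.zpowers_le.2 ?_)
    obtain ⟨l, hl⟩ := exists_pow_eq_self_of_coprime
      (hm.coprime_dvd_right (orderOf_dvd_of_pow_eq_one huN))
    have h2 := Subgroup.pow_mem _ (Subgroup.mem_zpowers (u ^ m)) l
    rwa [hl] at h2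
  have hfe : ∀ m : ℕ, m.Coprime N →
      fEl p M P e χ (u ^ m) =
        fPair p (bEl p M P e u) (u ^ m) (χ : G → ℂ) (χ : G → ℂ) := fun m hm => by
    unfold fEl bEl
    rw [hpow m hm]
  have hf1 : fEl p M P e χ u = fPair p (bEl p M P e u) (u ^ 1) (χ : G → ℂ) (χ : G → ℂ) := by
    rw [pow_one]; rfl
  generalize bEl p M P e u = a at hm1 hblk hfe hf1
  obtain ⟨R, f⟩ := a
  obtain rfl : R = Subgroup.zpowers u := (mem_pairsAt.1 hm1).1
  have hsec : ∀ m : ℕ, IsCentr (u ^ m)
      (Subgroup.centralizer ((Subgroup.zpowers u : Subgroup G) : Set G)) →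
      fPair p ⟨Subgroup.zpowers u, f⟩ (u ^ m) (χ : G → ℂ) (χ : G → ℂ) =
        secPair p (u ^ m) f (χ : G → ℂ) (χ : G → ℂ) := fun m hm => pairT_eq hm hcl hcl f
  obtain ⟨w, hw, hwσ⟩ := secPair_galois hM hC hN huN hblk χ
  refine ⟨w, ?_, ?_, fun σ m hm hσ => ?_⟩
  · rw [hf1, hsec 1 (by rwa [pow_one]), pow_one, hw]
  · rw [hw]
    exact (secPair_props hM hC hk hblk χ χ).2
  · rw [hwσ σ m hσ, hfe m hm, hsec m ?_]
    have := isCentr_zpowers (u ^ m)
    rwa [hpow m hm] at this

theorem sum_fEl (hM : IsPModular p M) (hmax : IsMaximalBrauerPair p M B P e)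
    (hnil : IsNilpotentBlock p M B) {χ : IrrCharacter G} (hχ : χ ∈ B) :
    ∑ u : P, fEl p M P e χ u = (Nat.card P : ℂ) := by
  have hs : IsStableFun p M P e (fun _ => (1 : ℂ)) := fun _ _ _ _ _ _ => rfl
  have h := classInner_nilpotent hM hmax hnil hχ hs hs
  rw [classInner_starW_unit hM hmax (fun _ _ => by simp) hχ] at h
  simp only [map_one, one_mul] at h
  field_simp at h
  exact h.symm

/-- All contributions of a height zero character are one. -/
theorem fEl_eq_one (hM : IsPModular p M) (hmax : IsMaximalBrauerPair p M B P e)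
    (hnil : IsNilpotentBlock p M B) {χ : IrrCharacter G} (hχ : χ ∈ B)
    (h0 : dv p (χ : G → ℂ) = minDv p B) (u : P) : fEl p M P e χ u = 1 := by
  classical
  haveI : Fact p.Prime := ⟨hM.1⟩
  set N := Nat.card P with hNdef
  have hN : N ≠ 0 := Nat.card_pos.ne'
  haveI : NeZero N := ⟨hN⟩
  choose w hw hwi hwσ using fun v : P =>
    fEl_galois hM hmax hN χ v.2 (u := (v : G)) (by
      rw [hNdef, ← SubmonoidClass.coe_pow, pow_card_eq_one', Subgroup.coe_one])
  choose mσ hmc hmσ using fun σ : rootField N →ₐ[ℚ] ℂ => exists_pow_of_galois_hom hN σ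
  have hval : ∀ (v : P) (σ : rootField N →ₐ[ℚ] ℂ), σ (w v) = fEl p M P e χ ((v ^ mσ σ : P) : G) := fun v σ => by
    rw [SubmonoidClass.coe_pow]
    exact hwσ v σ (mσ σ) (hmc σ) (hmσ σ)
  have hpos : ∀ (v : P) (σ : rootField N →ₐ[ℚ] ℂ), ∃ r : ℝ, 0 < r ∧ σ (w v) = (r : ℂ) := fun v σ => by
    rw [hval]; exact fEl_real hM hmax hχ h0 (v ^ mσ σ : P).2
  have hσsum : ∀ σ : rootField N →ₐ[ℚ] ℂ, ∑ v : P, (σ (w v)).re = (N : ℝ) := by
    intro σ
    rw [← Complex.re_sum]
    have : ∑ v : P, σ (w v) = (N : ℂ) := by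
      rw [← sum_fEl hM hmax hnil hχ]
      exact Fintype.sum_equiv (powCoprime (hmc σ).symm) _ (fun v : P => fEl p M P e χ v)
        fun v => hval v σ
    rw [this, Complex.natCast_re]
  have htot : ∑ v : P, ∑ σ : rootField N →ₐ[ℚ] ℂ, (σ (w v)).re =
      ∑ _v : P, (Fintype.card (rootField N →ₐ[ℚ] ℂ) : ℝ) := by
    rw [Finset.sum_comm, Finset.sum_congr rfl fun σ _ => hσsum σ, Finset.sum_const,
      Finset.sum_const, Finset.card_univ, Finset.card_univ, nsmul_eq_mul, nsmul_eq_mul,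
      show (N : ℝ) = (Fintype.card P : ℝ) by rw [← Nat.card_eq_fintype_card]]
    ring
  have heq := (Finset.sum_eq_sum_iff_of_le fun v _ =>
    card_le_sum_pos (w v) (hwi v) (hpos v)).1 htot.symm u (Finset.mem_univ u)
  have h1 := eq_one_of_sum_pos (w u) (hwi u) (hpos u) heq.ge ((rootField N).val)
  exact (hw u).symm.trans h1

/-! ### the bijection -/

/-- **Broué–Puig: the characters of a nilpotent block.** -/
theorem nilpotent_param (hM : IsPModular p M) (hmax : IsMaximalBrauerPair p M B P e)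
    (hnil : IsNilpotentBlock p M B) :
    ∃ χ₀ : IrrCharacter G, χ₀ ∈ B ∧ ∃ Ψ : IrrCharacter P ≃ B, ∀ l : IrrCharacter P,
      (∀ g : G, ¬ p ∣ orderOf g → ((Ψ l : IrrCharacter G) : G → ℂ) g =
        (charDegree (l : P → ℂ) : ℂ) * (χ₀ : G → ℂ) g) ∧
      blockHeight p B ((Ψ l : IrrCharacter G) : G → ℂ) =
        (charDegree (l : P → ℂ)).factorization p := by
  classical
  haveI : Fact p.Prime := ⟨hM.1⟩
  have hB : IsPBlock M B := hmax.1.2.1
  obtain ⟨χ, hχ, h0⟩ := exists_height_zero hM hB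
  set η : IrrCharacter P → G → ℂ := fun l => sext P (l : P → ℂ) with hηdef
  have hval : ∀ (l : IrrCharacter P) (v : P), η l v = (l : P → ℂ) v := fun l v => sext_coe P _ v
  have hstab : ∀ l, IsStableFun p M P e (η l) := fun l =>
    stable_of_class hM hmax hnil fun v hv x hx => by
      have h2 := irr_isClassFun l ⟨x, hx⟩ ⟨v, hv⟩
      rw [← hval, ← hval] at h2
      exact h2
  have hinner : ∀ l l' : IrrCharacter P,
      classInner (starFun p M (pairW p M P e (η l)) (χ : G → ℂ))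
        (starFun p M (pairW p M P e (η l')) (χ : G → ℂ)) =
      classInner (l : P → ℂ) (l' : P → ℂ) := by
    intro l l'
    rw [classInner_nilpotent hM hmax hnil hχ (hstab l) (hstab l'), classInner]
    congr 1
    refine Finset.sum_congr rfl fun v _ => ?_
    rw [fEl_eq_one hM hmax hnil hχ h0 v, mul_one, hval, hval]
  have hη1 : ∀ l, η l 1 = (charDegree (l : P → ℂ) : ℂ) := fun l => by
    rw [irr_charDegree_cast l, show η l 1 = η l ((1 : P) : G) from rfl, hval]
  have hone : ∀ l, starFun p M (pairW p M P e (η l)) (χ : G → ℂ) 1 =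
      ((charDegree (l : P → ℂ) * charDegree (χ : G → ℂ) : ℕ) : ℂ) := fun l => by
    rw [starW_one hM hmax (hstab l) hχ, hη1, Nat.cast_mul, irr_charDegree_cast χ]
  have hirr : ∀ l, IsIrrCharacter G (starFun p M (pairW p M P e (η l)) (χ : G → ℂ)) := fun l => by
    refine irr_of_norm_one (starW_genChar hM hmax (hstab l) ?_ χ)
      (by rw [hinner]; exact classInner_irr_self l.2) ?_
    · rw [show (fun v : P => η l v) = (l : P → ℂ) from funext (hval l)]
      exact isGenChar_of_char (isCharacter_of_irr l.2)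
    · rw [hone, Complex.natCast_re, Nat.cast_pos]
      exact Nat.mul_pos (irr_charDegree_pos l) (irr_charDegree_pos χ)
  set T : IrrCharacter P → IrrCharacter G := fun l => ⟨_, hirr l⟩ with hTdef
  have hTv : ∀ l, (T l : G → ℂ) = starFun p M (pairW p M P e (η l)) (χ : G → ℂ) := fun l => rfl
  have hdeg : ∀ l, charDegree (T l : G → ℂ) =
      charDegree (l : P → ℂ) * charDegree (χ : G → ℂ) := fun l => by
    have h1 : (charDegree (T l : G → ℂ) : ℂ) =
        ((charDegree (l : P → ℂ) * charDegree (χ : G → ℂ) : ℕ) : ℂ) := by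
      rw [irr_charDegree_cast (T l), hTv, hone]
    exact_mod_cast h1
  have hreg : ∀ l, ∀ g : G, ¬ p ∣ orderOf g →
      (T l : G → ℂ) g = (charDegree (l : P → ℂ) : ℂ) * (χ : G → ℂ) g := fun l g hg => by
    rw [hTv, starW_regular hM hmax (hstab l) hχ hg, hη1]
  have hmem : ∀ l, T l ∈ B := fun l =>
    mem_of_regular_prop hM hB hχ (Nat.cast_ne_zero.2 (irr_charDegree_pos l).ne') (hreg l)
  have hinj : Function.Injective T := by
    intro l l' hll
    by_contra hne
    have h1 := hinner l l'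
    rw [← hTv, ← hTv, hll, classInner_irr_self (T l').2,
      classInner_irr_ne l.2 l'.2 (fun h => hne (Subtype.ext h))] at h1
    exact one_ne_zero h1
  -- surjectivity
  haveI := Fintype.ofFinite (Subgroup.centralizer ((Subgroup.zpowers (1 : G) : Subgroup G) : Set G))
  have hC := isCentr_zpowers (1 : G)
  have h1o : ∃ k : ℕ, orderOf (1 : G) = p ^ k := ⟨0, by simp⟩
  obtain ⟨hb1, -, hpair⟩ := bEl_spec hM hmax P.one_mem
  have hf1 := fEl_eq_one hM hmax hnil hχ h0 1
  rw [Subgroup.coe_one] at hf1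
  have hd := card_centP_bEl hM hmax hnil P.one_mem
  have hPC : P ⊓ Subgroup.centralizer ((Subgroup.zpowers (1 : G) : Subgroup G) : Set G) = P :=
    inf_eq_left.2 fun y _ => (hC y).2 (Commute.one_right y)
  rw [hPC] at hd
  have hdef : blockDefect p (bEl p M P e (1 : G)).2 = blockDefect p B := by
    apply Nat.pow_right_injective hM.1.two_le
    exact hd.trans (card_defectGroup hM hB (maximal_isDefectGroup hM hmax))
  have hpv : ∀ l, pairT p (bEl p M P e (1 : G)) 1 (χ : G → ℂ) (T l : G → ℂ) =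
      (charDegree (l : P → ℂ) : ℂ) *
        pairT p (bEl p M P e (1 : G)) 1 (χ : G → ℂ) (χ : G → ℂ) := by
    intro l
    unfold pairT
    rw [Finset.mul_sum]
    refine Finset.sum_congr rfl fun c hc => ?_
    rw [hTv, pairVal_starFun hM (pairW_conjInv (hstab l)) (irr_isClassFun χ) h1o hb1 hc,
      pairW_bEl hM hmax (hstab l) P.one_mem, hη1, map_mul, map_natCast]
    ring
  unfold fEl fPair at hf1
  generalize bEl p M P e (1 : G) = a at hb1 hpair hd hdef hf1 hpv
  obtain ⟨R, f⟩ := a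
  obtain rfl : R = Subgroup.zpowers (1 : G) := (mem_pairsAt.1 hb1).1
  have hind := (induced_centralizer_iff hM (isPGroup_zpowers hM.1 h1o)).2 hpair
  rw [pairT_eq hC (irr_isClassFun χ) (irr_isClassFun χ)] at hf1
  have hs : ∀ l, secPair p 1 f (χ : G → ℂ) (T l : G → ℂ) = (charDegree (l : P → ℂ) : ℂ) := by
    intro l
    rw [← pairT_eq hC (irr_isClassFun χ) (irr_isClassFun (T l)), hpv, mul_left_comm,
      pairT_eq hC (irr_isClassFun χ) (irr_isClassFun χ), hf1, mul_one]
  have hrow := sum_secPair_row hM hC h1o hind χ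
  rw [hf1, mul_one] at hrow
  have hsurj : ∀ θ ∈ B, ∃ l, T l = θ := by
    intro θ hθ
    by_contra hno
    push Not at hno
    obtain ⟨w, hw, -, hw0⟩ := secPair_div hM hC h1o hind hdef hχ hθ h0
    have hne : secPair p 1 f (χ : G → ℂ) (θ : G → ℂ) ≠ 0 := by
      rw [hw]; exact mul_ne_zero (pow_ne_zero _ (Nat.cast_ne_zero.2 hM.1.ne_zero)) hw0
    set q : IrrCharacter G → ℝ :=
      fun ψ => Complex.normSq (secPair p 1 f (χ : G → ℂ) (ψ : G → ℂ)) with hq
    have hR : ∑ ψ ∈ bset B, q ψ = (Nat.card P : ℝ) := by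
      rw [← hd]
      simp only [Complex.mul_conj] at hrow
      rw [← Complex.ofReal_sum] at hrow
      exact_mod_cast hrow
    have hI : ∑ ψ ∈ Finset.univ.image T, q ψ = (Nat.card P : ℝ) := by
      rw [Finset.sum_image fun a _ b _ h => hinj h]
      have h2 : ∑ l : IrrCharacter P, ((charDegree (l : P → ℂ) : ℕ) : ℝ) ^ 2 = (Nat.card P : ℝ) := by
        have h3 := sum_irr_degree_sq (G := P)
        simp only [← irr_charDegree_cast] at h3
        exact_mod_cast h3
      rw [← h2]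
      refine Finset.sum_congr rfl fun l _ => ?_
      rw [hq]
      simp only
      rw [hs, Complex.normSq_natCast, sq]
    have hsub : insert θ (Finset.univ.image T) ⊆ bset B := by
      intro ψ hψ
      rcases Finset.mem_insert.1 hψ with rfl | hψ
      · exact mem_bset.2 hθ
      · obtain ⟨l, -, rfl⟩ := Finset.mem_image.1 hψ
        exact mem_bset.2 (hmem l)
    have hle := Finset.sum_le_sum_of_subset_of_nonneg (f := q) hsub
      fun ψ _ _ => Complex.normSq_nonneg _
    rw [Finset.sum_insert (by simpa using hno), hI, hR] at hle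
    have : 0 < q θ := Complex.normSq_pos.2 hne
    linarith
  let T' : IrrCharacter P → B := fun l => ⟨T l, hmem l⟩
  have hbij : Function.Bijective T' := ⟨fun l l' h => hinj (congrArg Subtype.val h),
    fun θ => (hsurj θ.1 θ.2).elim fun l hl => ⟨l, Subtype.ext hl⟩⟩
  refine ⟨χ, hχ, Equiv.ofBijective T' hbij, fun l => ⟨hreg l, ?_⟩⟩
  show blockHeight p B (T l : G → ℂ) = _
  rw [blockHeight_eq, dv, hdeg, Nat.factorization_mul (irr_charDegree_pos l).ne'
    (irr_charDegree_pos χ).ne', Finsupp.add_apply, ← h0, dv, Nat.add_sub_cancel]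

theorem nilpotent_rank_one (hM : IsPModular p M) (hnil : IsNilpotentBlock p M B) :
    blockRank p B = 1 ∧ ∃ χ₀ ∈ B, ∀ χ ∈ B, ∃ d : ℕ, ∀ x : G,
      pRegularPart p (χ : G → ℂ) x = (d : ℂ) * pRegularPart p (χ₀ : G → ℂ) x := by
  classical
  obtain ⟨D, hD⟩ := exists_defectGroup hM hnil.1
  obtain ⟨c, hc⟩ := exists_maximal_at hM hnil.1 hD
  haveI := Fintype.ofFinite D
  obtain ⟨χ₀, hχ₀, Ψ, hΨ⟩ := nilpotent_param hM hc hnil
  have hkey : ∀ χ ∈ B, ∃ d : ℕ, ∀ x : G,
      pRegularPart p (χ : G → ℂ) x = (d : ℂ) * pRegularPart p (χ₀ : G → ℂ) x := by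
    intro χ hχ
    refine ⟨charDegree ((Ψ.symm ⟨χ, hχ⟩ : IrrCharacter D) : D → ℂ), fun x => ?_⟩
    have h := (hΨ (Ψ.symm ⟨χ, hχ⟩)).1 x
    rw [Equiv.apply_symm_apply] at h
    by_cases hx : IsPRegular p x
    · simp only [pRegularPart, if_pos hx]
      exact h hx
    · simp only [pRegularPart, if_neg hx, mul_zero]
  refine ⟨?_, χ₀, hχ₀, hkey⟩
  unfold blockRank
  have hspan : Submodule.span ℂ ((fun χ : IrrCharacter G => pRegularPart p (χ : G → ℂ)) '' B) =
      Submodule.span ℂ {pRegularPart p (χ₀ : G → ℂ)} := by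
    refine le_antisymm (Submodule.span_le.2 ?_) (Submodule.span_mono (by
      rintro _ rfl; exact ⟨χ₀, hχ₀, rfl⟩))
    rintro _ ⟨χ, hχ, rfl⟩
    obtain ⟨d, hd⟩ := hkey χ hχ
    exact Submodule.mem_span_singleton.2 ⟨(d : ℂ), funext fun x => (hd x).symm⟩
  rw [hspan]
  refine finrank_span_singleton fun h => irr_one_ne_zero χ₀ ?_
  have h1 := congrFun h 1
  have hr : IsPRegular p (1 : G) := by simpa [IsPRegular] using hM.1.not_dvd_one
  simpa [pRegularPart, if_pos hr] using h1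

end CfsgLib.Blocks
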