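import Cfsg.Agent.Lib.Blocks.Star.Inst
import Cfsg.Agent.Lib.Blocks.SectionBound
import Cfsg.Agent.Lib.Blocks.FongLocal

/-!
# Properties of the star construction

Block parts of sections, composition of star functions and their inner products.
-/

namespace CfsgLib.Blocks

open Cfsg CfsgLib.CharTheory
open scoped ComplexConjugate

set_option linter.unusedVariables false
set_option linter.unusedSimpArgs false
set_option linter.style.haveILetI false
set_option linter.unusedSectionVars false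
set_option maxHeartbeats 400000

universe u

variable {p : ℕ} {M : Ideal AlgInt} {G : Type u} [Group G] [Fintype G]

/-! ### linearity of block parts -/

section blockPart

variable {K : Subgroup G} [Fintype K]

theorem blockPart_linComb {ι : Type*} (s : Finset ι) (r : ι → ℂ) (g : ι → K → ℂ)
    (b : Set (IrrCharacter K)) (c : K) :
    blockPart b (∑ i ∈ s, r i • g i) c = ∑ i ∈ s, r i * blockPart b (g i) c := by
  classical
  simp only [blockPart_apply, classInner_sum_left, classInner_smul_left, Finset.sum_mul,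
    Finset.mul_sum]
  rw [Finset.sum_comm]
  exact Finset.sum_congr rfl fun i _ => Finset.sum_congr rfl fun ψ _ => by ring

theorem blockPart_congr_regular (hM : IsPModular p M) {b : Set (IrrCharacter K)}
    (hb : IsPBlock M b) {ϑ ϑ' : K → ℂ} (h : ∀ y : K, ¬ p ∣ orderOf y → ϑ y = ϑ' y) {c : K}
    (hc : ¬ p ∣ orderOf c) : blockPart b ϑ c = blockPart b ϑ' c := by
  classical
  have hU : ∀ ψ ∈ b, blockOf M (ψ : K → ℂ) ⊆ b := fun ψ hψ => (eq_blockOf hM hb hψ).ge
  rw [blockPart_regular hM hU _ hc, blockPart_regular hM hU _ hc]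
  congr 1
  exact Finset.sum_congr rfl fun y hy => by rw [h y (Finset.mem_filter.1 hy).2]

theorem blockPart_blockPart (hM : IsPModular p M) {b b' : Set (IrrCharacter K)}
    (hb : IsPBlock M b) (hb' : IsPBlock M b') (ϑ : K → ℂ) (c : K) [Decidable (b = b')] :
    blockPart b (blockPart b' ϑ) c = if b = b' then blockPart b ϑ c else 0 := by
  classical
  have e : blockPart b' ϑ =
      ∑ ψ ∈ bset b', classInner ϑ (ψ : K → ℂ) • (ψ : K → ℂ) := funext fun y => by
    rw [blockPart_apply]; simp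
  rw [e, blockPart_linComb]
  simp only [blockPart_linear]
  split_ifs with h
  · subst h
    rw [blockPart_apply]
    exact Finset.sum_congr rfl fun ψ hψ => by rw [ind_of_mem (mem_bset.1 hψ), one_mul]
  · refine Finset.sum_eq_zero fun ψ hψ => ?_
    rw [ind_of_notMem fun hψb => h ((eq_blockOf hM hb hψb).trans
      (eq_blockOf hM hb' (mem_bset.1 hψ)).symm)]
    ring

open Classical in
/-- The blocks of a group, as a finset. -/
noncomputable def blockSet (M : Ideal AlgInt) {G : Type u} [Group G] (K : Subgroup G) [Fintype K] :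
    Finset (Set (IrrCharacter K)) :=
  Finset.univ.filter fun b => IsPBlock M b

theorem mem_blockSet {b : Set (IrrCharacter K)} : b ∈ blockSet M K ↔ IsPBlock M b := by
  simp [blockSet]

theorem sum_blockSet (hM : IsPModular p M) {ϑ : K → ℂ} (hϑ : IsClassFunction K ϑ) (c : K) :
    ∑ b ∈ blockSet M K, blockPart b ϑ c = ϑ c := by
  classical
  simp only [blockPart_apply]
  conv_rhs => rw [congrFun (eq_sum_irr hϑ) c, Finset.sum_apply]
  simp only [Pi.smul_apply, smul_eq_mul]
  rw [← Finset.sum_fiberwise_of_maps_to (t := blockSet M K)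
    (g := fun ψ : IrrCharacter K => blockOf M (ψ : K → ℂ))
    (fun ψ _ => mem_blockSet.2 (blockOf_isPBlock ψ))]
  refine Finset.sum_congr rfl fun b hb => Finset.sum_congr ?_ fun _ _ => rfl
  ext ψ
  simp only [Finset.mem_filter, Finset.mem_univ, true_and, mem_bset]
  exact ⟨fun h => (eq_blockOf hM (mem_blockSet.1 hb) h).symm,
    fun h => h ▸ mem_blockOf_self hM ψ⟩

theorem sum_regular_cross (hM : IsPModular p M) {b b' : Set (IrrCharacter K)}
    (hb : IsPBlock M b) (hb' : IsPBlock M b') (hne : b ≠ b') (ϑ ϑ' : K → ℂ) :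
    ∑ c ∈ Finset.univ.filter (fun c : K => ¬ p ∣ orderOf c),
      blockPart b ϑ c * conj (blockPart b' ϑ' c) = 0 := by
  classical
  simp only [blockPart_apply, map_sum, map_mul]
  rw [Finset.sum_congr rfl fun c _ => Finset.sum_mul_sum _ _ _ _, Finset.sum_comm]
  refine Finset.sum_eq_zero fun φ hφ => ?_
  rw [Finset.sum_comm]
  refine Finset.sum_eq_zero fun φ' hφ' => ?_
  have h0 : regS p (φ : K → ℂ) (φ' : K → ℂ) = 0 := by
    refine regS_eq_zero hM fun hs => hne ?_
    rw [eq_blockOf hM hb (mem_bset.1 hφ), eq_blockOf hM hb' (mem_bset.1 hφ')]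
    exact (blockOf_eq_of_mem hM hs).symm
  rw [regS_eq_sum] at h0
  rw [Finset.sum_congr rfl fun c _ => show
    classInner ϑ (φ : K → ℂ) * (φ : K → ℂ) c *
      (conj (classInner ϑ' (φ' : K → ℂ)) * conj ((φ' : K → ℂ) c)) =
    classInner ϑ (φ : K → ℂ) * conj (classInner ϑ' (φ' : K → ℂ)) *
      ((φ : K → ℂ) c * (φ' : K → ℂ) c⁻¹) by rw [irr_inv]; ring, ← Finset.mul_sum, h0, mul_zero]

end blockPart

/-! ### values at a section -/

/-- The value at `g` attached to a pair. -/
noncomputable def pairVal (a : BrauerPairIdx G) (F : G → ℂ) (g : G) : ℂ :=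
  ∑ h : G, subgroupBlockCoeff (Subgroup.centralizer (a.1 : Set G)) a.2 h * F (g * h)

open Classical in
/-- The `p`-regular elements commuting with `x`. -/
noncomputable def regC (p : ℕ) (x : G) : Finset G :=
  Finset.univ.filter fun c => Commute x c ∧ ¬ p ∣ orderOf c

theorem mem_regC {x c : G} : c ∈ regC p x ↔ Commute x c ∧ ¬ p ∣ orderOf c := by
  simp [regC]

theorem starFun_apply (hp : p.Prime) (W : BrauerPairIdx G → G → ℂ) (F : G → ℂ) {x c : G}
    (hx : ∃ k, orderOf x = p ^ k) (hc : c ∈ regC p x) :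
    starFun p M W F (x * c) =
      ∑ a ∈ pairsAt M (Subgroup.zpowers x), W a x * pairVal a F (x * c) := by
  unfold starFun
  rw [pPartEl_eq hp (mem_regC.1 hc).1 hx (mem_regC.1 hc).2]
  rfl

theorem sec_classFun {x : G} {H : Subgroup G} (hH : IsCentr x H) {F : G → ℂ}
    (hF : IsClassFunction G F) : IsClassFunction H (sec x H F) := by
  intro a c
  show F (x * ((c * a * c⁻¹ : H) : G)) = F (x * (a : G))
  rw [← hF (x * (a : G)) (c : G)]
  congr 1
  have hcx : Commute (c : G) x := (hH c).1 c.2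
  simp only [Subgroup.coe_mul, Subgroup.coe_inv]
  rw [← mul_assoc (c : G) x, hcx.eq]
  simp only [mul_assoc]

theorem regC_iff_coe {x : G} {H : Subgroup G} (hH : IsCentr x H) {c : G} :
    c ∈ regC p x ↔ ∃ hc : c ∈ H, ¬ p ∣ orderOf (⟨c, hc⟩ : H) := by
  rw [mem_regC]
  constructor
  · rintro ⟨h1, h2⟩
    exact ⟨(hH c).2 h1.symm, by rwa [← Subgroup.orderOf_coe]⟩
  · rintro ⟨h1, h2⟩
    exact ⟨((hH c).1 h1).symm, by rwa [← Subgroup.orderOf_coe] at h2⟩

theorem sum_regC {x : G} {H : Subgroup G} [Fintype H] (hH : IsCentr x H) (Φ : G → ℂ) :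
    ∑ c ∈ regC p x, Φ c = ∑ c ∈ Finset.univ.filter (fun c : H => ¬ p ∣ orderOf c), Φ (c : G) := by
  symm
  refine Finset.sum_bij (fun (c : H) _ => (c : G)) (fun c hc => ?_)
    (fun a _ b _ h => Subtype.ext h) (fun c hc => ?_) fun c _ => rfl
  · exact (regC_iff_coe hH).2 ⟨c.2, (Finset.mem_filter.1 hc).2⟩
  · obtain ⟨h1, h2⟩ := (regC_iff_coe hH).1 hc
    exact ⟨⟨c, h1⟩, Finset.mem_filter.2 ⟨Finset.mem_univ _, h2⟩, rfl⟩

variable {x : G} {Q : Subgroup G}

theorem pairVal_eq [Fintype (Subgroup.centralizer (Q : Set G))]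
    (hC : IsCentr x (Subgroup.centralizer (Q : Set G))) {F : G → ℂ} (hF : IsClassFunction G F)
    (f : Set (IrrCharacter (Subgroup.centralizer (Q : Set G))))
    (c : Subgroup.centralizer (Q : Set G)) :
    pairVal ⟨Q, f⟩ F (x * (c : G)) =
      blockPart f (sec x (Subgroup.centralizer (Q : Set G)) F) c := by
  classical
  rw [blockPart_eq_sum f (sec_classFun hC hF) c, pairVal]
  have e : ∑ h : G, subgroupBlockCoeff (Subgroup.centralizer (Q : Set G)) f h * F (x * c * h) =
      ∑ k : Subgroup.centralizer (Q : Set G), blockCoeff f k * F (x * c * (k : G)) := by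
    symm
    refine Finset.sum_bij_ne_zero (fun k _ _ => (k : G)) (fun k _ _ => Finset.mem_univ _)
      (fun a _ _ b _ _ h => Subtype.ext h) (fun g _ hg => ?_) (fun k _ _ => ?_)
    · have hgC : g ∈ Subgroup.centralizer (Q : Set G) := by
        by_contra hn
        rw [subgroupBlockCoeff_eq, sext_off _ _ hn, zero_mul] at hg
        exact hg rfl
      refine ⟨⟨g, hgC⟩, Finset.mem_univ _, ?_, rfl⟩
      rwa [subgroupBlockCoeff_eq, show g = ((⟨g, hgC⟩ : Subgroup.centralizer (Q : Set G)) : G)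
        from rfl, sext_coe] at hg
    · rw [subgroupBlockCoeff_eq, sext_coe]
  refine e.trans (Fintype.sum_equiv (MulAut.conj c).toEquiv _ _ fun k => ?_)
  show blockCoeff f k * F (x * c * k) =
    blockCoeff f (c * k * c⁻¹) * F (x * ((c * k * c⁻¹ * c : Subgroup.centralizer (Q : Set G)) : G))
  rw [blockCoeff_isClassFunction f k c, inv_mul_cancel_right, Subgroup.coe_mul, mul_assoc x]

/-- The pairing of a pair on two functions. -/
noncomputable def pairT (p : ℕ) (a : BrauerPairIdx G) (x : G) (F F' : G → ℂ) : ℂ :=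
  ∑ c ∈ regC p x, pairVal a F (x * c) * conj (pairVal a F' (x * c))

theorem pairT_eq [Fintype (Subgroup.centralizer (Q : Set G))]
    (hC : IsCentr x (Subgroup.centralizer (Q : Set G))) {F F' : G → ℂ} (hF : IsClassFunction G F)
    (hF' : IsClassFunction G F') (f : Set (IrrCharacter (Subgroup.centralizer (Q : Set G)))) :
    (p : ℂ) ^ blockDefect p f * (Nat.card (Subgroup.centralizer (Q : Set G)) : ℂ)⁻¹ *
      pairT p ⟨Q, f⟩ x F F' = secPair p x f F F' := by
  unfold secPair pairT
  rw [sum_regC hC]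
  congr 1
  exact Finset.sum_congr rfl fun c _ => by rw [pairVal_eq hC hF, pairVal_eq hC hF']

theorem sum_pairsAt (Q : Subgroup G) [Fintype (Subgroup.centralizer (Q : Set G))]
    {R : Type*} [AddCommMonoid R] (Φ : BrauerPairIdx G → R) :
    ∑ a ∈ pairsAt M Q, Φ a =
      ∑ f ∈ blockSet M (Subgroup.centralizer (Q : Set G)), Φ ⟨Q, f⟩ := by
  classical
  symm
  refine Finset.sum_bij (fun f _ => (⟨Q, f⟩ : BrauerPairIdx G))
    (fun f hf => mem_pairsAt.2 ⟨rfl, mem_blockSet.1 hf⟩)
    (fun f _ f' _ h => eq_of_heq (Sigma.mk.inj_iff.1 h).2) (fun a ha => ?_) fun f _ => rfl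
  obtain ⟨Q', f⟩ := a
  obtain ⟨h1, h2⟩ := mem_pairsAt.1 ha
  change Q' = Q at h1
  subst h1
  exact ⟨f, mem_blockSet.2 h2, rfl⟩

theorem isPGroup_of_pElement (hp : p.Prime) (hx : ∃ k, orderOf x = p ^ k) :
    IsPGroup p (Subgroup.zpowers x) := isPGroup_zpowers hp hx

theorem sum_pairVal (hM : IsPModular p M) {F : G → ℂ} (hF : IsClassFunction G F) {c : G}
    (hc : c ∈ regC p x) :
    ∑ a ∈ pairsAt M (Subgroup.zpowers x), pairVal a F (x * c) = F (x * c) := by
  classical
  haveI := Fintype.ofFinite (Subgroup.centralizer ((Subgroup.zpowers x : Subgroup G) : Set G))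
  have hC := isCentr_zpowers x
  obtain ⟨hcC, -⟩ := (regC_iff_coe hC).1 hc
  rw [sum_pairsAt]
  rw [Finset.sum_congr rfl fun f _ => pairVal_eq hC hF f ⟨c, hcC⟩]
  exact sum_blockSet hM (sec_classFun hC hF) _

theorem pairVal_starFun (hM : IsPModular p M) {W : BrauerPairIdx G → G → ℂ}
    (hW : PairConjInv M W) {F : G → ℂ} (hF : IsClassFunction G F)
    (hx : ∃ k, orderOf x = p ^ k) {a : BrauerPairIdx G}
    (ha : a ∈ pairsAt M (Subgroup.zpowers x)) {c : G} (hc : c ∈ regC p x) :
    pairVal a (starFun p M W F) (x * c) = W a x * pairVal a F (x * c) := by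
  classical
  obtain ⟨R, f⟩ := a
  obtain ⟨h1, h2⟩ := mem_pairsAt.1 ha
  change R = Subgroup.zpowers x at h1
  subst h1
  haveI := Fintype.ofFinite (Subgroup.centralizer ((Subgroup.zpowers x : Subgroup G) : Set G))
  have hC := isCentr_zpowers x
  obtain ⟨hcC, hcr⟩ := (regC_iff_coe hC).1 hc
  have hS := starFun_classFun hM hW hF
  have e : ∀ y : G, pairVal ⟨Subgroup.zpowers x, f⟩ (starFun p M W F) (x * y) =
      pairVal ⟨Subgroup.zpowers x, f⟩ (starFun p M W F) (x * y) := fun _ => rfl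
  rw [show c = ((⟨c, hcC⟩ : Subgroup.centralizer ((Subgroup.zpowers x : Subgroup G) : Set G)) : G)
    from rfl, pairVal_eq hC hS, pairVal_eq hC hF]
  replace h2 : IsPBlock M f := h2
  rw [blockPart_congr_regular hM h2 (ϑ' := ∑ b ∈ blockSet M _,
    W ⟨Subgroup.zpowers x, b⟩ x • blockPart b (sec x _ F)) (fun y hy => ?_) hcr,
    blockPart_linComb, Finset.sum_eq_single f]
  · rw [blockPart_blockPart hM h2 h2, if_pos rfl]
  · intro b hb hne
    rw [blockPart_blockPart hM h2 (mem_blockSet.1 hb), if_neg (Ne.symm hne), mul_zero]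
  · exact fun h => absurd (mem_blockSet.2 h2) h
  · show starFun p M W F (x * (y : G)) = _
    rw [starFun_apply hM.1 W F hx ((regC_iff_coe hC).2 ⟨y.2, hy⟩), sum_pairsAt]
    simp only [Finset.sum_apply, Pi.smul_apply, smul_eq_mul]
    exact Finset.sum_congr rfl fun b _ => by rw [pairVal_eq hC hF]

theorem pairVal_off (hM : IsPModular p M) {B : Set (IrrCharacter G)} (hB : IsPBlock M B)
    {χ : IrrCharacter G} (hχ : χ ∈ B) (hx : ∃ k, orderOf x = p ^ k) {a : BrauerPairIdx G}
    (ha : a ∈ pairsAt M (Subgroup.zpowers x)) (hn : ¬ IsBrauerPairOf p M B a.1 a.2) {c : G}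
    (hc : c ∈ regC p x) : pairVal a (χ : G → ℂ) (x * c) = 0 := by
  classical
  obtain ⟨R, f⟩ := a
  obtain ⟨h1, h2⟩ := mem_pairsAt.1 ha
  change R = Subgroup.zpowers x at h1
  subst h1
  haveI := Fintype.ofFinite (Subgroup.centralizer ((Subgroup.zpowers x : Subgroup G) : Set G))
  have hC := isCentr_zpowers x
  obtain ⟨hcC, hcr⟩ := (regC_iff_coe hC).1 hc
  rw [show c = ((⟨c, hcC⟩ : Subgroup.centralizer ((Subgroup.zpowers x : Subgroup G) : Set G)) : G)
    from rfl, pairVal_eq hC (irr_isClassFun χ)]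
  exact blockPart_sec_eq_zero hM hC hx h2 hB hχ
    (fun hi => hn ((induced_centralizer_iff hM (isPGroup_zpowers hM.1 hx)).1 hi)) hcr

/-! ### global consequences -/

theorem exists_regC_decomp (hp : p.Prime) (g : G) :
    ∃ x c : G, x * c = g ∧ (∃ k, orderOf x = p ^ k) ∧ c ∈ regC p x := by
  obtain ⟨x, y, h, hc, hx, hy, -, -⟩ := exists_pPart hp g
  exact ⟨x, y, h, hx, mem_regC.2 ⟨hc, hy⟩⟩

variable {B : Set (IrrCharacter G)} {χ : IrrCharacter G}

/-- Only the pairs of the block matter. -/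
theorem starFun_congr (hM : IsPModular p M) (hB : IsPBlock M B) (hχ : χ ∈ B)
    {W W' : BrauerPairIdx G → G → ℂ}
    (h : ∀ x : G, ∀ a ∈ pairsAt M (Subgroup.zpowers x), (∃ k, orderOf x = p ^ k) →
      IsBrauerPairOf p M B a.1 a.2 → W a x = W' a x) :
    starFun p M W (χ : G → ℂ) = starFun p M W' (χ : G → ℂ) := by
  funext g
  obtain ⟨x, c, rfl, hx, hc⟩ := exists_regC_decomp hM.1 g
  rw [starFun_apply hM.1 W _ hx hc, starFun_apply hM.1 W' _ hx hc]
  refine Finset.sum_congr rfl fun a ha => ?_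
  by_cases hp : IsBrauerPairOf p M B a.1 a.2
  · rw [h x a ha hx hp]
  · rw [pairVal_off hM hB hχ hx ha hp hc, mul_zero, mul_zero]

/-- Constant values on the pairs of the block scale the character. -/
theorem starFun_section (hM : IsPModular p M) (hB : IsPBlock M B) (hχ : χ ∈ B)
    {W : BrauerPairIdx G → G → ℂ} {r : ℂ} {c : G} (hx : ∃ k, orderOf x = p ^ k)
    (hc : c ∈ regC p x)
    (h : ∀ a ∈ pairsAt M (Subgroup.zpowers x), IsBrauerPairOf p M B a.1 a.2 → W a x = r) :
    starFun p M W (χ : G → ℂ) (x * c) = r * (χ : G → ℂ) (x * c) := by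
  rw [starFun_apply hM.1 W _ hx hc, ← sum_pairVal hM (irr_isClassFun χ) hc, Finset.mul_sum]
  refine Finset.sum_congr rfl fun a ha => ?_
  by_cases hp : IsBrauerPairOf p M B a.1 a.2
  · rw [h a ha hp]
  · rw [pairVal_off hM hB hχ hx ha hp hc, mul_zero, mul_zero]

theorem starFun_one (hM : IsPModular p M) (hB : IsPBlock M B) (hχ : χ ∈ B)
    {W : BrauerPairIdx G → G → ℂ}
    (h : ∀ x : G, ∀ a ∈ pairsAt M (Subgroup.zpowers x), (∃ k, orderOf x = p ^ k) →
      IsBrauerPairOf p M B a.1 a.2 → W a x = 1) :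
    starFun p M W (χ : G → ℂ) = (χ : G → ℂ) := by
  funext g
  obtain ⟨x, c, rfl, hx, hc⟩ := exists_regC_decomp hM.1 g
  rw [starFun_section hM hB hχ hx hc fun a ha hp => h x a ha hx hp, one_mul]

/-- Composition is multiplication of the weights. -/
theorem starFun_starFun (hM : IsPModular p M) {W W' : BrauerPairIdx G → G → ℂ}
    (hW' : PairConjInv M W') {F : G → ℂ} (hF : IsClassFunction G F) :
    starFun p M W (starFun p M W' F) = starFun p M (fun a x => W a x * W' a x) F := by
  funext g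
  obtain ⟨x, c, rfl, hx, hc⟩ := exists_regC_decomp hM.1 g
  rw [starFun_apply hM.1 _ _ hx hc, starFun_apply hM.1 _ _ hx hc]
  exact Finset.sum_congr rfl fun a ha => by
    rw [pairVal_starFun hM hW' hF hx ha hc]; ring

/-- A sum over the group split by `p`-parts. -/
theorem sum_by_pPart (hp : p.Prime) (Φ : G → ℂ) :
    ∑ g, Φ g = ∑ x ∈ qElts G p, ∑ c ∈ regC p x, Φ (x * c) := by
  classical
  rw [Finset.sum_sigma']
  symm
  refine Finset.sum_bij (fun z _ => z.1 * z.2) (fun _ _ => Finset.mem_univ _)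
    (fun z hz z' hz' h => ?_) (fun g _ => ?_) fun _ _ => rfl
  · obtain ⟨x, c⟩ := z
    obtain ⟨x', c'⟩ := z'
    obtain ⟨h1, h2⟩ := Finset.mem_sigma.1 hz
    obtain ⟨h1', h2'⟩ := Finset.mem_sigma.1 hz'
    obtain ⟨e1, e2⟩ := pPart_unique hp (mem_regC.1 h2).1 (mem_regC.1 h2').1 (mem_qElts.1 h1)
      (mem_qElts.1 h1') (mem_regC.1 h2).2 (mem_regC.1 h2').2 h
    simp only at e1 e2
    subst e1; subst e2; rfl
  · obtain ⟨x, c, rfl, hx, hc⟩ := exists_regC_decomp hp g
    exact ⟨⟨x, c⟩, Finset.mem_sigma.2 ⟨mem_qElts.2 hx, hc⟩, rfl⟩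

/-- The inner product of two star functions. -/
theorem classInner_starFun (hM : IsPModular p M) {W W' : BrauerPairIdx G → G → ℂ} {F F' : G → ℂ}
    (hF : IsClassFunction G F) (hF' : IsClassFunction G F') :
    classInner (starFun p M W F) (starFun p M W' F') = (Nat.card G : ℂ)⁻¹ *
      ∑ x ∈ qElts G p, ∑ a ∈ pairsAt M (Subgroup.zpowers x),
        W a x * conj (W' a x) * pairT p a x F F' := by
  classical
  rw [classInner, sum_by_pPart hM.1]
  congr 1
  refine Finset.sum_congr rfl fun x hx => ?_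
  have hx' := mem_qElts.1 hx
  rw [Finset.sum_congr rfl fun c hc => by
    rw [starFun_apply hM.1 W F hx' hc, starFun_apply hM.1 W' F' hx' hc, map_sum,
      Finset.sum_mul_sum]]
  rw [Finset.sum_comm]
  refine Finset.sum_congr rfl fun a ha => ?_
  rw [Finset.sum_comm, Finset.sum_eq_single a]
  · rw [pairT, Finset.mul_sum]
    exact Finset.sum_congr rfl fun c _ => by rw [map_mul]; ring
  · intro b hb hne
    obtain ⟨R, f⟩ := a
    obtain ⟨R', f'⟩ := b
    obtain ⟨h1, h2⟩ := mem_pairsAt.1 ha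
    obtain ⟨h1', h2'⟩ := mem_pairsAt.1 hb
    change R = Subgroup.zpowers x at h1
    change R' = Subgroup.zpowers x at h1'
    subst h1; subst h1'
    haveI := Fintype.ofFinite
      (Subgroup.centralizer ((Subgroup.zpowers x : Subgroup G) : Set G))
    have hC := isCentr_zpowers x
    simp only [map_mul]
    rw [sum_regC hC, Finset.sum_congr rfl fun c _ => by
      rw [pairVal_eq hC hF, pairVal_eq hC hF']]
    have h0 := sum_regular_cross hM h2 h2' (fun h => hne (congrArg (Sigma.mk (β := fun Q : Subgroup G => Set (IrrCharacter (Subgroup.centralizer (Q : Set G)))) (Subgroup.zpowers x)) h).symm)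
      (sec x _ F) (sec x _ F')
    rw [Finset.sum_congr rfl fun c _ => mul_mul_mul_comm _ _ _ _, ← Finset.mul_sum, h0, mul_zero]
  · exact fun h => absurd ha h

end CfsgLib.Blocks
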